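/-
Elementary facts on small `p`-groups used for fusion systems on groups of order `p ^ 5`.
-/
import Mathlib
import Cfsg.Agent.Lib.PGroups.Basic

set_option autoImplicit false
set_option linter.unusedSectionVars false

namespace Cfsg.Agent.GStructB.P5

open Subgroup
open scoped commutatorElement

/-! ### Commutator identities -/

section Comm

variable {Q : Type*} [Group Q]

theorem comm_mul_left (x u w : Q) : ⁅x * u, w⁆ = x * ⁅u, w⁆ * x⁻¹ * ⁅x, w⁆ := by
  simp only [commutatorElement_def]; group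

theorem comm_mul_right (x y v : Q) : ⁅x, y * v⁆ = ⁅x, y⁆ * (y * ⁅x, v⁆ * y⁻¹) := by
  simp only [commutatorElement_def]; group

theorem comm_pow_left {x y z : Q} (hz : ⁅x, y⁆ = z) (hzx : Commute z x) (i : ℕ) :
    ⁅x ^ i, y⁆ = z ^ i := by
  induction i with
  | zero => simp [commutatorElement_def]
  | succ i ih =>
    rw [pow_succ' x, comm_mul_left, ih, hz, ← (hzx.pow_left i).eq, mul_inv_cancel_right, ← pow_succ]

theorem comm_pow_right {x y z : Q} (hz : ⁅x, y⁆ = z) (hzy : Commute z y) (j : ℕ) :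
    ⁅x, y ^ j⁆ = z ^ j := by
  induction j with
  | zero => simp [commutatorElement_def]
  | succ j ih =>
    rw [pow_succ' y, comm_mul_right, ih, hz, ← (hzy.pow_left j).eq, mul_inv_cancel_right, ← pow_succ']

/-- The commutator pairing in a central situation. -/
theorem bilin {x y u v z : Q} (hz : ⁅x, y⁆ = z) (hzx : Commute z x) (hzy : Commute z y)
    (huy : Commute u y) (huv : Commute u v) (hxv : Commute x v) (i j : ℕ) :
    ⁅x ^ i * u, y ^ j * v⁆ = z ^ (i * j) := by
  have h1 : ⁅u, y ^ j * v⁆ = 1 :=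
    commutatorElement_eq_one_iff_commute.2 ((huy.pow_right j).mul_right huv)
  have h2 : ⁅x ^ i, v⁆ = 1 := commutatorElement_eq_one_iff_commute.2 (hxv.pow_left i)
  rw [comm_mul_left, h1, mul_one, mul_inv_cancel, one_mul, comm_mul_right, h2, mul_one,
    mul_inv_cancel, mul_one]
  rw [comm_pow_right (comm_pow_left hz hzx i) (hzy.pow_left i) j, ← pow_mul]

/-- The commutator pairing modulo a normal subgroup. -/
theorem bilin_mod {G : Type*} [Group G] (R : Subgroup G) [R.Normal] {x y u v x' y' : G}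
    (hzx : ⁅⁅x, y⁆, x⁆ ∈ R) (hzy : ⁅⁅x, y⁆, y⁆ ∈ R) (huy : ⁅u, y⁆ ∈ R) (huv : ⁅u, v⁆ ∈ R)
    (hxv : ⁅x, v⁆ ∈ R) {i j : ℕ} (hx' : (x ^ i * u)⁻¹ * x' ∈ R) (hy' : (y ^ j * v)⁻¹ * y' ∈ R) :
    (⁅x, y⁆ ^ (i * j))⁻¹ * ⁅x', y'⁆ ∈ R := by
  let π := QuotientGroup.mk' R
  have hc : ∀ a b : G, ⁅a, b⁆ ∈ R → Commute (π a) (π b) := fun a b h => by
    rw [← commutatorElement_eq_one_iff_commute, ← map_commutatorElement]
    exact (QuotientGroup.eq_one_iff _).2 h
  have e1 : π x' = π x ^ i * π u := by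
    rw [← map_pow, ← map_mul]; exact (QuotientGroup.eq.2 hx').symm
  have e2 : π y' = π y ^ j * π v := by
    rw [← map_pow, ← map_mul]; exact (QuotientGroup.eq.2 hy').symm
  have h := bilin (map_commutatorElement π x y).symm (hc _ _ hzx) (hc _ _ hzy) (hc _ _ huy)
    (hc _ _ huv) (hc _ _ hxv) i j
  rw [← e1, ← e2, ← map_commutatorElement, ← map_pow] at h
  exact QuotientGroup.eq.1 h.symm

end Comm

/-! ### Exponents of elements of prime order -/

section Exponent

variable {G : Type*} [Group G] {p : ℕ} [hp : Fact p.Prime]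

theorem zmod_eq {z : G} (hz : z ^ p = 1) (hz1 : z ≠ 1) {i j : ℕ} (h : z ^ i = z ^ j) :
    (i : ZMod p) = (j : ZMod p) := by
  rw [ZMod.natCast_eq_natCast_iff]
  rw [← orderOf_eq_prime hz hz1]
  exact pow_eq_pow_iff_modEq.1 h

theorem pow_congr {z : G} (hz : z ^ p = 1) {i j : ℕ} (h : (i : ZMod p) = (j : ZMod p)) :
    z ^ i = z ^ j := by
  rw [pow_eq_pow_iff_modEq]
  exact ((ZMod.natCast_eq_natCast_iff _ _ _).1 h).of_dvd (orderOf_dvd_of_pow_eq_one hz)

theorem zmod_eq_mod {R : Subgroup G} [R.Normal] {z : G} (hz : z ^ p ∈ R) (hz1 : z ∉ R) {i j : ℕ}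
    (h : (z ^ i)⁻¹ * z ^ j ∈ R) : (i : ZMod p) = (j : ZMod p) := by
  refine zmod_eq (z := QuotientGroup.mk' R z) ?_ (fun h1 => hz1 ((QuotientGroup.eq_one_iff _).1 h1)) ?_
  · rw [← map_pow]; exact (QuotientGroup.eq_one_iff _).2 hz
  · rw [← map_pow, ← map_pow]; exact QuotientGroup.eq.2 h

theorem pow_congr_mod {R : Subgroup G} [R.Normal] {z : G} (hz : z ^ p ∈ R) {i j : ℕ}
    (h : (i : ZMod p) = (j : ZMod p)) : (z ^ i)⁻¹ * z ^ j ∈ R := by
  refine QuotientGroup.eq.1 ?_
  show QuotientGroup.mk' R (z ^ i) = QuotientGroup.mk' R (z ^ j)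
  rw [map_pow, map_pow]
  exact pow_congr (by rw [← map_pow]; exact (QuotientGroup.eq_one_iff _).2 hz) h

end Exponent

/-! ### Finite `p`-groups -/

section PGroup

variable {G : Type*} [Group G] [Finite G] {p : ℕ} [hp : Fact p.Prime]

theorem comm_of_comm_mem {A : Subgroup G} (h : ∀ a ∈ A, ∀ b ∈ A, a * b = b * a) :
    IsMulCommutative A :=
  ⟨⟨fun a b => Subtype.ext (h a a.2 b b.2)⟩⟩

theorem comm_of_mul (A : Subgroup G) [IsMulCommutative A] {a b : G} (ha : a ∈ A) (hb : b ∈ A) :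
    a * b = b * a :=
  congrArg Subtype.val (mul_comm' (⟨a, ha⟩ : A) ⟨b, hb⟩)

theorem eq_of_le_card' {A B : Subgroup G} (h : A ≤ B) (hc : Nat.card B ≤ Nat.card A) : A = B :=
  Subgroup.eq_of_le_of_card_ge h hc

theorem card_exp (hG : IsPGroup p G) (A : Subgroup G) : ∃ k, Nat.card A = p ^ k :=
  IsPGroup.iff_card.1 (hG.to_subgroup A)

theorem succ_le_of_lt (hG : IsPGroup p G) {A B : Subgroup G} (h : A < B) {k : ℕ}
    (hA : Nat.card A = p ^ k) : p ^ (k + 1) ≤ Nat.card B := by
  obtain ⟨l, hl⟩ := card_exp hG B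
  rw [hl]
  refine Nat.pow_le_pow_right hp.out.pos ?_
  have h1 : Nat.card A < Nat.card B := by
    refine lt_of_le_of_ne (Subgroup.card_le_of_le h.le) fun e => h.ne ?_
    exact eq_of_le_card' h.le e.ge
  rw [hA, hl] at h1
  exact (Nat.pow_lt_pow_iff_right hp.out.one_lt).1 h1

theorem le_pred_of_lt (hG : IsPGroup p G) {A B : Subgroup G} (h : A < B) {k : ℕ}
    (hB : Nat.card B = p ^ (k + 1)) : Nat.card A ≤ p ^ k := by
  obtain ⟨l, hl⟩ := card_exp hG A
  rw [hl]
  refine Nat.pow_le_pow_right hp.out.pos ?_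
  have h1 := succ_le_of_lt hG h hl
  rw [hB] at h1
  have := (Nat.pow_le_pow_iff_right hp.out.one_lt).1 h1
  omega

theorem eq_top_of_lt_card (hG : IsPGroup p G) {A : Subgroup G} {k : ℕ}
    (hA : p ^ k < Nat.card A) (hc : Nat.card G = p ^ (k + 1)) : A = ⊤ := by
  by_contra h
  have := le_pred_of_lt (k := k) hG (lt_top_iff_ne_top.2 h) (by rw [Subgroup.card_top]; exact hc)
  omega

/-- A normal subgroup of order `p` is central. -/
theorem central_of_card (hG : IsPGroup p G) {A : Subgroup G} [A.Normal] (hA : Nat.card A = p)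
    {a : G} (ha : a ∈ A) (g : G) : g * a = a * g := by
  have : Group.IsNilpotent G := hG.isNilpotent
  have h : ⁅A, (⊤ : Subgroup G)⁆ < A := by
    refine lt_of_le_of_ne (Subgroup.commutator_le_left _ _) fun e => ?_
    have h1 : A = ⊥ := le_bot_iff.1 (PGroups.Basic.le_of_le_commutator_sup A ⊥ (by rw [e]; exact le_sup_left))
    rw [h1, Subgroup.card_bot] at hA
    exact hp.out.one_lt.ne hA
  have h0 : ⁅A, (⊤ : Subgroup G)⁆ = ⊥ := by
    refine Subgroup.eq_bot_of_card_le _ ?_
    have := le_pred_of_lt (k := 0) hG h (by rw [hA, zero_add, pow_one])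
    simpa using this
  have h1 : ⁅a, g⁆ ∈ (⊥ : Subgroup G) := h0 ▸ Subgroup.commutator_mem_commutator ha (Subgroup.mem_top g)
  exact (commutatorElement_eq_one_iff_commute.1 (Subgroup.mem_bot.1 h1)).eq.symm

/-- A subgroup of index `p` is normal. -/
theorem normal_of_index (hG : IsPGroup p G) {A : Subgroup G} {k : ℕ}
    (hG' : Nat.card G = p ^ (k + 1)) (hA : Nat.card A = p ^ k) : A.Normal := by
  have : Group.IsNilpotent G := hG.isNilpotent
  have hlt : A < ⊤ := by
    refine lt_top_iff_ne_top.2 fun h => ?_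
    rw [h, Subgroup.card_top, hG'] at hA
    exact (Nat.pow_lt_pow_right hp.out.one_lt (Nat.lt_succ_self k)).ne' hA
  have h1 := normalizerCondition_of_isNilpotent A hlt
  have h2 := succ_le_of_lt hG h1 hA
  refine Subgroup.normalizer_eq_top_iff.1 (Subgroup.eq_top_of_le_card _ ?_)
  rw [hG']; exact h2

/-- Two elements of a subgroup differ by a power of a generator modulo a subgroup of index `p`. -/
theorem coord {A B : Subgroup G} (hAB : A ≤ B) (hn : ∀ b ∈ B, ∀ a ∈ A, b * a * b⁻¹ ∈ A)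
    (hcard : Nat.card B = p * Nat.card A) {y : G} (hy : y ∈ B) (hyA : y ∉ A) {x : G} (hx : x ∈ B) :
    ∃ i : ℕ, (y ^ i)⁻¹ * x ∈ A := by
  have hN : (A.subgroupOf B).Normal := ⟨fun a ha b => hn b b.2 a ha⟩
  have hq : Nat.card (B ⧸ A.subgroupOf B) = p := by
    have h := Subgroup.card_eq_card_quotient_mul_card_subgroup (A.subgroupOf B)
    rw [Nat.card_congr (Subgroup.subgroupOfEquivOfLe hAB).toEquiv, hcard] at h
    exact (Nat.eq_of_mul_eq_mul_right Nat.card_pos h).symm
  have hy1 : QuotientGroup.mk' (A.subgroupOf B) ⟨y, hy⟩ ≠ 1 := fun h =>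
    hyA (Subgroup.mem_subgroupOf.1 ((QuotientGroup.eq_one_iff _).1 h))
  obtain ⟨i, hi⟩ := (mem_powers_of_prime_card hq hy1 :
    QuotientGroup.mk' (A.subgroupOf B) ⟨x, hx⟩ ∈ Submonoid.powers _)
  refine ⟨i, ?_⟩
  have h := QuotientGroup.eq.1 ((map_pow (QuotientGroup.mk' (A.subgroupOf B)) ⟨y, hy⟩ i).trans hi)
  simpa [Subgroup.mem_subgroupOf] using h

/-- In a group of order at most `p ^ 2` everything commutes. -/
theorem comm_of_card_le (hG : IsPGroup p G) (h : Nat.card G ≤ p ^ 2) (a b : G) : a * b = b * a := by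
  obtain ⟨k, hk⟩ := IsPGroup.iff_card.1 hG
  rw [hk] at h
  have hk2 : k ≤ 2 := (Nat.pow_le_pow_iff_right hp.out.one_lt).1 h
  interval_cases k
  · have : Subsingleton G := (Nat.card_eq_one_iff_unique.1 (by simpa using hk)).1
    rw [Subsingleton.elim a b]
  · have : IsCyclic G := isCyclic_of_prime_card (p := p) (by simpa using hk)
    exact mul_comm' a b
  · have := IsPGroup.isMulCommutative_of_card_eq_prime_sq (p := p) hk
    exact mul_comm' a b

/-- In a group of order at most `p ^ 3` commutators are central. -/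
theorem comm_central (hG : IsPGroup p G) (h : Nat.card G ≤ p ^ 3) (a b g : G) :
    g * ⁅a, b⁆ = ⁅a, b⁆ * g := by
  rcases subsingleton_or_nontrivial G with h0 | h0
  · exact Subsingleton.elim _ _
  have hz : p ≤ Nat.card (Subgroup.center G) := by
    have := hG.center_nontrivial
    have hz := succ_le_of_lt hG (bot_lt_iff_ne_bot.2 ((Subgroup.nontrivial_iff_ne_bot _).1 this))
      (k := 0) (by simp)
    simpa using hz
  have hq : Nat.card (G ⧸ Subgroup.center G) ≤ p ^ 2 := by
    have h1 := Subgroup.card_eq_card_quotient_mul_card_subgroup (Subgroup.center G)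
    by_contra hlt
    push Not at hlt
    have : p ^ 2 * p < Nat.card G := by
      rw [h1]
      calc p ^ 2 * p < Nat.card (G ⧸ Subgroup.center G) * p :=
            Nat.mul_lt_mul_of_pos_right hlt hp.out.pos
        _ ≤ _ := Nat.mul_le_mul_left _ hz
    rw [← pow_succ] at this
    exact absurd h this.not_ge
  have h1 : QuotientGroup.mk' (Subgroup.center G) ⁅a, b⁆ = 1 := by
    rw [map_commutatorElement, commutatorElement_eq_one_iff_commute]
    exact comm_of_card_le (hG.to_quotient _) hq _ _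
  exact Subgroup.mem_center_iff.1 ((QuotientGroup.eq_one_iff _).1 h1) g

/-- If a subgroup of index at most `p ^ 3` is normal, iterated commutators lie in it. -/
theorem comm_comm_mem (hG : IsPGroup p G) (R : Subgroup G) [R.Normal]
    (h : Nat.card G ≤ Nat.card R * p ^ 3) (a b g : G) : ⁅⁅a, b⁆, g⁆ ∈ R := by
  have hq : Nat.card (G ⧸ R) ≤ p ^ 3 := by
    rw [Subgroup.card_eq_card_quotient_mul_card_subgroup R, mul_comm _ (p ^ 3)] at h
    exact Nat.le_of_mul_le_mul_right h Nat.card_pos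
  refine (QuotientGroup.eq_one_iff _).1 ?_
  show QuotientGroup.mk' R ⁅⁅a, b⁆, g⁆ = 1
  rw [map_commutatorElement, map_commutatorElement, commutatorElement_eq_one_iff_commute]
  exact (comm_central (hG.to_quotient _) hq _ _ _).symm

/-- If a normal subgroup has index at most `p ^ 2`, commutators lie in it. -/
theorem comm_mem (hG : IsPGroup p G) (R : Subgroup G) [R.Normal]
    (h : Nat.card G ≤ Nat.card R * p ^ 2) (a b : G) : ⁅a, b⁆ ∈ R := by
  have hq : Nat.card (G ⧸ R) ≤ p ^ 2 := by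
    rw [Subgroup.card_eq_card_quotient_mul_card_subgroup R, mul_comm _ (p ^ 2)] at h
    exact Nat.le_of_mul_le_mul_right h Nat.card_pos
  refine (QuotientGroup.eq_one_iff _).1 ?_
  show QuotientGroup.mk' R ⁅a, b⁆ = 1
  rw [map_commutatorElement, commutatorElement_eq_one_iff_commute]
  exact comm_of_card_le (hG.to_quotient _) hq _ _

/-- The centralizer of a normal subgroup of order `p ^ 2` with an element of `D` outside a central
subgroup of order `p` containing all `[g, d]` has index at most `p`. -/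
theorem card_centralizer_elt (hG : IsPGroup p G) {Z : Subgroup G} (hZ : Nat.card Z ≤ p)
    (hc : ∀ g : G, ∀ z ∈ Z, g * z = z * g) {d : G} (hd : ∀ g : G, ⁅g, d⁆ ∈ Z) :
    Nat.card G ≤ Nat.card (Subgroup.centralizer ({d} : Set G)) * p := by
  let φ : G →* Z := MonoidHom.mk' (fun g => ⟨⁅g, d⁆, hd g⟩) fun g h => Subtype.ext (by
    show ⁅g * h, d⁆ = ⁅g, d⁆ * ⁅h, d⁆
    rw [comm_mul_left, hc g _ (hd h), mul_inv_cancel_right, hc ⁅g, d⁆ _ (hd h)])
  have hk : φ.ker ≤ Subgroup.centralizer ({d} : Set G) := fun g hg => by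
    rw [Subgroup.mem_centralizer_singleton_iff]
    exact (commutatorElement_eq_one_iff_commute.1 (congrArg Subtype.val (MonoidHom.mem_ker.1 hg))).eq
  have h1 := Subgroup.card_eq_card_quotient_mul_card_subgroup φ.ker
  have h2 : Nat.card (G ⧸ φ.ker) ≤ p := by
    rw [Nat.card_congr (QuotientGroup.quotientKerEquivRange φ).toEquiv]
    exact le_trans (Nat.card_le_card_of_injective _ Subtype.val_injective) hZ
  calc Nat.card G = Nat.card (G ⧸ φ.ker) * Nat.card φ.ker := h1
    _ ≤ p * Nat.card (Subgroup.centralizer ({d} : Set G)) :=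
        Nat.mul_le_mul h2 (Subgroup.card_le_of_le hk)
    _ = _ := mul_comm _ _

end PGroup

end Cfsg.Agent.GStructB.P5
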