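/-
Groups of order `p ^ 5` with a maximal subgroup `N` whose centre `A` has order `p ^ 2` and whose
derived subgroup has order `p`, having automorphisms with prescribed weights.
-/
import Cfsg.Agent.GStructB.P5.Tools

set_option autoImplicit false
set_option linter.unusedSectionVars false

namespace Cfsg.Agent.GStructB.P5

open Subgroup
open scoped commutatorElement

/-- Some element outside a characteristic subgroup with elementary abelian quotient is fixed modulo
this subgroup by all automorphisms. -/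
def Fixed (G : Type*) [Group G] (p : ℕ) : Prop :=
  ∃ W : Subgroup G, commutator G ≤ W ∧ (∀ u : G, u ^ p ∈ W) ∧
    (∀ f : MulAut G, ∀ w ∈ W, f w ∈ W) ∧ ∃ k, k ∉ W ∧ ∀ f : MulAut G, k⁻¹ * f k ∈ W

/-- The data of the configuration. -/
structure Data1 (G : Type*) [Group G] [Finite G] (p : ℕ) where
  N : Subgroup G
  A : Subgroup G
  L : Subgroup G
  e : G
  y : G
  K : G
  cardN : Nat.card N = p ^ 4
  cardA : Nat.card A = p ^ 2
  cardL : Nat.card L = p
  normA : A.Normal
  normL : L.Normal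
  LA : L ≤ A
  AN : A ≤ N
  cent : ∀ a ∈ A, ∀ n ∈ N, a * n = n * a
  comm : ∀ m ∈ N, ∀ n ∈ N, ⁅m, n⁆ ∈ L
  eN : e ∈ N
  yN : y ∉ N
  c_not : ∀ i : ℕ, (e ^ i)⁻¹ * ⁅y, e⁆ ∉ A
  KA : K ∈ A
  KL : K ∉ L
  weights : ∀ a : ℕ, (a : ZMod p) ≠ 0 → ∃ f : MulAut G, (∀ x ∈ N, f x ∈ N) ∧
    (∀ x ∈ A, f x ∈ A) ∧ (∀ x ∈ L, f x ∈ L) ∧ (e ^ a)⁻¹ * f e ∈ A ∧ K⁻¹ * f K ∈ L

variable {G : Type*} [Group G] [Finite G] {p : ℕ} [hp : Fact p.Prime]

theorem exists_nonsquare (hp2 : p ≠ 2) : ∃ a : ℕ, (a : ZMod p) ≠ 0 ∧ ∀ b : ZMod p, b * b ≠ (a : ZMod p) := by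
  obtain ⟨a, ha⟩ := FiniteField.exists_nonsquare (F := ZMod p) (by rw [ZMod.ringChar_zmod_n]; exact hp2)
  refine ⟨a.val, ?_, fun b hb => ha ⟨b, ?_⟩⟩
  · rw [ZMod.natCast_zmod_val]
    rintro rfl
    exact ha ⟨0, by simp⟩
  · rw [hb, ZMod.natCast_zmod_val]

/-- Elements of a subgroup of prime order are powers of each nontrivial element. -/
theorem exists_pow_of_card {L : Subgroup G} (hL : Nat.card L = p) {l : G} (hl : l ∈ L) (hl1 : l ≠ 1)
    {x : G} (hx : x ∈ L) : ∃ i : ℕ, l ^ i = x := by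
  obtain ⟨i, hi⟩ := (mem_powers_of_prime_card hL
    (g := (⟨l, hl⟩ : L)) (fun h => hl1 (congrArg Subtype.val h)) :
    (⟨x, hx⟩ : L) ∈ Submonoid.powers (⟨l, hl⟩ : L))
  exact ⟨i, by simpa using congrArg Subtype.val hi⟩

theorem commutator_map_mem (f : MulAut G) {u : G} (hu : u ∈ commutator G) : f u ∈ commutator G := by
  rw [_root_.commutator_def] at hu ⊢
  have h := Subgroup.map_commutator (⊤ : Subgroup G) ⊤ f.toMonoidHom
  rw [Subgroup.map_top_of_surjective _ f.surjective] at h
  rw [← h]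
  exact Subgroup.mem_map_of_mem f.toMonoidHom hu

theorem pow_card_mem {L : Subgroup G} (hL : Nat.card L = p) {l : G} (hl : l ∈ L) : l ^ p = 1 := by
  have h := pow_card_eq_one' (G := L) (x := ⟨l, hl⟩)
  rw [hL] at h
  simpa using congrArg Subtype.val h

/-- The theorem on the configuration. -/
theorem core1 (hG : Nat.card G = p ^ 5) (hp2 : p ≠ 2)
    (hna : ∀ B : Subgroup G, IsMulCommutative B → Nat.card B ≠ p ^ 4) (d : Data1 G p) :
    Fixed G p ∧ ∀ u ∈ commutator G, u ∈ d.A → u ∈ d.L := by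
  obtain ⟨N, A, L, e, y, K, cardN, cardA, cardL, normA, normL, LA, AN, cent, comm, eN, yN, c_not,
    KA, KL, weights⟩ := d
  dsimp only
  have hpG : IsPGroup p G := IsPGroup.of_card hG
  have hNn : N.Normal := normal_of_index hpG (k := 4) hG cardN
  -- powers in `A` modulo `L`
  have hAL : ∀ a ∈ A, ∃ i : ℕ, (K ^ i)⁻¹ * a ∈ L := fun a ha =>
    coord LA (fun b _ l hl => normL.conj_mem l hl b) (by rw [cardA, cardL, pow_two]) KA KL ha
  have hKp : K ^ p ∈ L := by
    have h : ⟨K, KA⟩ ^ p ∈ L.subgroupOf A := by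
      have hn : (L.subgroupOf A).Normal := normL.subgroupOf A
      have hc : Nat.card (A ⧸ L.subgroupOf A) = p := by
        have h := Subgroup.card_eq_card_quotient_mul_card_subgroup (L.subgroupOf A)
        rw [Nat.card_congr (Subgroup.subgroupOfEquivOfLe LA).toEquiv, cardA, cardL, pow_two] at h
        exact (Nat.eq_of_mul_eq_mul_right hp.out.pos h).symm
      refine (QuotientGroup.eq_one_iff _).1 ?_
      show QuotientGroup.mk' (L.subgroupOf A) (⟨K, KA⟩ ^ p) = 1
      have h2 := pow_card_eq_one' (x := QuotientGroup.mk' (L.subgroupOf A) ⟨K, KA⟩)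
      rw [hc] at h2
      rw [map_pow]; exact h2
    exact h
  have hyA : ∀ g : G, ∀ a ∈ A, ⁅g, a⁆ ∈ L := by
    intro g a ha
    have hq : (A.map (QuotientGroup.mk' L)).Normal := normA.map _ (QuotientGroup.mk'_surjective L)
    have hc : Nat.card (A.map (QuotientGroup.mk' L)) = p := by
      refine le_antisymm ?_ ?_
      · let ψ : ℕ → (A.map (QuotientGroup.mk' L)) := fun i =>
          ⟨QuotientGroup.mk' L (K ^ i), Subgroup.mem_map_of_mem _ (pow_mem KA i)⟩
        have hs : Function.Surjective (fun i : Fin p => ψ i) := by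
          rintro ⟨_, a, ha, rfl⟩
          obtain ⟨i, hi⟩ := hAL a ha
          refine ⟨⟨i % p, Nat.mod_lt _ hp.out.pos⟩, Subtype.ext ?_⟩
          show QuotientGroup.mk' L (K ^ (i % p)) = QuotientGroup.mk' L a
          refine Eq.trans ?_ (QuotientGroup.eq.2 hi)
          exact QuotientGroup.eq.2 (pow_congr_mod hKp (by simp))
        simpa using Nat.card_le_card_of_surjective _ hs
      · have hne : (A.map (QuotientGroup.mk' L)) ≠ ⊥ := fun h => KL <| (QuotientGroup.eq_one_iff K).1
          (Subgroup.mem_bot.1 (h ▸ Subgroup.mem_map_of_mem (QuotientGroup.mk' L) KA))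
        simpa using succ_le_of_lt (hpG.to_quotient L) (bot_lt_iff_ne_bot.2 hne) (k := 0) (by simp)
    refine (QuotientGroup.eq_one_iff _).1 ?_
    show QuotientGroup.mk' L ⁅g, a⁆ = 1
    rw [map_commutatorElement, commutatorElement_eq_one_iff_commute]
    exact central_of_card (hpG.to_quotient L) hc (Subgroup.mem_map_of_mem _ ha) _
  set c := ⁅y, e⁆ with hc0
  have cN : c ∈ N := by
    rw [hc0, commutatorElement_def]
    exact N.mul_mem (hNn.conj_mem e eN y) (N.inv_mem eN)
  have cA : c ∉ A := fun h => c_not 0 (by simpa using h)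
  have eA : e ∉ A := fun h => cA (by
    rw [hc0, commutatorElement_def]
    exact A.mul_mem (normA.conj_mem e h y) (A.inv_mem h))
  -- `A ⊔ ⟨c⟩`
  set A₁ := A ⊔ zpowers c with hA1
  have hA1c : ∀ u ∈ A₁, u * c = c * u := by
    intro u hu
    rw [hA1, sup_eq_closure] at hu
    induction hu using Subgroup.closure_induction with
    | mem u hu =>
      rcases hu with hu | hu
      · exact cent u hu c cN
      · obtain ⟨i, rfl⟩ := hu; exact (Commute.refl c).zpow_left i
    | one => simp
    | mul a b _ _ ha hb => exact ((show Commute a c from ha).mul_left hb).eq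
    | inv a _ ha => exact ((show Commute a c from ha).inv_left).eq
  have hA1N : A₁ ≤ N := sup_le AN ((zpowers_le).2 cN)
  have hA1comm : IsMulCommutative A₁ := by
    refine comm_of_comm_mem fun a ha b hb => ?_
    rw [hA1, sup_eq_closure] at hb
    induction hb using Subgroup.closure_induction with
    | mem u hu =>
      rcases hu with hu | hu
      · exact (cent u hu a (hA1N ha)).symm
      · obtain ⟨i, rfl⟩ := hu; exact ((show Commute a c from hA1c a ha).zpow_right i).eq
    | one => simp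
    | mul u v _ _ hu hv => exact ((show Commute a u from hu).mul_right hv).eq
    | inv u _ hu => exact ((show Commute a u from hu).inv_right).eq
  have cardA1 : Nat.card A₁ = p ^ 3 := by
    have h1 := succ_le_of_lt hpG (lt_of_le_of_ne (le_sup_left : A ≤ A₁) fun h =>
      cA (h ▸ Subgroup.mem_sup_right (mem_zpowers c))) cardA
    have h2 : A₁ < N := lt_of_le_of_ne hA1N fun h => hna A₁ hA1comm (by rw [h, cardN])
    exact le_antisymm (le_pred_of_lt hpG h2 cardN) h1
  have hA1n : ∀ b ∈ N, ∀ a ∈ A₁, b * a * b⁻¹ ∈ A₁ := fun b hb a ha => by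
    have h := LA (comm b hb a (hA1N ha))
    have : b * a * b⁻¹ = ⁅b, a⁆ * a := by rw [commutatorElement_def]; group
    rw [this]; exact A₁.mul_mem (Subgroup.mem_sup_left h) ha
  have hA1coord : ∀ u ∈ A₁, ∃ i : ℕ, (c ^ i)⁻¹ * u ∈ A := fun u hu =>
    coord (le_sup_left : A ≤ A₁) (fun b _ a ha => normA.conj_mem a ha b)
      (by rw [cardA1, cardA]; ring) (Subgroup.mem_sup_right (mem_zpowers c)) cA hu
  have eA1 : e ∉ A₁ := by
    intro h
    obtain ⟨i, hi⟩ := hA1coord e h
    obtain ⟨j, hj⟩ := coord (le_sup_left : A ≤ A₁) (fun b _ a ha => normA.conj_mem a ha b)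
      (by rw [cardA1, cardA]; ring) h eA (Subgroup.mem_sup_right (mem_zpowers c))
    exact c_not j hj
  have hNcoord : ∀ n ∈ N, ∃ i : ℕ, (e ^ i)⁻¹ * n ∈ A₁ := fun n hn =>
    coord hA1N hA1n (by rw [cardN, cardA1]; ring) eN eA1 hn
  set l₀ := ⁅e, c⁆ with hl0
  have l0L : l₀ ∈ L := comm e eN c cN
  have l01 : l₀ ≠ 1 := by
    intro h
    have hec : Commute e c := commutatorElement_eq_one_iff_commute.1 h
    refine hna N (comm_of_comm_mem fun a ha b hb => ?_) cardN
    have he : ∀ n ∈ N, Commute e n := by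
      intro n hn
      obtain ⟨i, hi⟩ := hNcoord n hn
      obtain ⟨j, hj⟩ := hA1coord _ hi
      have h1 : n = e ^ i * (c ^ j * ((c ^ j)⁻¹ * ((e ^ i)⁻¹ * n))) := by group
      rw [h1]
      exact ((Commute.refl e).pow_right i).mul_right ((hec.pow_right j).mul_right
        (show Commute e _ from (cent _ hj e eN).symm))
    obtain ⟨i, hi⟩ := hNcoord a ha
    obtain ⟨j, hj⟩ := hNcoord b hb
    have h1 : Commute ((e ^ i)⁻¹ * a) ((e ^ j)⁻¹ * b) := comm_of_mul A₁ hi hj
    have h2 : Commute (e ^ i * ((e ^ i)⁻¹ * a)) (e ^ j * ((e ^ j)⁻¹ * b)) :=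
      Commute.mul_left (((Commute.refl e).pow_pow i j).mul_right ((he _ (hA1N hj)).pow_left i))
        ((((he _ (hA1N hi)).symm).pow_right j).mul_right h1)
    simpa using h2.eq
  have hLc : ∀ g : G, ∀ l ∈ L, g * l = l * g := fun g l hl => central_of_card hpG cardL hl g
  have hycA : ⁅y, c⁆ ∈ A := by
    have := comm_comm_mem hpG A (by rw [hG, cardA, ← pow_add]) y e y
    rw [← commutatorElement_inv]
    exact A.inv_mem this
  have hcA' : ∀ g : G, ⁅c, g⁆ ∈ A := fun g =>
    comm_comm_mem hpG A (by rw [hG, cardA, ← pow_add]) y e g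
  have hyp : y ^ p ∈ N := by
    have hc : Nat.card (G ⧸ N) = p := by
      have h := Subgroup.card_eq_card_quotient_mul_card_subgroup N
      rw [hG, cardN, pow_succ'] at h
      exact (Nat.eq_of_mul_eq_mul_right (pow_pos hp.out.pos 4) h).symm
    refine (QuotientGroup.eq_one_iff _).1 ?_
    show QuotientGroup.mk' N (y ^ p) = 1
    have h2 := pow_card_eq_one' (x := QuotientGroup.mk' N y)
    rw [hc] at h2
    rw [map_pow]; exact h2
  have hGcoord : ∀ g : G, ∃ i : ℕ, (y ^ i)⁻¹ * g ∈ N := fun g =>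
    coord (le_top : N ≤ ⊤) (fun b _ a ha => hNn.conj_mem a ha b)
      (by rw [Subgroup.card_top, hG, cardN]; ring) (mem_top y) yN (mem_top g)
  -- weights
  have hw : ∀ a : ℕ, (a : ZMod p) ≠ 0 → ∃ (f : MulAut G) (b : ℕ) (n : G), (b : ZMod p) ≠ 0 ∧
      n ∈ N ∧ f y = y ^ b * n ∧ (∀ x ∈ L, f x ∈ L) ∧ K⁻¹ * f K ∈ L ∧ (e ^ a)⁻¹ * f e ∈ A ∧
      (c ^ (b * a))⁻¹ * f c ∈ A ∧ f l₀ = l₀ ^ (a * (b * a)) := by
    intro a ha
    obtain ⟨f, fN, fA, fL, fe, fK⟩ := weights a ha
    obtain ⟨b, hb⟩ := hGcoord (f y)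
    have hfy : f y = y ^ b * ((y ^ b)⁻¹ * f y) := by group
    have hb0 : (b : ZMod p) ≠ 0 := by
      intro h
      apply yN
      obtain ⟨q, hq⟩ : p ∣ b := (ZMod.natCast_eq_zero_iff b p).1 h
      have h1 : f y ∈ N := by
        rw [hfy, hq, pow_mul]; rw [hq, pow_mul] at hb
        exact N.mul_mem (pow_mem hyp q) hb
      have h2 : ∃ x ∈ N, f x = f y := by
        have hbij : Function.Surjective (fun x : N => (⟨f x, fN x x.2⟩ : N)) :=
          Finite.surjective_of_injective fun a b h => Subtype.ext (f.injective (congrArg Subtype.val h))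
        obtain ⟨x, hx⟩ := hbij ⟨f y, h1⟩
        exact ⟨x, x.2, congrArg Subtype.val hx⟩
      obtain ⟨x, hx, hxy⟩ := h2
      exact f.injective hxy ▸ hx
    have fc : (c ^ (b * a))⁻¹ * f c ∈ A := by
      rw [hc0, map_commutatorElement]
      refine bilin_mod A (u := (y ^ b)⁻¹ * f y) (v := 1) (hcA' y) (hcA' e) (LA (comm _ hb _ eN)) ?_ ?_ ?_ ?_
      · rw [(commutatorElement_eq_one_iff_commute.2 (Commute.one_right _))]; exact A.one_mem
      · rw [(commutatorElement_eq_one_iff_commute.2 (Commute.one_right _))]; exact A.one_mem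
      · rw [← mul_assoc, mul_inv_cancel, one_mul, inv_mul_cancel]; exact A.one_mem
      · simpa using fe
    refine ⟨f, b, _, hb0, hb, hfy, fL, fK, fe, fc, ?_⟩
    rw [hl0, map_commutatorElement]
    have hα : f e = e ^ a * ((e ^ a)⁻¹ * f e) := by group
    have hγ : f c = c ^ (b * a) * ((c ^ (b * a))⁻¹ * f c) := by group
    rw [hα, hγ]
    exact bilin rfl (show Commute l₀ e from (hLc e _ l0L).symm) (show Commute l₀ c from (hLc c _ l0L).symm)
      (cent _ fe c cN) (cent _ fe _ (AN fc)) (show Commute e _ from (cent _ fc e eN).symm) _ _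
  -- `[y, c] ∈ L`
  have hycL : ⁅y, c⁆ ∈ L := by
    obtain ⟨i, hi⟩ := hAL _ hycA
    by_contra hnot
    obtain ⟨a, ha, hns⟩ := exists_nonsquare (p := p) hp2
    obtain ⟨f, b, n, hb0, hn, fy, fL, fK, fe, fc, -⟩ := hw a ha
    have h1 : (⁅y, c⁆ ^ (b * (b * a)))⁻¹ * ⁅f y, f c⁆ ∈ L := by
      refine bilin_mod L (u := n) (v := (c ^ (b * a))⁻¹ * f c) ?_ ?_ (comm n hn c cN) (comm n hn _ (AN fc))
        (hyA y _ fc) (by rw [fy, inv_mul_cancel]; exact L.one_mem)
        (by rw [← mul_assoc, mul_inv_cancel, one_mul, inv_mul_cancel]; exact L.one_mem)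
      · rw [← commutatorElement_inv]; exact L.inv_mem (hyA y _ hycA)
      · exact comm _ (AN hycA) c cN
    rw [← map_commutatorElement] at h1
    -- `f` fixes `[y, c]` modulo `L`
    have h2 : ⁅y, c⁆⁻¹ * f ⁅y, c⁆ ∈ L := by
      let π := QuotientGroup.mk' L
      refine QuotientGroup.eq.1 ?_
      show π ⁅y, c⁆ = π (f ⁅y, c⁆)
      have hkf : π (f K) = π K := (QuotientGroup.eq.2 fK).symm
      have hz : π ⁅y, c⁆ = π K ^ i := by rw [← map_pow]; exact (QuotientGroup.eq.2 hi).symm
      have hz2 : π (f ⁅y, c⁆) = π (f K) ^ i := by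
        rw [← map_pow, ← map_pow]
        refine (QuotientGroup.eq.2 ?_).symm
        rw [← map_inv, ← map_mul]; exact fL _ hi
      rw [hz, hz2, hkf]
    have h3 : (⁅y, c⁆ ^ (b * (b * a)))⁻¹ * ⁅y, c⁆ ^ 1 ∈ L := by
      rw [pow_one]
      exact QuotientGroup.eq.1 ((QuotientGroup.eq.2 h1).trans (QuotientGroup.eq.2 h2).symm)
    have hp' : ⁅y, c⁆ ^ p ∈ L := by
      let π := QuotientGroup.mk' L
      refine (QuotientGroup.eq_one_iff _).1 ?_
      show π (⁅y, c⁆ ^ p) = 1
      have hz : π ⁅y, c⁆ = π K ^ i := by rw [← map_pow]; exact (QuotientGroup.eq.2 hi).symm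
      rw [map_pow, hz, ← pow_mul, mul_comm, pow_mul, ← map_pow]
      rw [show π (K ^ p) = 1 from (QuotientGroup.eq_one_iff _).2 hKp, one_pow]
    have h4 := zmod_eq_mod hp' hnot h3
    push_cast at h4
    refine hns ((b : ZMod p))⁻¹ ?_
    field_simp
    linear_combination -h4
  -- adjust `y`
  obtain ⟨j, hj⟩ := exists_pow_of_card cardL l0L l01 (L.inv_mem hycL)
  set y' := y * e ^ j with hy'
  have hy'N : y' ∉ N := fun h => yN (by simpa [hy'] using N.mul_mem h (N.inv_mem (pow_mem eN j)))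
  have hy'c : ⁅y', c⁆ = 1 := by
    rw [hy', comm_mul_left, comm_pow_left hl0.symm (show Commute l₀ e from (hLc e _ l0L).symm), hj,
      hLc y _ (L.inv_mem hycL), mul_inv_cancel_right, inv_mul_cancel]
  have hy'e : ⁅y', e⁆ = c := by
    rw [hy', comm_mul_left, commutatorElement_eq_one_iff_commute.2 ((Commute.refl e).pow_left j)]
    simp [hc0]
  have hy'a : ∀ a ∈ A, ⁅y', a⁆ = ⁅y, a⁆ := fun a ha => by
    rw [hy', comm_mul_left, commutatorElement_eq_one_iff_commute.2
      (show Commute (e ^ j) a from (cent a ha _ (pow_mem eN j)).symm)]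
    simp
  have hyK : ⁅y, K⁆ ≠ 1 := by
    intro h
    have hcA1 : ∀ u ∈ A₁, Commute y' u := by
      intro u hu
      obtain ⟨i, hi⟩ := hA1coord u hu
      obtain ⟨k, hk⟩ := hAL _ hi
      have h1 : u = c ^ i * (K ^ k * ((K ^ k)⁻¹ * ((c ^ i)⁻¹ * u))) := by group
      rw [h1]
      refine ((commutatorElement_eq_one_iff_commute.1 hy'c).pow_right i).mul_right
        (((commutatorElement_eq_one_iff_commute.1 ((hy'a K KA).trans h)).pow_right k).mul_right ?_)
      exact (hLc y' _ hk : Commute y' _)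
    have hB : IsMulCommutative (closure ((A₁ : Set G) ∪ {y'})) := by
      refine Subgroup.isMulCommutative_closure ?_
      rintro a (ha | rfl) b (hb | rfl)
      · exact comm_of_mul A₁ ha hb
      · exact (hcA1 a ha).eq.symm
      · exact (hcA1 b hb).eq
      · rfl
    set B := closure ((A₁ : Set G) ∪ {y'})
    have hlt : A₁ < B := lt_of_le_of_ne (fun u hu => subset_closure (Or.inl hu)) fun h =>
      hy'N (hA1N (h ▸ subset_closure (Or.inr rfl)))
    have h1 := succ_le_of_lt hpG hlt cardA1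
    obtain ⟨k, hk⟩ := card_exp hpG B
    have hk4 : p ^ 4 ≤ p ^ k := hk ▸ h1
    have hk5 : k ≤ 5 := (Nat.pow_le_pow_iff_right hp.out.one_lt).1 (hk ▸ hG ▸ Subgroup.card_le_card_group B)
    rcases (show k = 4 ∨ k = 5 by have := (Nat.pow_le_pow_iff_right hp.out.one_lt).1 hk4; omega) with rfl | rfl
    · exact hna B hB hk
    · have hB5 : B = ⊤ := Subgroup.eq_top_of_card_eq B (by rw [hk, hG])
      exact l01 (commutatorElement_eq_one_iff_commute.2 (comm_of_mul B (hB5 ▸ mem_top e) (hB5 ▸ mem_top c)))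
  have hm1 : ⁅y', K⁆ ≠ 1 := (hy'a K KA).symm ▸ hyK
  have hmL : ⁅y', K⁆ ∈ L := hyA y' K KA
  -- `p = 3`
  have hp3 : p = 3 := by
    by_contra hne
    have h2 : ((2 : ℕ) : ZMod p) ≠ 0 := by
      rw [Ne, ZMod.natCast_eq_zero_iff]
      exact fun h => hp2 ((Nat.prime_dvd_prime_iff_eq hp.out Nat.prime_two).1 h)
    obtain ⟨f, b, n, hb0, hn, fy, fL, fK, fe, fc, fl⟩ := hw 2 h2
    obtain ⟨m, hm⟩ := exists_pow_of_card cardL l0L l01 (hyA y K KA)
    have h1 : ⁅f y, f K⁆ = ⁅y, K⁆ ^ (b * 1) := by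
      rw [fy, show f K = K ^ 1 * (K⁻¹ * f K) by group]
      exact bilin rfl (show Commute _ y from (hLc y _ (hyA y K KA)).symm)
        (show Commute _ K from (hLc K _ (hyA y K KA)).symm) (cent K KA n hn).symm
        (show Commute n _ from hLc n _ fK) (show Commute y _ from hLc y _ fK) _ _
    rw [← map_commutatorElement, ← hm, map_pow, fl, ← pow_mul, ← pow_mul] at h1
    have h3 := zmod_eq (pow_card_mem cardL l0L) l01 h1
    push_cast at h3
    have hm0 : (m : ZMod p) ≠ 0 := fun h => hyK (by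
      rw [← hm, ← pow_zero l₀]
      exact pow_congr (pow_card_mem cardL l0L) (by simpa using h))
    have h4 : ((3 : ℕ) : ZMod p) = 0 := by
      have h5 : (3 : ZMod p) * ((b : ZMod p) * m) = 0 := by linear_combination h3
      rcases mul_eq_zero.1 h5 with h6 | h6
      · exact_mod_cast h6
      · exact absurd h6 (mul_ne_zero hb0 hm0)
    exact hne ((Nat.prime_dvd_prime_iff_eq hp.out Nat.prime_three).1 ((ZMod.natCast_eq_zero_iff 3 p).1 h4))
  -- the derived subgroup
  set W := zpowers c ⊔ L with hW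
  have hLW : L ≤ W := le_sup_right
  have hcW : c ∈ W := Subgroup.mem_sup_left (mem_zpowers c)
  have hcp : c ^ p ∈ L := by
    have h1 : ∀ g : G, ⁅c, g⁆ ∈ L → Commute (QuotientGroup.mk' L c) (QuotientGroup.mk' L g) := fun g hg => by
      rw [← commutatorElement_eq_one_iff_commute, ← map_commutatorElement]
      exact (QuotientGroup.eq_one_iff _).2 hg
    have hcy : ⁅c, y⁆ ∈ L := by rw [← commutatorElement_inv]; exact L.inv_mem hycL
    refine (QuotientGroup.eq_one_iff _).1 ?_
    show QuotientGroup.mk' L (c ^ p) = 1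
    rw [map_pow, ← comm_pow_left (x := QuotientGroup.mk' L y) (y := QuotientGroup.mk' L e)
      (map_commutatorElement _ _ _).symm (h1 y hcy), ← map_pow, ← map_commutatorElement]
    exact (QuotientGroup.eq_one_iff _).2 (comm _ hyp e eN)
  have hWcoord : ∀ w ∈ W, ∃ i : ℕ, (c ^ i)⁻¹ * w ∈ L := by
    intro w hw
    obtain ⟨u, ⟨i, rfl⟩, l, hl, rfl⟩ := Subgroup.mem_sup_of_normal_right.1 hw
    obtain ⟨k, hk⟩ : ∃ k : ℕ, (p : ℤ) ∣ i - k :=
      ⟨(i % (p : ℤ)).toNat, by
        rw [Int.toNat_of_nonneg (Int.emod_nonneg i (by exact_mod_cast hp.out.ne_zero))]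
        exact Int.dvd_self_sub_emod⟩
    obtain ⟨q, hq⟩ := hk
    refine ⟨k, ?_⟩
    show (c ^ k)⁻¹ * (c ^ i * l) ∈ L
    rw [show i = (k : ℤ) + (p : ℤ) * q by linarith, zpow_add, zpow_natCast, zpow_mul, zpow_natCast,
      ← mul_assoc, ← mul_assoc, inv_mul_cancel, one_mul]
    exact L.mul_mem (zpow_mem hcp q) hl
  have hy'cL : ∀ g : G, ⁅g, c⁆ ∈ L := by
    intro g
    obtain ⟨i, hi⟩ := hGcoord g
    have hyc' : ⁅y ^ i, c⁆ ∈ L := by
      refine (QuotientGroup.eq_one_iff _).1 ?_
      show QuotientGroup.mk' L ⁅y ^ i, c⁆ = 1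
      have h1 : ⁅QuotientGroup.mk' L y, QuotientGroup.mk' L c⁆ = 1 := by
        rw [← map_commutatorElement]; exact (QuotientGroup.eq_one_iff _).2 hycL
      rw [map_commutatorElement, map_pow, commutatorElement_eq_one_iff_commute]
      exact (commutatorElement_eq_one_iff_commute.1 h1).pow_left i
    rw [show g = y ^ i * ((y ^ i)⁻¹ * g) by group, comm_mul_left]
    exact L.mul_mem (normL.conj_mem _ (comm _ hi c cN) _) hyc'
  have hWn : W.Normal := by
    refine ⟨fun w hw g => ?_⟩
    obtain ⟨i, hi⟩ := hWcoord w hw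
    have h1 : g * w * g⁻¹ = (g * c * g⁻¹) ^ i * (g * ((c ^ i)⁻¹ * w) * g⁻¹) := by
      rw [conj_pow]; group
    rw [h1]
    refine W.mul_mem (pow_mem ?_ i) (hLW (normL.conj_mem _ hi g))
    rw [show g * c * g⁻¹ = ⁅g, c⁆ * c by rw [commutatorElement_def]; group]
    exact W.mul_mem (hLW (hy'cL g)) hcW
  have hA1W : ∀ u ∈ A₁, ∃ k : ℕ, (K ^ k)⁻¹ * u ∈ W := by
    intro u hu
    obtain ⟨i, hi⟩ := hA1coord u hu
    obtain ⟨k, hk⟩ := hAL _ hi
    refine ⟨k, ?_⟩
    have h1 : Commute ((K ^ k)⁻¹) (c ^ i) :=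
      ((show Commute K c from cent K KA c cN).pow_pow k i).inv_left
    rw [show (K ^ k)⁻¹ * u = (K ^ k)⁻¹ * c ^ i * ((c ^ i)⁻¹ * u) by group, h1.eq, mul_assoc]
    exact W.mul_mem (pow_mem hcW i) (hLW hk)
  have hy'coord : ∀ g : G, ∃ i j k : ℕ, (y' ^ i * e ^ j * K ^ k)⁻¹ * g ∈ W := by
    intro g
    obtain ⟨i, hi⟩ := coord (le_top : N ≤ ⊤) (fun b _ a ha => hNn.conj_mem a ha b)
      (by rw [Subgroup.card_top, hG, cardN]; ring) (mem_top y') hy'N (mem_top g)
    obtain ⟨j, hj⟩ := hNcoord _ hi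
    obtain ⟨k, hk⟩ := hA1W _ hj
    exact ⟨i, j, k, by simpa [mul_assoc] using hk⟩
  let π := QuotientGroup.mk' W
  have hWπ : ∀ {u : G}, u ∈ W → π u = 1 := fun hu => (QuotientGroup.eq_one_iff _).2 hu
  have hgen : ∀ g : G, ∃ i j k : ℕ, π g = π y' ^ i * π e ^ j * π K ^ k := by
    intro g
    obtain ⟨i, j, k, h⟩ := hy'coord g
    exact ⟨i, j, k, by rw [← map_pow, ← map_pow, ← map_pow, ← map_mul, ← map_mul]; exact (QuotientGroup.eq.2 h).symm⟩
  have c1 : Commute (π y') (π e) := by
    rw [← commutatorElement_eq_one_iff_commute, ← map_commutatorElement, hy'e]; exact hWπ hcW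
  have c2 : Commute (π y') (π K) := by
    rw [← commutatorElement_eq_one_iff_commute, ← map_commutatorElement]; exact hWπ (hLW hmL)
  have c3 : Commute (π e) (π K) := (show Commute e K from (cent K KA e eN).symm).map π
  have hab : ∀ g h : G, Commute (π g) (π h) := by
    intro g h
    have key : ∀ v : G ⧸ W, Commute (π y') v → Commute (π e) v → Commute (π K) v → Commute (π g) v := by
      intro v h1 h2 h3
      obtain ⟨i, j, k, hg⟩ := hgen g
      rw [hg]
      exact ((h1.pow_left i).mul_left (h2.pow_left j)).mul_left (h3.pow_left k)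
    obtain ⟨i, j, k, hh⟩ := hgen h
    rw [hh]
    exact (((key _ (Commute.refl _) c1.symm c2.symm).pow_right i).mul_right
      ((key _ c1 (Commute.refl _) c3.symm).pow_right j)).mul_right
      ((key _ c2 c3 (Commute.refl _)).pow_right k)
  have hcom : commutator G = W := by
    refine le_antisymm ?_ ?_
    · rw [_root_.commutator_def, Subgroup.commutator_le]
      intro g _ h _
      refine (QuotientGroup.eq_one_iff _).1 ?_
      show π ⁅g, h⁆ = 1
      rw [map_commutatorElement, commutatorElement_eq_one_iff_commute]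
      exact hab g h
    · refine sup_le (zpowers_le.2 ?_) fun l hl => ?_
      · rw [_root_.commutator_def]; exact commutator_mem_commutator (mem_top y) (mem_top e)
      · obtain ⟨i, rfl⟩ := exists_pow_of_card cardL l0L l01 hl
        refine pow_mem ?_ i
        rw [_root_.commutator_def]; exact commutator_mem_commutator (mem_top e) (mem_top c)
  have hep : e ^ p ∈ L := by
    have hm : e ^ p ∈ A := by
      obtain ⟨i, hi⟩ := hA1coord (e ^ p) (by
        have hn : (A₁.subgroupOf N).Normal := ⟨fun a ha b => hA1n b b.2 a ha⟩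
        have hc : Nat.card (N ⧸ A₁.subgroupOf N) = p := by
          have h := Subgroup.card_eq_card_quotient_mul_card_subgroup (A₁.subgroupOf N)
          rw [Nat.card_congr (Subgroup.subgroupOfEquivOfLe hA1N).toEquiv, cardN, cardA1, pow_succ'] at h
          exact (Nat.eq_of_mul_eq_mul_right (pow_pos hp.out.pos 3) h).symm
        have h : (⟨e, eN⟩ : N) ^ p ∈ A₁.subgroupOf N := by
          refine (QuotientGroup.eq_one_iff _).1 ?_
          show QuotientGroup.mk' _ ((⟨e, eN⟩ : N) ^ p) = 1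
          have h2 := pow_card_eq_one' (x := QuotientGroup.mk' (A₁.subgroupOf N) ⟨e, eN⟩)
          rw [hc] at h2
          rw [map_pow]; exact h2
        exact h)
      have hcp' : c ^ p ∈ A := LA hcp
      have hc1 : Commute (e ^ p) e := (Commute.refl e).pow_left p
      have hci : Commute (c ^ i) e := by
        have h1 : e ^ p = c ^ i * ((c ^ i)⁻¹ * e ^ p) := by group
        have h2 : Commute ((c ^ i)⁻¹ * e ^ p) e := cent _ hi e eN
        rw [h1] at hc1
        simpa [mul_assoc] using hc1.mul_left h2.inv_left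
      have h3 : l₀ ^ i = 1 := by
        rw [← comm_pow_right hl0.symm (show Commute l₀ c from (hLc c _ l0L).symm)]
        exact commutatorElement_eq_one_iff_commute.2 hci.symm
      have h4 : (i : ZMod p) = ((0 : ℕ) : ZMod p) := zmod_eq (pow_card_mem cardL l0L) l01 (by rw [h3, pow_zero])
      have h5 : c ^ i ∈ A := by
        obtain ⟨q, hq⟩ := (ZMod.natCast_eq_zero_iff i p).1 (by simpa using h4)
        rw [hq, pow_mul]; exact pow_mem hcp' q
      simpa using A.mul_mem h5 hi
    obtain ⟨i, hi⟩ := hAL _ hm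
    by_contra hnot
    have h2 : ((2 : ℕ) : ZMod p) ≠ 0 := by
      rw [Ne, ZMod.natCast_eq_zero_iff]
      exact fun h => hp2 ((Nat.prime_dvd_prime_iff_eq hp.out Nat.prime_two).1 h)
    obtain ⟨f, b, n, hb0, hn, fy, fL, fK, fe, fc, fl⟩ := hw 2 h2
    let ρ := QuotientGroup.mk' L
    have hαp : ρ ((e ^ 2)⁻¹ * f e) ^ p = 1 := by
      obtain ⟨k, hk⟩ := hAL _ fe
      rw [show ρ ((e ^ 2)⁻¹ * f e) = ρ (K ^ k) from (QuotientGroup.eq.2 hk).symm, map_pow, ← pow_mul,
        mul_comm, pow_mul, ← map_pow, show ρ (K ^ p) = 1 from (QuotientGroup.eq_one_iff _).2 hKp, one_pow]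
    have hfep : ρ (f (e ^ p)) = ρ (e ^ p) ^ 2 := by
      rw [map_pow f, show f e = e ^ 2 * ((e ^ 2)⁻¹ * f e) by group, map_pow ρ, map_mul,
        ((show Commute (e ^ 2) _ from (cent _ fe _ (pow_mem eN 2)).symm).map ρ).mul_pow, hαp, mul_one,
        map_pow, map_pow, ← pow_mul, ← pow_mul, mul_comm]
    have hz : ρ (e ^ p) = ρ K ^ i := by rw [← map_pow ρ K]; exact (QuotientGroup.eq.2 hi).symm
    have hz2 : ρ (f (e ^ p)) = ρ (f K) ^ i := by
      rw [← map_pow ρ, ← map_pow f]
      refine (QuotientGroup.eq.2 ?_).symm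
      rw [← map_inv, ← map_mul]; exact fL _ hi
    rw [hz2, show ρ (f K) = ρ K from (QuotientGroup.eq.2 fK).symm, ← hz, pow_two, left_eq_mul] at hfep
    exact hnot ((QuotientGroup.eq_one_iff _).1 hfep)
  have hy'p : y' ^ p ∈ W := by
    have hyN' : y' ^ p ∈ N := by
      have hc : Nat.card (G ⧸ N) = p := by
        have h := Subgroup.card_eq_card_quotient_mul_card_subgroup N
        rw [hG, cardN, pow_succ'] at h
        exact (Nat.eq_of_mul_eq_mul_right (pow_pos hp.out.pos 4) h).symm
      refine (QuotientGroup.eq_one_iff _).1 ?_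
      show QuotientGroup.mk' N (y' ^ p) = 1
      have h2 := pow_card_eq_one' (x := QuotientGroup.mk' N y')
      rw [hc] at h2
      rw [map_pow]; exact h2
    have hc' : Commute (y' ^ p) c := (commutatorElement_eq_one_iff_commute.1 hy'c).pow_left p
    obtain ⟨i, hi⟩ := hNcoord _ hyN'
    have h3 : l₀ ^ i = 1 := by
      rw [← comm_pow_left hl0.symm (show Commute l₀ e from (hLc e _ l0L).symm)]
      refine commutatorElement_eq_one_iff_commute.2 ?_
      have h2 : Commute ((e ^ i)⁻¹ * y' ^ p) c := hA1c _ hi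
      have := hc'.mul_left h2.inv_left
      simpa [mul_assoc] using this
    have h4 : (i : ZMod p) = ((0 : ℕ) : ZMod p) := zmod_eq (pow_card_mem cardL l0L) l01 (by rw [h3, pow_zero])
    obtain ⟨q, hq⟩ := (ZMod.natCast_eq_zero_iff i p).1 (by simpa using h4)
    have hAy : y' ^ p ∈ A₁ := by
      have h5 : (e ^ i) ∈ A₁ := by
        rw [hq, pow_mul]; exact pow_mem (Subgroup.mem_sup_left (LA hep)) q
      simpa using A₁.mul_mem h5 hi
    obtain ⟨k, hk⟩ := hA1W _ hAy
    -- `K ^ k` commutes with `y'`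
    obtain ⟨t, ht⟩ := hWcoord _ hk
    have hwc : Commute y' ((K ^ k)⁻¹ * y' ^ p) := by
      rw [show (K ^ k)⁻¹ * y' ^ p = c ^ t * ((c ^ t)⁻¹ * ((K ^ k)⁻¹ * y' ^ p)) by group]
      exact ((commutatorElement_eq_one_iff_commute.1 hy'c).pow_right t).mul_right (hLc y' _ ht : Commute y' _)
    have hkc : Commute y' (K ^ k) := by
      have := ((Commute.refl y').pow_right p).mul_right hwc.inv_right
      simpa using this
    have h6 : ⁅y', K⁆ ^ k = ⁅y', K⁆ ^ 0 := by
      rw [← comm_pow_right rfl (show Commute _ K from (hLc K _ hmL).symm), pow_zero]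
      exact commutatorElement_eq_one_iff_commute.2 hkc
    obtain ⟨q', hq'⟩ := (ZMod.natCast_eq_zero_iff k p).1 (by simpa using zmod_eq (pow_card_mem cardL hmL) hm1 h6)
    have h7 : K ^ k ∈ W := by rw [hq', pow_mul]; exact pow_mem (hLW hKp) q'
    simpa using W.mul_mem h7 hk
  have KW : K ∉ W := by
    intro h
    obtain ⟨i, hi⟩ := hWcoord K h
    have h1 : Commute y' K := by
      rw [show K = c ^ i * ((c ^ i)⁻¹ * K) by group]
      exact ((commutatorElement_eq_one_iff_commute.1 hy'c).pow_right i).mul_right (hLc y' _ hi : Commute y' _)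
    exact hm1 (commutatorElement_eq_one_iff_commute.2 h1)
  refine ⟨⟨W, hcom.le, ?_, ?_, K, KW, ?_⟩, ?_⟩
  · intro u
    obtain ⟨i, j, k, hu⟩ := hgen u
    refine (QuotientGroup.eq_one_iff _).1 ?_
    show π (u ^ p) = 1
    rw [map_pow, hu, ((c2.pow_pow i k).mul_left (c3.pow_pow j k)).mul_pow, (c1.pow_pow i j).mul_pow,
      pow_right_comm (π y'), pow_right_comm (π e), pow_right_comm (π K),
      ← map_pow π y', ← map_pow π e, ← map_pow π K, hWπ hy'p, hWπ (hLW hep), hWπ (hLW hKp)]
    simp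
  · intro f w hw
    rw [← hcom] at hw ⊢
    exact commutator_map_mem f hw
  · -- every automorphism fixes `K` modulo `W`
    intro f
    have hcommW : ∀ g h : G, ⁅g, h⁆ ∈ W := fun g h => by
      rw [← hcom, _root_.commutator_def]; exact commutator_mem_commutator (mem_top g) (mem_top h)
    have hfW : ∀ w ∈ W, f w ∈ W := by
      intro w hw
      rw [← hcom] at hw ⊢
      exact commutator_map_mem f hw
    have hfLc : ∀ g : G, ∀ l ∈ L, g * f l = f l * g := fun g l hl => by
      have := congrArg f (hLc (f.symm g) l hl)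
      simpa using this
    -- the centralizer of `W`
    have hcent : ∀ g : G, Commute g c → ∀ w ∈ W, Commute g w := by
      intro g hg w hw
      obtain ⟨i, hi⟩ := hWcoord w hw
      rw [show w = c ^ i * ((c ^ i)⁻¹ * w) by group]
      exact (hg.pow_right i).mul_right (hLc g _ hi : Commute g _)
    have hKc : Commute K c := cent K KA c cN
    have hy'cc : Commute y' c := commutatorElement_eq_one_iff_commute.1 hy'c
    have hBchar : ∀ g : G, Commute g c → Commute (f g) c := by
      intro g hg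
      obtain ⟨v, hv⟩ : ∃ v, f v = c := ⟨f.symm c, by simp⟩
      have hvW : v ∈ W := by
        have hbij : Function.Surjective (fun x : W => (⟨f x, hfW x x.2⟩ : W)) :=
          Finite.surjective_of_injective fun a b h => Subtype.ext (f.injective (congrArg Subtype.val h))
        obtain ⟨x, hx⟩ := hbij ⟨c, hcW⟩
        exact f.injective ((congrArg Subtype.val hx).trans hv.symm) ▸ x.2
      rw [← hv]; exact (hcent g hg v hvW).map f
    have hgc : ∀ g : G, Commute g c → ∀ i j k : ℕ, (y' ^ i * e ^ j * K ^ k)⁻¹ * g ∈ W → (j : ZMod p) = 0 := by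
      intro g hg i j k hw
      have hwc : Commute ((y' ^ i * e ^ j * K ^ k)⁻¹ * g) c := hcent _ (Commute.refl c) _ hw |>.symm
      have h1 : Commute (y' ^ i * e ^ j * K ^ k) c := by
        have := hg.mul_left hwc.inv_left
        simpa using this
      have h2 : Commute (e ^ j) c := by
        have := ((hy'cc.pow_left i).inv_left.mul_left h1).mul_left (hKc.pow_left k).inv_left
        simpa [mul_assoc] using this
      have h3 := zmod_eq (pow_card_mem cardL l0L) l01 (i := j) (j := 0) (by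
        rw [← comm_pow_left hl0.symm (show Commute l₀ e from (hLc e _ l0L).symm), pow_zero]
        exact commutatorElement_eq_one_iff_commute.2 h2)
      simpa using h3
    obtain ⟨iy, jy, ky, hfy⟩ := hy'coord (f y')
    obtain ⟨ie, je, ke, hfe⟩ := hy'coord (f e)
    obtain ⟨ik, jk, kk, hfK⟩ := hy'coord (f K)
    have hjy : (jy : ZMod p) = 0 := hgc _ (hBchar y' hy'cc) _ _ _ hfy
    have hjk : (jk : ZMod p) = 0 := hgc _ (hBchar K hKc) _ _ _ hfK
    -- `f K` is central modulo `L`
    have hKcen : ∀ g : G, ⁅K, g⁆ ∈ L := fun g => by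
      rw [← commutatorElement_inv]; exact L.inv_mem (hyA g K KA)
    have hik : (ik : ZMod p) = 0 := by
      have hfL : ∀ x ∈ L, f x ∈ L := by
        intro x hx
        have h1 : f x ∈ W := hfW x (hLW hx)
        obtain ⟨i, hi⟩ := hWcoord _ h1
        -- `f x` is central
        have h2 : Commute e (f x) := hfLc e x hx
        have h3 : Commute e (c ^ i) := by
          have h4 : Commute e ((c ^ i)⁻¹ * f x) := (hLc e _ hi : Commute e _)
          have := h2.mul_right h4.inv_right
          simpa using this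
        obtain ⟨q, hq⟩ := (ZMod.natCast_eq_zero_iff i p).1 (by
          simpa using zmod_eq (pow_card_mem cardL l0L) l01 (i := i) (j := 0) (by
            rw [← comm_pow_right hl0.symm (show Commute l₀ c from (hLc c _ l0L).symm), pow_zero]
            exact commutatorElement_eq_one_iff_commute.2 h3))
        have h5 : c ^ i ∈ L := by rw [hq, pow_mul]; exact pow_mem hcp q
        simpa using L.mul_mem h5 hi
      let ρ := QuotientGroup.mk' L
      have hcenK : ∀ g : G, Commute (ρ (f K)) (ρ g) := fun g => by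
        rw [← commutatorElement_eq_one_iff_commute, ← map_commutatorElement,
          show g = f (f.symm g) by simp, ← map_commutatorElement]
        exact (QuotientGroup.eq_one_iff _).2 (hfL _ (hKcen _))
      have hWc : ∀ w ∈ W, Commute (ρ w) (ρ e) := fun w hw => by
        rw [← commutatorElement_eq_one_iff_commute, ← map_commutatorElement]
        refine (QuotientGroup.eq_one_iff _).2 ?_
        obtain ⟨i, hi⟩ := hWcoord w hw
        rw [show w = c ^ i * ((c ^ i)⁻¹ * w) by group, comm_mul_left]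
        refine L.mul_mem (normL.conj_mem _ ?_ _) (comm _ (pow_mem cN i) e eN)
        exact comm _ (AN (LA hi)) e eN
      have h1 : Commute (ρ (y' ^ ik * e ^ jk * K ^ kk)) (ρ e) := by
        have := (hcenK e).mul_left (hWc _ hfK).inv_left
        rw [← map_inv, ← map_mul] at this
        simpa using this
      have h2 : Commute (ρ y' ^ ik) (ρ e) := by
        rw [map_mul, map_mul, map_pow, map_pow, map_pow] at h1
        have hKe : Commute (ρ K) (ρ e) := (show Commute K e from cent K KA e eN).map ρ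
        have := (h1.mul_left (hKe.pow_left kk).inv_left).mul_left ((Commute.refl (ρ e)).pow_left jk).inv_left
        simpa [mul_assoc] using this
      have h3 : c ^ ik ∈ L := by
        refine (QuotientGroup.eq_one_iff _).1 ?_
        show ρ (c ^ ik) = 1
        have hcy' : Commute (ρ c) (ρ y') := (show Commute c y' from hy'cc.symm).map ρ
        rw [map_pow, ← comm_pow_left (x := ρ y') (y := ρ e) (by rw [← map_commutatorElement, hy'e]) hcy']
        exact commutatorElement_eq_one_iff_commute.2 h2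
      by_contra hne
      -- invert `ik`
      obtain ⟨u, hu⟩ : ∃ u : ℕ, ((ik * u : ℕ) : ZMod p) = ((1 : ℕ) : ZMod p) :=
        ⟨((ik : ZMod p))⁻¹.val, by push_cast; rw [ZMod.natCast_zmod_val, mul_inv_cancel₀ hne]⟩
      have h4 : c ∈ L := by
        have h5 := pow_congr_mod (R := L) hcp hu
        rw [pow_one, pow_mul] at h5
        simpa using L.mul_mem (pow_mem h3 u) h5
      exact cA (LA h4)
    -- relations
    have hm_c : ∀ g : G, Commute ⁅y', K⁆ g := fun g => (hLc g _ hmL).symm
    have hl0c : ∀ g : G, Commute l₀ g := fun g => (hLc g _ l0L).symm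
    have h_e : e ^ p ∈ W := hLW hep
    have reduce : ∀ {g : G} {i j k : ℕ}, (y' ^ i * e ^ j * K ^ k)⁻¹ * g ∈ W → (j : ZMod p) = 0 →
        (y' ^ i * K ^ k)⁻¹ * g ∈ W := by
      intro g i j k hw hj0
      obtain ⟨q, hq⟩ := (ZMod.natCast_eq_zero_iff j p).1 hj0
      refine QuotientGroup.eq.1 ?_
      show π (y' ^ i * K ^ k) = π g
      rw [show π g = π (y' ^ i * e ^ j * K ^ k) from (QuotientGroup.eq.2 hw).symm, map_mul π (y' ^ i * e ^ j),
        map_mul π (y' ^ i) (e ^ j), show π (e ^ j) = 1 by rw [hq, pow_mul, map_pow, hWπ h_e, one_pow],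
        mul_one, map_mul]
    have hy1 := reduce hfy hjy
    have hK1 := reduce hfK hjk
    set β := iy
    set κ := kk
    set α := je
    have hfK2 : (K ^ κ)⁻¹ * f K ∈ W := by
      refine QuotientGroup.eq.1 ?_
      show π (K ^ κ) = π (f K)
      rw [show π (f K) = π (y' ^ ik * K ^ κ) from (QuotientGroup.eq.2 hK1).symm, map_mul]
      obtain ⟨q, hq⟩ := (ZMod.natCast_eq_zero_iff ik p).1 hik
      rw [show π (y' ^ ik) = 1 by rw [hq, pow_mul, map_pow, hWπ hy'p, one_pow], one_mul]
    -- `f c`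
    have hKL' : ∀ i : ℕ, ∀ g : G, ⁅K ^ i, g⁆ ∈ L := fun i g => by
      rw [← commutatorElement_inv]; exact L.inv_mem (hyA g _ (pow_mem KA i))
    have hWL : ∀ w ∈ W, ∀ g : G, ⁅w, g⁆ ∈ L := by
      intro w hw g
      obtain ⟨i, hi⟩ := hWcoord w hw
      rw [show w = c ^ i * ((c ^ i)⁻¹ * w) by group, comm_mul_left]
      refine L.mul_mem (normL.conj_mem _ ?_ _) ?_
      · rw [← commutatorElement_inv]; exact L.inv_mem (hyA g _ (LA hi))
      · refine (QuotientGroup.eq_one_iff _).1 ?_
        show QuotientGroup.mk' L ⁅c ^ i, g⁆ = 1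
        rw [map_commutatorElement, map_pow, commutatorElement_eq_one_iff_commute]
        refine (commutatorElement_eq_one_iff_commute.1 ?_).pow_left i
        rw [← map_commutatorElement, ← commutatorElement_inv, map_inv,
          show QuotientGroup.mk' L ⁅g, c⁆ = 1 from (QuotientGroup.eq_one_iff _).2 (hy'cL g), inv_one]
    set ry := (y' ^ β)⁻¹ * f y'
    have hry : ∃ w ∈ W, ry = K ^ ky * w :=
      ⟨_, hy1, by show (y' ^ β)⁻¹ * f y' = _; group⟩
    obtain ⟨wy, hwy, hry'⟩ := hry
    have hryc : Commute ry c := by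
      rw [hry']; exact (hKc.pow_left ky).mul_left (hcent c (Commute.refl c) wy hwy).symm
    have hryL : ∀ g : G, ⁅ry, g⁆ ∈ L := fun g => by
      rw [hry', comm_mul_left]; exact L.mul_mem (normL.conj_mem _ (hWL wy hwy g) _) (hKL' ky g)
    have h1e : (e ^ α)⁻¹ * f e ∈ (closure ({y', K} ∪ (W : Set G))) := by
      set R := closure ({y', K} ∪ (W : Set G))
      have hyR : y' ∈ R := subset_closure (Or.inl (by simp))
      have hKR : K ∈ R := subset_closure (Or.inl (by simp))
      have hWR : W ≤ R := fun w hw => subset_closure (Or.inr hw)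
      have h2 : (e ^ α)⁻¹ * f e = ((e ^ α)⁻¹ * y' ^ ie * e ^ α) * K ^ ke *
          ((y' ^ ie * e ^ α * K ^ ke)⁻¹ * f e) := by group
      rw [h2]
      refine R.mul_mem (R.mul_mem ?_ (pow_mem hKR ke)) (hWR hfe)
      rw [show (e ^ α)⁻¹ * y' ^ ie * e ^ α = y' ^ ie * ⁅(y' ^ ie)⁻¹, (e ^ α)⁻¹⁆ by
        rw [commutatorElement_def]; group]
      exact R.mul_mem (pow_mem hyR ie) (hWR (hcommW _ _))
    set re := (e ^ α)⁻¹ * f e
    have hre : Commute re c ∧ ⁅y', re⁆ ∈ L := by
      revert h1e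
      generalize re = v
      intro h1e
      induction h1e using Subgroup.closure_induction with
      | mem u hu =>
        rcases hu with (rfl | rfl) | hu
        · exact ⟨hy'cc, by rw [commutatorElement_eq_one_iff_commute.2 (Commute.refl _)]; exact L.one_mem⟩
        · exact ⟨hKc, hmL⟩
        · exact ⟨(hcent c (Commute.refl c) u hu).symm, by rw [← commutatorElement_inv]; exact L.inv_mem (hWL u hu _)⟩
      | one => exact ⟨Commute.one_left c, by rw [commutatorElement_eq_one_iff_commute.2 (Commute.one_right _)]; exact L.one_mem⟩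
      | mul a b _ _ ha hb =>
        exact ⟨ha.1.mul_left hb.1, by rw [comm_mul_right]; exact L.mul_mem ha.2 (normL.conj_mem _ hb.2 a)⟩
      | inv a _ ha =>
        refine ⟨ha.1.inv_left, ?_⟩
        rw [commutatorElement_inv_right, ← commutatorElement_inv y' a]
        have := normL.conj_mem _ (L.inv_mem ha.2) a⁻¹
        rwa [inv_inv] at this
    have hfc : (c ^ (β * α))⁻¹ * f c ∈ L := by
      rw [← hy'e, map_commutatorElement]
      refine bilin_mod L (u := ry) (v := re) ?_ ?_ (hryL e) (hryL re) hre.2 ?_ ?_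
      · rw [hy'e, ← commutatorElement_inv]; exact L.inv_mem (hy'cL y')
      · rw [hy'e, ← commutatorElement_inv]; exact L.inv_mem (hy'cL e)
      · rw [show y' ^ β * ry = f y' by show y' ^ β * ((y' ^ β)⁻¹ * f y') = f y'; group, inv_mul_cancel]; exact L.one_mem
      · rw [show e ^ α * re = f e by show e ^ α * ((e ^ α)⁻¹ * f e) = f e; group, inv_mul_cancel]; exact L.one_mem
    set rc := (c ^ (β * α))⁻¹ * f c
    have hfl0 : f l₀ = l₀ ^ (α * (β * α)) := by
      rw [hl0, map_commutatorElement, show f e = e ^ α * re by show f e = e ^ α * ((e ^ α)⁻¹ * f e); group,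
        show f c = c ^ (β * α) * rc by show f c = c ^ (β * α) * ((c ^ (β * α))⁻¹ * f c); group]
      exact bilin rfl (hl0c e) (hl0c c) hre.1 (hLc re _ hfc : Commute re _) (hLc e _ hfc : Commute e _) _ _
    set rK := (K ^ κ)⁻¹ * f K
    have hrKy : Commute y' rK := hcent y' hy'cc _ hfK2
    have hryK : Commute ry K := by
      rw [hry']; exact ((Commute.refl K).pow_left ky).mul_left (hcent K hKc wy hwy).symm
    have hfm : f ⁅y', K⁆ = ⁅y', K⁆ ^ (β * κ) := by
      rw [map_commutatorElement, show f y' = y' ^ β * ry by show f y' = y' ^ β * ((y' ^ β)⁻¹ * f y'); group,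
        show f K = K ^ κ * rK by show f K = K ^ κ * ((K ^ κ)⁻¹ * f K); group]
      exact bilin rfl (hm_c y') (hm_c K) hryK (hcent ry hryc rK hfK2) hrKy _ _
    obtain ⟨m, hm⟩ := exists_pow_of_card cardL l0L l01 hmL
    rw [← hm, map_pow, hfl0, ← pow_mul, ← pow_mul] at hfm
    have h5 := zmod_eq (pow_card_mem cardL l0L) l01 hfm
    have hm0 : (m : ZMod p) ≠ 0 := fun h => hm1 (by
      rw [← hm, ← pow_zero l₀]; exact pow_congr (pow_card_mem cardL l0L) (by simpa using h))
    have hl0ne : f l₀ ≠ 1 := fun h => l01 (f.injective (h.trans (map_one f).symm))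
    have hne : ((α * (β * α) : ℕ) : ZMod p) ≠ 0 := fun h => hl0ne (by
      rw [hfl0, ← pow_zero l₀]; exact pow_congr (pow_card_mem cardL l0L) (by simpa using h))
    push_cast at h5 hne
    have hκ : (κ : ZMod p) = ((1 : ℕ) : ZMod p) := by
      have hb : (β : ZMod p) ≠ 0 := fun h => hne (by rw [h]; ring)
      have ha : (α : ZMod p) ≠ 0 := fun h => hne (by rw [h]; ring)
      have h6 : (κ : ZMod p) = (α : ZMod p) * α := by
        have h7 : ((κ : ZMod p) - α * α) * ((β : ZMod p) * m) = 0 := by linear_combination -h5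
        exact sub_eq_zero.1 ((mul_eq_zero.1 h7).resolve_right (mul_ne_zero hb hm0))
      rw [h6]
      subst hp3
      have h8 := ZMod.pow_card_sub_one_eq_one ha
      simpa [pow_two] using h8
    have h9 : (K ^ 1)⁻¹ * K ^ κ ∈ W := pow_congr_mod (hLW hKp) hκ.symm
    rw [pow_one] at h9
    exact QuotientGroup.eq.1 ((QuotientGroup.eq.2 h9).trans (QuotientGroup.eq.2 hfK2))
  · intro u hu huA
    rw [hcom] at hu
    obtain ⟨i, hi⟩ := hWcoord u hu
    have h1 : c ^ i ∈ A := by simpa using A.mul_mem huA (A.inv_mem (LA hi))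
    by_contra hne
    have h2 : (i : ZMod p) ≠ 0 := by
      intro h
      obtain ⟨q, hq⟩ := (ZMod.natCast_eq_zero_iff i p).1 h
      exact hne (by
        have h3 : c ^ i ∈ L := by rw [hq, pow_mul]; exact pow_mem hcp q
        simpa using L.mul_mem h3 hi)
    obtain ⟨v, hv⟩ : ∃ v : ℕ, ((i * v : ℕ) : ZMod p) = ((1 : ℕ) : ZMod p) :=
      ⟨((i : ZMod p))⁻¹.val, by push_cast; rw [ZMod.natCast_zmod_val, mul_inv_cancel₀ h2]⟩
    have h5 := pow_congr_mod (R := A) (LA hcp) hv
    rw [pow_one, pow_mul] at h5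
    exact cA (by simpa using A.mul_mem (pow_mem h1 v) h5)

end Cfsg.Agent.GStructB.P5
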