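/-
Groups of order `p ^ 5` without abelian subgroups of index `p` having an element with centralizer of
order `p ^ 2` (groups of maximal class).
-/
import Cfsg.Agent.GStructB.P5.Core1
import Cfsg.Agent.Lib.Cores.Nilpotent

set_option autoImplicit false
set_option linter.unusedSectionVars false

namespace Cfsg.Agent.GStructB.P5

open Subgroup
open scoped commutatorElement

variable {G : Type*} [Group G] [Finite G] {p : ℕ} [hp : Fact p.Prime]

theorem pow_mem_of_card_quotient {A B : Subgroup G} (hAB : A ≤ B)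
    (hn : ∀ b ∈ B, ∀ a ∈ A, b * a * b⁻¹ ∈ A) (hcard : Nat.card B = p * Nat.card A) {x : G}
    (hx : x ∈ B) : x ^ p ∈ A := by
  have hN : (A.subgroupOf B).Normal := ⟨fun a ha b => hn b b.2 a ha⟩
  have hq : Nat.card (B ⧸ A.subgroupOf B) = p := by
    have h := Subgroup.card_eq_card_quotient_mul_card_subgroup (A.subgroupOf B)
    rw [Nat.card_congr (Subgroup.subgroupOfEquivOfLe hAB).toEquiv, hcard] at h
    exact (Nat.eq_of_mul_eq_mul_right Nat.card_pos h).symm
  have h2 := pow_card_eq_one' (x := QuotientGroup.mk' (A.subgroupOf B) ⟨x, hx⟩)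
  rw [hq, ← map_pow] at h2
  exact (QuotientGroup.eq_one_iff ((⟨x, hx⟩ : B) ^ p)).1 h2

/-- An automorphism maps the centre into itself. -/
theorem center_map_mem (f : MulAut G) {z : G} (hz : z ∈ center G) : f z ∈ center G := by
  rw [mem_center_iff] at hz ⊢
  intro g
  have := congrArg f (hz (f.symm g))
  simpa using this

set_option maxHeartbeats 1000000 in
/-- The theorem on groups of maximal class of order `p ^ 5`. -/
theorem core2 (hG : Nat.card G = p ^ 5)
    (hna : ∀ B : Subgroup G, IsMulCommutative B → Nat.card B ≠ p ^ 4)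
    {e : G} (hCe : Nat.card (centralizer ({e} : Set G)) = p ^ 2) :
    Nat.card (center G) = p ∧ e ^ p ∈ center G ∧
      (∀ (f : MulAut G) (a b : ℕ) (z : G), (e ^ a)⁻¹ * f e ∈ center G → z ∈ center G → z ≠ 1 →
        f z = z ^ b → (b : ZMod p) = (a : ZMod p) ^ 5) ∧
      (p = 3 → Fixed G p) := by
  have hpG : IsPGroup p G := IsPGroup.of_card hG
  set C := centralizer ({e} : Set G) with hC
  have memC : ∀ g : G, g ∈ C ↔ g * e = e * g := fun g => mem_centralizer_singleton_iff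
  have he1 : e ≠ 1 := by
    rintro rfl
    have : C = ⊤ := eq_top_iff.2 fun g _ => (memC g).2 (by simp)
    rw [this, card_top, hG] at hCe
    exact (Nat.pow_lt_pow_right hp.out.one_lt (show 2 < 5 by norm_num)).ne' hCe
  set Z := center G with hZdef
  have Zc : ∀ z ∈ Z, ∀ g : G, g * z = z * g := fun z hz g => mem_center_iff.1 hz g
  have ZC : Z ≤ C := fun z hz => (memC z).2 (Zc z hz e).symm
  have eC : e ∈ C := (memC e).2 rfl
  have eZ : e ∉ Z := fun h => by
    have : C = ⊤ := eq_top_iff.2 fun g _ => (memC g).2 (Zc e h g)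
    rw [this, card_top, hG] at hCe
    exact (Nat.pow_lt_pow_right hp.out.one_lt (show 2 < 5 by norm_num)).ne' hCe
  have cardZ : Nat.card Z = p := by
    refine le_antisymm ?_ ?_
    · have := le_pred_of_lt hpG (lt_of_le_of_ne ZC fun h => eZ (h ▸ eC)) (k := 1) hCe
      simpa using this
    · have : Nontrivial G := ⟨⟨e, 1, he1⟩⟩
      simpa using succ_le_of_lt hpG
        (bot_lt_iff_ne_bot.2 ((nontrivial_iff_ne_bot _).1 hpG.center_nontrivial)) (k := 0) (by simp)
  have ep : e ^ p ∈ Z := pow_mem_of_card_quotient ZC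
    (fun b _ a ha => by rw [Zc a ha b, mul_inv_cancel_right]; exact ha) (by rw [hCe, cardZ, pow_two]) eC
  -- the derived subgroup
  set D := commutator G with hD
  have memD : ∀ a b : G, ⁅a, b⁆ ∈ D := fun a b => by
    rw [hD, _root_.commutator_def]; exact commutator_mem_commutator (mem_top a) (mem_top b)
  have Dn : D.Normal := inferInstance
  have hcl : ∀ g h : G, ⁅g, e⁆ = ⁅h, e⁆ → g⁻¹ * h ∈ C := fun g h hgh => by
    rw [commutatorElement_def, commutatorElement_def, mul_left_inj] at hgh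
    rw [memC]
    calc g⁻¹ * h * e = g⁻¹ * (h * e * h⁻¹) * h := by group
      _ = g⁻¹ * (g * e * g⁻¹) * h := by rw [hgh]
      _ = e * (g⁻¹ * h) := by group
  let φ : G ⧸ C → D := fun x => ⟨⁅x.out, e⁆, memD _ _⟩
  have φi : Function.Injective φ := by
    intro x y h
    rw [← QuotientGroup.out_eq' x, ← QuotientGroup.out_eq' y]
    exact QuotientGroup.eq.2 (hcl _ _ (congrArg Subtype.val h))
  have cardQ : Nat.card (G ⧸ C) = p ^ 3 := by
    have h := Subgroup.card_eq_card_quotient_mul_card_subgroup C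
    rw [hG, hCe, show p ^ 5 = p ^ 3 * p ^ 2 by ring] at h
    exact (Nat.eq_of_mul_eq_mul_right (pow_pos hp.out.pos 2) h).symm
  have cardD : Nat.card D = p ^ 3 := by
    refine le_antisymm ?_ (cardQ ▸ Nat.card_le_card_of_injective φ φi)
    obtain ⟨k, hk⟩ := card_exp hpG D
    rw [hk]
    refine Nat.pow_le_pow_right hp.out.pos ?_
    by_contra h4
    -- then `G` has cyclic abelianization
    have h5 : Nat.card (G ⧸ D) ≤ p := by
      have h := Subgroup.card_eq_card_quotient_mul_card_subgroup D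
      rw [hG, hk] at h
      have h6 : p ^ 4 ≤ p ^ k := Nat.pow_le_pow_right hp.out.pos (by omega)
      have h7 : Nat.card (G ⧸ D) * p ^ 4 ≤ p * p ^ 4 := by
        rw [← pow_succ' p 4, h]; exact Nat.mul_le_mul_left _ h6
      exact Nat.le_of_mul_le_mul_right h7 (pow_pos hp.out.pos 4)
    have hcyc : IsCyclic (G ⧸ D) := by
      rcases eq_or_lt_of_le h5 with h | h
      · exact isCyclic_of_prime_card h
      · obtain ⟨j, hj⟩ := IsPGroup.iff_card.1 (hpG.to_quotient D)
        have : Subsingleton (G ⧸ D) := by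
          refine (Nat.card_eq_one_iff_unique.1 ?_).1
          rw [hj] at h ⊢
          rcases Nat.eq_zero_or_pos j with rfl | hj0
          · simp
          · exact absurd h (not_lt.2 (Nat.le_self_pow hj0.ne' p))
        exact ⟨1, fun x => ⟨0, Subsingleton.elim _ _⟩⟩
    have : Group.IsNilpotent G := hpG.isNilpotent
    obtain ⟨g, hg⟩ := hcyc.exists_generator
    obtain ⟨g, rfl⟩ := QuotientGroup.mk'_surjective D g
    set R := ⁅D, (⊤ : Subgroup G)⁆ with hR
    have hcR : ∀ u ∈ D, ∀ x : G, Commute (QuotientGroup.mk' R u) (QuotientGroup.mk' R x) := fun u hu x => by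
      rw [← commutatorElement_eq_one_iff_commute, ← map_commutatorElement]
      exact (QuotientGroup.eq_one_iff _).2 (commutator_mem_commutator hu (mem_top x))
    have hgx : ∀ x : G, ∃ i : ℤ, (g ^ i)⁻¹ * x ∈ D := fun x => by
      obtain ⟨i, hi⟩ := hg (QuotientGroup.mk' D x)
      exact ⟨i, QuotientGroup.eq.1 ((map_zpow _ g i).trans hi)⟩
    have hDR : D ≤ R := by
      rw [hD, _root_.commutator_def, commutator_le]
      intro x _ y _
      obtain ⟨i, hi⟩ := hgx x
      obtain ⟨j, hj⟩ := hgx y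
      refine (QuotientGroup.eq_one_iff _).1 ?_
      show QuotientGroup.mk' R ⁅x, y⁆ = 1
      rw [map_commutatorElement, commutatorElement_eq_one_iff_commute, ← mul_inv_cancel_left (g ^ i) x,
        ← mul_inv_cancel_left (g ^ j) y, map_mul, map_mul]
      exact ((((Commute.refl g).zpow_zpow i j).map _).mul_right (hcR _ hj _).symm).mul_left
        ((hcR _ hi _).mul_right (hcR _ hi _))
    have hDbot : D = ⊥ := le_bot_iff.1 (PGroups.Basic.le_of_le_commutator_sup D ⊥ (by rw [sup_bot_eq]; exact hDR))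
    refine eZ (mem_center_iff.2 fun x => ?_)
    exact (commutatorElement_eq_one_iff_commute.1 (mem_bot.1 (hDbot ▸ memD x e))).eq
  have φs : Function.Surjective φ :=
    ((Nat.bijective_iff_injective_and_card φ).2 ⟨φi, by rw [cardQ, cardD]⟩).2
  have Dcomm : ∀ u ∈ D, ∃ g, ⁅g, e⁆ = u := fun u hu => by
    obtain ⟨x, hx⟩ := φs ⟨u, hu⟩
    exact ⟨x.out, congrArg Subtype.val hx⟩
  have eD : e ∉ D := by
    intro h
    obtain ⟨g, hg⟩ := Dcomm e⁻¹ (inv_mem h)
    rw [commutatorElement_def] at hg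
    have h9 : g * e * g⁻¹ = 1 := by simpa using mul_right_cancel (hg.trans (one_mul e⁻¹).symm)
    refine he1 ?_
    calc e = g⁻¹ * (g * e * g⁻¹) * g := by group
      _ = 1 := by rw [h9]; group
  have ZD : Z ≤ D := by
    intro z hz
    have hne : D ≠ ⊥ := fun h => by
      rw [h, card_bot] at cardD
      exact (Nat.one_lt_pow (by norm_num : (3 : ℕ) ≠ 0) hp.out.one_lt).ne cardD
    have h1 : D ⊓ Z ≠ ⊥ := by
      have : Group.IsNilpotent G := hpG.isNilpotent
      exact Cores.inf_center_ne_bot hne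
    have h2 : D ⊓ Z = Z := by
      refine eq_of_le_card' inf_le_right ?_
      rw [cardZ]
      simpa using succ_le_of_lt hpG (bot_lt_iff_ne_bot.2 h1) (k := 0) (by simp)
    exact (h2.ge hz).1
  have CD : ∀ u ∈ D, u * e = e * u → u ∈ Z := by
    intro u hu hue
    have h1 : Z ≤ D ⊓ C := le_inf ZD ZC
    have h2 : D ⊓ C < C := lt_of_le_of_ne inf_le_right fun h => eD (h.ge eC).1
    have h3 : Z = D ⊓ C := by
      refine eq_of_le_card' h1 ?_
      rw [cardZ]
      simpa using le_pred_of_lt hpG h2 (k := 1) hCe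
    exact h3.ge ⟨hu, (memC u).2 hue⟩
  -- the second centre
  set Z₂ := (center (G ⧸ Z)).comap (QuotientGroup.mk' Z) with hZ2
  have memZ2 : ∀ u : G, u ∈ Z₂ ↔ ∀ g : G, ⁅u, g⁆ ∈ Z := by
    intro u
    rw [hZ2, mem_comap, mem_center_iff]
    refine ⟨fun h g => (QuotientGroup.eq_one_iff _).1 ?_, fun h x => ?_⟩
    · show QuotientGroup.mk' Z ⁅u, g⁆ = 1
      rw [map_commutatorElement]
      exact commutatorElement_eq_one_iff_commute.2 (h _).symm
    · obtain ⟨g, rfl⟩ := QuotientGroup.mk'_surjective Z x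
      refine (commutatorElement_eq_one_iff_commute.1 ?_).eq.symm
      rw [← map_commutatorElement]; exact (QuotientGroup.eq_one_iff _).2 (h g)
  have Z2n : Z₂.Normal := Subgroup.Normal.comap inferInstance _
  have Z2map : ∀ (f : MulAut G), ∀ u ∈ Z₂, f u ∈ Z₂ := by
    intro f u hu
    rw [memZ2] at hu ⊢
    intro g
    have := center_map_mem f (hu (f.symm g))
    rwa [map_commutatorElement, MulEquiv.apply_symm_apply] at this
  -- a preimage of the centralizer of the image of `e`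
  let P : Subgroup G :=
    { carrier := {g | ⁅g, e⁆ ∈ Z}
      one_mem' := by
        show ⁅(1 : G), e⁆ ∈ Z
        rw [commutatorElement_one_left]; exact one_mem _
      mul_mem' := fun {a b} (ha : ⁅a, e⁆ ∈ Z) (hb : ⁅b, e⁆ ∈ Z) => by
        show ⁅a * b, e⁆ ∈ Z
        rw [comm_mul_left, Zc _ hb a, mul_inv_cancel_right]; exact mul_mem hb ha
      inv_mem' := fun {a} (ha : ⁅a, e⁆ ∈ Z) => by
        show ⁅a⁻¹, e⁆ ∈ Z
        have h := comm_mul_left a⁻¹ a e
        rw [inv_mul_cancel, commutatorElement_one_left, Zc _ ha, mul_inv_cancel_right] at h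
        rw [show ⁅a⁻¹, e⁆ = ⁅a, e⁆⁻¹ from (eq_inv_of_mul_eq_one_right h.symm)]
        exact inv_mem ha }
  have memP : ∀ g, g ∈ P ↔ ⁅g, e⁆ ∈ Z := fun g => Iff.rfl
  have CP : C ≤ P := fun g hg => (memP g).2 (by
    rw [commutatorElement_eq_one_iff_commute.2 ((memC g).1 hg : Commute g e)]; exact one_mem _)
  have cardP : Nat.card P ≤ p ^ 3 := by
    let ψ : P ⧸ C.subgroupOf P → Z := fun x => ⟨⁅(x.out : G), e⁆, (memP _).1 x.out.2⟩
    have hψ : Function.Injective ψ := by
      intro x y h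
      rw [← QuotientGroup.out_eq' x, ← QuotientGroup.out_eq' y]
      exact QuotientGroup.eq.2 (hcl _ _ (congrArg Subtype.val h))
    have h := Subgroup.card_eq_card_quotient_mul_card_subgroup (C.subgroupOf P)
    rw [Nat.card_congr (Subgroup.subgroupOfEquivOfLe CP).toEquiv, hCe] at h
    rw [h]
    calc _ ≤ p * p ^ 2 := Nat.mul_le_mul_right _ (cardZ ▸ Nat.card_le_card_of_injective ψ hψ)
      _ = p ^ 3 := by ring
  have eP : e ∈ P := CP eC
  have Z2P : Z₂ ≤ P := fun u hu => (memP u).2 ((memZ2 u).1 hu e)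
  have ZZ2 : Z < Z₂ := by
    refine lt_of_le_of_ne (fun z hz => (memZ2 z).2 fun g => ?_) fun h => ?_
    · rw [commutatorElement_eq_one_iff_commute.2 ((Zc z hz g).symm : Commute z g)]; exact one_mem _
    have : Nontrivial (G ⧸ Z) := ⟨⟨QuotientGroup.mk' Z e, 1, fun h => eZ ((QuotientGroup.eq_one_iff e).1 h)⟩⟩
    obtain ⟨x, hx, hx1⟩ := (ne_bot_iff_exists_ne_one.1
      ((nontrivial_iff_ne_bot _).1 (hpG.to_quotient Z).center_nontrivial) :
        ∃ x : center (G ⧸ Z), x ≠ 1) |> fun ⟨x, hx⟩ => (⟨x.1, x.2, fun h => hx (Subtype.ext h)⟩ :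
        ∃ x : G ⧸ Z, x ∈ center (G ⧸ Z) ∧ x ≠ 1)
    obtain ⟨u, rfl⟩ := QuotientGroup.mk'_surjective Z x
    exact hx1 ((QuotientGroup.eq_one_iff u).2 (h.ge hx))
  have eZ2 : e ∉ Z₂ := by
    intro h
    have h1 : P = ⊤ := eq_top_iff.2 fun g _ => (memP g).2 (by
      rw [← commutatorElement_inv]; exact inv_mem ((memZ2 e).1 h g))
    rw [h1, card_top, hG] at cardP
    exact absurd cardP (Nat.pow_lt_pow_right hp.out.one_lt (by norm_num : 3 < 5)).not_ge
  have cardZ2 : Nat.card Z₂ = p ^ 2 := by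
    have h1 := succ_le_of_lt hpG ZZ2 (k := 1) (by simpa using cardZ)
    have h2 : Z₂ < P := lt_of_le_of_ne Z2P fun h => eZ2 (h ▸ eP)
    obtain ⟨k, hk⟩ := card_exp hpG P
    have h3 : k ≤ 3 := (Nat.pow_le_pow_iff_right hp.out.one_lt).1 (hk ▸ cardP)
    obtain ⟨j, hj⟩ := card_exp hpG Z₂
    have h4 : j < k := by
      refine (Nat.pow_lt_pow_iff_right hp.out.one_lt).1 (hj ▸ hk ▸ ?_)
      exact lt_of_le_of_ne (card_le_of_le h2.le) fun h => h2.ne (eq_of_le_card' h2.le h.ge)
    refine le_antisymm ?_ h1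
    rw [hj]
    exact Nat.pow_le_pow_right hp.out.pos (by omega)
  have Z2D : Z₂ ≤ D := by
    -- the image of `D` in `G ⧸ Z` meets the centre
    have h1 : D.map (QuotientGroup.mk' Z) ≠ ⊥ := fun h => by
      have h2 : D ≤ Z := fun u hu =>
        (QuotientGroup.eq_one_iff u).1 (mem_bot.1 (h ▸ mem_map_of_mem (QuotientGroup.mk' Z) hu))
      have := card_le_of_le h2
      rw [cardD, cardZ] at this
      exact absurd (this.trans_eq (pow_one p).symm) (Nat.pow_lt_pow_right hp.out.one_lt (by norm_num : 1 < 3)).not_ge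
    have : (D.map (QuotientGroup.mk' Z)).Normal := Dn.map _ (QuotientGroup.mk'_surjective Z)
    have : Group.IsNilpotent (G ⧸ Z) := (hpG.to_quotient Z).isNilpotent
    have h2 := Cores.inf_center_ne_bot h1
    obtain ⟨⟨x, hx⟩, hx1⟩ := ne_bot_iff_exists_ne_one.1 h2
    obtain ⟨u, hu, rfl⟩ := hx.1
    have h3 : Z < D ⊓ Z₂ := lt_of_le_of_ne (le_inf ZD ZZ2.le) fun h =>
      hx1 (Subtype.ext ((QuotientGroup.eq_one_iff u).2 (h.ge ⟨hu, hx.2⟩)))
    have h4 := succ_le_of_lt hpG h3 (k := 1) (by simpa using cardZ)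
    intro v hv
    exact ((eq_of_le_card' inf_le_right (cardZ2 ▸ h4) : D ⊓ Z₂ = Z₂).ge hv).1
  -- the centralizer of the second centre
  obtain ⟨t₀, ht₀, ht₀Z⟩ := SetLike.exists_of_lt ZZ2
  set B := centralizer ({t₀} : Set G) with hB
  have memB : ∀ g : G, g ∈ B ↔ g * t₀ = t₀ * g := fun g => mem_centralizer_singleton_iff
  have Z2coord : ∀ u ∈ Z₂, ∃ i : ℕ, (t₀ ^ i)⁻¹ * u ∈ Z := fun u hu =>
    coord ZZ2.le (fun b _ a ha => by rw [Zc a ha b, mul_inv_cancel_right]; exact ha)
      (by rw [cardZ2, cardZ, pow_two]) ht₀ ht₀Z hu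
  have BZ2 : ∀ g ∈ B, ∀ u ∈ Z₂, Commute g u := fun g hg u hu => by
    obtain ⟨i, hi⟩ := Z2coord u hu
    rw [← mul_inv_cancel_left (t₀ ^ i) u]
    exact ((show Commute g t₀ from (memB g).1 hg).pow_right i).mul_right (Zc _ hi g : Commute g _)
  have eB : e ∉ B := fun h => ht₀Z (CD t₀ (Z2D ht₀) ((memB e).1 h).symm)
  have cardB : Nat.card B = p ^ 4 := by
    have h1 := card_centralizer_elt hpG (cardZ.le) (fun g z hz => Zc z hz g) (d := t₀) (fun g => by
      rw [← commutatorElement_inv]; exact inv_mem ((memZ2 t₀).1 ht₀ g))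
    rw [hG] at h1
    have h2 := le_pred_of_lt hpG (lt_top_iff_ne_top.2 fun h => eB (h ▸ mem_top e) : B < ⊤) (k := 4)
      (by rw [card_top, hG])
    exact le_antisymm h2 (Nat.le_of_mul_le_mul_right (by rw [← pow_succ]; exact h1) hp.out.pos)
  have Bn : B.Normal := normal_of_index hpG hG cardB
  have DB : D ≤ B := by
    rw [hD, _root_.commutator_def, commutator_le]
    exact fun a _ b _ => comm_mem hpG B (by
      rw [hG, cardB, show p ^ 5 = p ^ 4 * p by ring]
      exact Nat.mul_le_mul_left _ (Nat.le_self_pow two_ne_zero p)) a b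
  -- `D` is abelian
  obtain ⟨s₀, hs₀, hs₀Z⟩ := SetLike.exists_of_lt (lt_of_le_of_ne Z2D fun h => by
    rw [h, cardD] at cardZ2
    exact (Nat.pow_lt_pow_right hp.out.one_lt (by norm_num : 2 < 3)).ne' cardZ2)
  have Dcoord : ∀ u ∈ D, ∀ v ∈ D, v ∉ Z₂ → ∃ i : ℕ, (v ^ i)⁻¹ * u ∈ Z₂ := fun u hu v hv hvn =>
    coord Z2D (fun b _ a ha => Z2n.conj_mem a ha b) (by rw [cardD, cardZ2]; ring) hv hvn hu
  have Dab : ∀ u ∈ D, ∀ v ∈ D, Commute u v := by
    have h1 : ∀ u ∈ D, Commute s₀ u := fun u hu => by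
      obtain ⟨i, hi⟩ := Dcoord u hu s₀ hs₀ hs₀Z
      rw [← mul_inv_cancel_left (s₀ ^ i) u]
      exact ((Commute.refl s₀).pow_right i).mul_right (BZ2 s₀ (DB hs₀) _ hi)
    intro u hu v hv
    obtain ⟨i, hi⟩ := Dcoord u hu s₀ hs₀ hs₀Z
    rw [← mul_inv_cancel_left (s₀ ^ i) u]
    exact ((h1 v hv).pow_left i).mul_left (BZ2 v (DB hv) _ hi).symm
  obtain ⟨r, hr, hrD⟩ := SetLike.exists_of_lt (lt_of_le_of_ne DB fun h => by
    rw [← h, cardD] at cardB
    exact (Nat.pow_lt_pow_right hp.out.one_lt (by norm_num : 3 < 4)).ne cardB)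
  have Bcoord : ∀ b ∈ B, ∃ i : ℕ, (r ^ i)⁻¹ * b ∈ D := fun b hb =>
    coord DB (fun b _ a ha => Dn.conj_mem a ha b) (by rw [cardB, cardD]; ring) hr hrD hb
  have Gcoord : ∀ g : G, ∃ i : ℕ, (e ^ i)⁻¹ * g ∈ B := fun g =>
    coord le_top (fun b _ a ha => Bn.conj_mem a ha b) (by rw [card_top, hG, cardB]; ring)
      (mem_top e) eB (mem_top g)
  -- commutators with elements of `D`
  have DZ2 : ∀ u ∈ D, ∀ g : G, ⁅u, g⁆ ∈ Z₂ := fun u hu g => by
    obtain ⟨w, rfl⟩ := Dcomm u hu
    exact comm_comm_mem hpG Z₂ (by rw [hG, cardZ2, ← pow_add]) w e g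
  set s := ⁅r, e⁆ with hs
  have sD : s ∈ D := memD r e
  have sZ2 : s ∉ Z₂ := by
    intro h
    refine hs₀Z ?_
    obtain ⟨g, hg⟩ := Dcomm s₀ hs₀
    obtain ⟨i, hi⟩ := Gcoord g
    obtain ⟨j, hj⟩ := Bcoord _ hi
    rw [← hg]
    refine (QuotientGroup.eq_one_iff _).1 ?_
    show QuotientGroup.mk' Z₂ ⁅g, e⁆ = 1
    rw [map_commutatorElement, commutatorElement_eq_one_iff_commute,
      show g = e ^ i * (r ^ j * ((r ^ j)⁻¹ * ((e ^ i)⁻¹ * g))) by group, map_mul, map_mul, map_pow, map_pow]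
    refine ((Commute.refl _).pow_left i).mul_left ((Commute.pow_left ?_ j).mul_left ?_)
    · rw [← commutatorElement_eq_one_iff_commute, ← map_commutatorElement]
      exact (QuotientGroup.eq_one_iff _).2 h
    · rw [← commutatorElement_eq_one_iff_commute, ← map_commutatorElement]
      exact (QuotientGroup.eq_one_iff _).2 (DZ2 _ hj e)
  set t := ⁅s, e⁆ with ht
  have tZ2 : t ∈ Z₂ := DZ2 s sD e
  have tZ : t ∉ Z := by
    intro h
    have h1 : D ≤ P := fun u hu => by
      obtain ⟨i, hi⟩ := Dcoord u hu s sD sZ2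
      rw [← mul_inv_cancel_left (s ^ i) u]
      exact mul_mem (pow_mem ((memP s).2 h) i) (Z2P hi)
    have h2 : D = P := eq_of_le_card' h1 (cardD ▸ cardP)
    exact eD (h2 ▸ eP)
  set z₀ := ⁅t, e⁆ with hz₀
  have z0Z : z₀ ∈ Z := (memZ2 t).1 tZ2 e
  have z01 : z₀ ≠ 1 := fun h => tZ (CD t (Z2D tZ2) (commutatorElement_eq_one_iff_commute.1 h).eq)
  set q := ⁅r, s⁆ with hq
  have qZ2 : q ∈ Z₂ := by
    rw [hq, ← commutatorElement_inv]; exact inv_mem (DZ2 s sD r)
  have rt : Commute r t := BZ2 r hr t tZ2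
  have qZ : q ∈ Z := by
    refine CD q (Z2D qZ2) ?_
    have her : e * r * e⁻¹ = s⁻¹ * r := by rw [hs, commutatorElement_def]; group
    have hes : e * s * e⁻¹ = t⁻¹ * s := by rw [ht, commutatorElement_def]; group
    have h1 : e * q * e⁻¹ = q := by
      have h2 : e * q * e⁻¹ = ⁅e * r * e⁻¹, e * s * e⁻¹⁆ := by
        rw [hq, commutatorElement_def, commutatorElement_def]; group
      rw [h2, her, hes, comm_mul_left,
        commutatorElement_eq_one_iff_commute.2 ((Dab _ (inv_mem sD) _ (mul_mem (inv_mem (Z2D tZ2)) sD))),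
        mul_one, comm_mul_right, commutatorElement_eq_one_iff_commute.2 rt.inv_right, one_mul, ← hq]
      have hqs : Commute q s := Dab q (Z2D qZ2) s sD
      have hqt : Commute q t := Dab q (Z2D qZ2) t (Z2D tZ2)
      rw [hqt.inv_right.symm.eq, mul_inv_cancel_right, hqs.inv_right.symm.eq, inv_inv,
        mul_assoc, inv_mul_cancel, mul_one]
    calc q * e = e * q * e⁻¹ * e := by rw [h1]
      _ = e * q := by group
  have q1 : q ≠ 1 := by
    intro h
    refine hna B (comm_of_comm_mem ?_) cardB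
    have hrD' : ∀ u ∈ D, Commute r u := fun u hu => by
      obtain ⟨i, hi⟩ := Dcoord u hu s sD sZ2
      rw [← mul_inv_cancel_left (s ^ i) u]
      exact ((commutatorElement_eq_one_iff_commute.1 h).pow_right i).mul_right (BZ2 r hr _ hi)
    intro a ha b hb
    obtain ⟨i, hi⟩ := Bcoord a ha
    obtain ⟨j, hj⟩ := Bcoord b hb
    rw [← mul_inv_cancel_left (r ^ i) a, ← mul_inv_cancel_left (r ^ j) b]
    exact ((((Commute.refl r).pow_pow i j).mul_right ((hrD' _ hj).pow_left i)).mul_left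
      (((hrD' _ hi).symm.pow_right j).mul_right (Dab _ hi _ hj))).eq
  -- commutators with elements of `B`
  have hrb : ∀ b ∈ B, ⁅r, b⁆ ∈ Z₂ := fun b hb => by
    obtain ⟨i, hi⟩ := Bcoord b hb
    rw [← mul_inv_cancel_left (r ^ i) b, comm_mul_right,
      commutatorElement_eq_one_iff_commute.2 ((Commute.refl r).pow_right i), one_mul]
    refine Z2n.conj_mem _ ?_ _
    rw [← commutatorElement_inv]; exact inv_mem (DZ2 _ hi r)
  have hsb : ∀ b ∈ B, ⁅s, b⁆ ∈ Z := fun b hb => by
    obtain ⟨i, hi⟩ := Bcoord b hb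
    rw [← mul_inv_cancel_left (r ^ i) b, comm_mul_right,
      commutatorElement_eq_one_iff_commute.2 (Dab s sD _ hi), mul_one, mul_inv_cancel, mul_one]
    have h1 : ⁅s, r⁆ = q⁻¹ := by rw [hq, commutatorElement_inv]
    rw [comm_pow_right h1 ((Zc _ (inv_mem qZ) r).symm : Commute q⁻¹ r)]
    exact pow_mem (inv_mem qZ) i
  -- the action of an automorphism
  have key : ∀ f : MulAut G, ∃ α β : ℕ, (e ^ α)⁻¹ * f e ∈ B ∧ (r ^ β)⁻¹ * f r ∈ D ∧
      (α : ZMod p) ≠ 0 ∧ (β : ZMod p) = (α : ZMod p) ^ 2 ∧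
      ∀ z ∈ Z, f z = z ^ (β * (α * (α * α))) := by
    intro f
    have fB : ∀ b ∈ B, f b ∈ B := by
      intro b hb
      obtain ⟨v, hv⟩ : ∃ v, f v = t₀ := ⟨f.symm t₀, f.apply_symm_apply t₀⟩
      have hv2 : v ∈ Z₂ := by
        have := Z2map f.symm t₀ ht₀
        rwa [← hv, MulEquiv.symm_apply_apply] at this
      have := congrArg f (BZ2 b hb v hv2).eq
      rw [map_mul, map_mul, hv] at this
      exact (memB _).2 this
    obtain ⟨α, hα⟩ := Gcoord (f e)
    obtain ⟨β, hβ⟩ := Bcoord _ (fB r hr)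
    set b := (e ^ α)⁻¹ * f e with hb
    set d := (r ^ β)⁻¹ * f r with hd
    have hfe : f e = e ^ α * b := by rw [hb, mul_inv_cancel_left]
    have hfr : f r = r ^ β * d := by rw [hd, mul_inv_cancel_left]
    have hfs : (s ^ (β * α))⁻¹ * f s ∈ Z₂ := by
      rw [hs, map_commutatorElement]
      refine bilin_mod Z₂ (u := d) (v := b) (DZ2 s sD r) (DZ2 s sD e) (DZ2 d hβ e) (DZ2 d hβ b)
        (hrb b hα) ?_ ?_
      · rw [← hfr, inv_mul_cancel]; exact one_mem _
      · rw [← hfe, inv_mul_cancel]; exact one_mem _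
    set d₂ := (s ^ (β * α))⁻¹ * f s with hd2
    have hfs' : f s = s ^ (β * α) * d₂ := by rw [hd2, mul_inv_cancel_left]
    have hft : (t ^ (β * α * α))⁻¹ * f t ∈ Z := by
      rw [ht, map_commutatorElement]
      refine bilin_mod Z (u := d₂) (v := b) ?_ z0Z ((memZ2 d₂).1 hfs e) ((memZ2 d₂).1 hfs b) (hsb b hα)
        ?_ ?_
      · rw [← ht, commutatorElement_eq_one_iff_commute.2 (Dab t (Z2D tZ2) s sD)]; exact one_mem _
      · rw [← hfs', inv_mul_cancel]; exact one_mem _
      · rw [← hfe, inv_mul_cancel]; exact one_mem _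
    set d₃ := (t ^ (β * α * α))⁻¹ * f t with hd3
    have hft' : f t = t ^ (β * α * α) * d₃ := by rw [hd3, mul_inv_cancel_left]
    have hfz : f z₀ = z₀ ^ (β * α * α * α) := by
      rw [hz₀, map_commutatorElement, hft', hfe]
      exact bilin rfl (Zc _ z0Z t).symm (Zc _ z0Z e).symm (Zc _ hft e).symm (Zc _ hft b).symm
        (BZ2 b hα t tZ2).symm _ _
    have hfq : f q = q ^ (β * (β * α)) := by
      rw [hq, map_commutatorElement, hfr, hfs']
      exact bilin rfl (Zc _ qZ r).symm (Zc _ qZ s).symm (Dab d hβ s sD) (Dab d hβ d₂ (Z2D hfs))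
        (BZ2 r hr d₂ hfs) _ _
    obtain ⟨m, hm⟩ := exists_pow_of_card cardZ z0Z z01 qZ
    rw [← hm, map_pow, hfz, ← pow_mul, ← pow_mul] at hfq
    have hz0p := pow_card_mem cardZ z0Z
    have h5 := zmod_eq hz0p z01 hfq
    have hne : ((β * α * α * α : ℕ) : ZMod p) ≠ 0 := fun h => by
      have h6 : f z₀ = 1 := by
        rw [hfz, ← pow_zero z₀]; exact pow_congr hz0p (by simpa using h)
      exact z01 (f.injective (h6.trans (map_one f).symm))
    have hm0 : (m : ZMod p) ≠ 0 := fun h => q1 (by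
      rw [← hm, ← pow_zero z₀]; exact pow_congr hz0p (by simpa using h))
    push_cast at h5 hne
    have hb0 : (β : ZMod p) ≠ 0 := fun h => hne (by rw [h]; ring)
    have ha0 : (α : ZMod p) ≠ 0 := fun h => hne (by rw [h]; ring)
    refine ⟨α, β, hα, hβ, ha0, ?_, fun z hz => ?_⟩
    · have h7 : ((β : ZMod p) - α ^ 2) * ((β : ZMod p) * α * m) = 0 := by linear_combination -h5
      exact sub_eq_zero.1 ((mul_eq_zero.1 h7).resolve_right (mul_ne_zero (mul_ne_zero hb0 ha0) hm0))
    · obtain ⟨j, rfl⟩ := exists_pow_of_card cardZ z0Z z01 hz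
      rw [map_pow, hfz, ← pow_mul, ← pow_mul]
      exact pow_congr hz0p (by push_cast; ring)
  refine ⟨cardZ, ep, ?_, ?_⟩
  · intro f a b z hfa hz hz1 hfz
    obtain ⟨α, β, hα, -, -, hβ, hfZ⟩ := key f
    have hZB : Z ≤ B := fun u hu => (memB u).2 (Zc u hu t₀).symm
    have h1 : (e ^ a)⁻¹ * e ^ α ∈ B := by
      have := mul_mem (hZB hfa) (inv_mem hα)
      simpa [mul_assoc] using this
    have h2 := zmod_eq_mod (R := B) (z := e)
      (pow_mem_of_card_quotient le_top (fun b _ a ha => Bn.conj_mem a ha b)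
        (by rw [card_top, hG, cardB]; ring) (mem_top e)) eB h1
    have h3 := zmod_eq (pow_card_mem cardZ hz) hz1 ((hfz.symm.trans (hfZ z hz)))
    rw [h3]
    push_cast
    rw [hβ, h2]
    ring
  · rintro rfl
    refine ⟨D, le_rfl, ?_, fun f w hw => commutator_map_mem f hw, r, hrD, ?_⟩
    · intro u
      obtain ⟨i, hi⟩ := Gcoord u
      obtain ⟨j, hj⟩ := Bcoord _ hi
      have hrp : r ^ 3 ∈ D := pow_mem_of_card_quotient DB (fun b _ a ha => Dn.conj_mem a ha b)
        (by rw [cardB, cardD]; ring) hr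
      let π := QuotientGroup.mk' D
      have hab : ∀ x y : G, Commute (π x) (π y) := fun x y => by
        rw [← commutatorElement_eq_one_iff_commute, ← map_commutatorElement]
        exact (QuotientGroup.eq_one_iff _).2 (memD x y)
      refine (QuotientGroup.eq_one_iff _).1 ?_
      show π (u ^ 3) = 1
      rw [show u = e ^ i * (r ^ j * ((r ^ j)⁻¹ * ((e ^ i)⁻¹ * u))) by group, map_pow, map_mul π (e ^ i),
        map_mul π (r ^ j), show π ((r ^ j)⁻¹ * ((e ^ i)⁻¹ * u)) = 1 from (QuotientGroup.eq_one_iff _).2 hj,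
        mul_one, (hab _ _).mul_pow, map_pow, map_pow, pow_right_comm (π e), pow_right_comm (π r),
        ← map_pow π e, ← map_pow π r, show π (e ^ 3) = 1 from (QuotientGroup.eq_one_iff _).2 (ZD ep),
        show π (r ^ 3) = 1 from (QuotientGroup.eq_one_iff _).2 hrp]
      simp
    · intro f
      obtain ⟨α, β, -, hβ', ha0, hβ, -⟩ := key f
      have h1 : (β : ZMod 3) = ((1 : ℕ) : ZMod 3) := by
        rw [hβ, Nat.cast_one]
        exact ZMod.pow_card_sub_one_eq_one ha0
      have hrp : r ^ 3 ∈ D := pow_mem_of_card_quotient DB (fun b _ a ha => Dn.conj_mem a ha b)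
        (by rw [cardB, cardD]; ring) hr
      have h2 := pow_congr_mod (R := D) hrp h1.symm
      rw [pow_one] at h2
      exact QuotientGroup.eq.1 ((QuotientGroup.eq.2 h2).trans (QuotientGroup.eq.2 hβ'))

end Cfsg.Agent.GStructB.P5
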