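/-
Essential subgroups: separation of `p`-elements, a Frattini argument, extension of automorphisms and
stabilizers of series.
-/
import Cfsg.Agent.Lib.Fusion.Alperin
import Cfsg.Agent.Lib.Fusion.Normal
import Cfsg.Agent.Lib.Fusion.EssentialShape

set_option autoImplicit false
set_option linter.unusedSectionVars false

namespace Cfsg.Agent.GStructB.P5

open Cfsg Cfsg.FusionSystem Cfsg.Agent.Fusion Cfsg.Agent.Fusion.Basic Cfsg.Agent.Fusion.Saturation
  Cfsg.Agent.Fusion.Alperin

/-! ### Stabilizers of series -/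

section Series

variable {H : Type*} [Group H] [Finite H]

/-- Automorphisms acting trivially on the factors of a series. -/
def stabSer (C : ℕ → Subgroup H) (n : ℕ) (hmono : ∀ i < n, C i ≤ C (i + 1)) : Subgroup (MulAut H) where
  carrier := {a | ∀ i < n, ∀ x ∈ C (i + 1), x⁻¹ * a x ∈ C i}
  one_mem' := fun i _ x _ => by simp [one_mem]
  mul_mem' := by
    intro a b ha hb i hi x hx
    have h1 := hb i hi x hx
    have h2 : b x ∈ C (i + 1) := by
      have := mul_mem hx (hmono i hi h1)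
      rwa [mul_inv_cancel_left] at this
    have := mul_mem h1 (ha i hi _ h2)
    rwa [mul_assoc, mul_inv_cancel_left, ← MulAut.mul_apply] at this
  inv_mem' := by
    intro a ha i hi x hx
    have hmem : ∀ y ∈ C (i + 1), a y ∈ C (i + 1) := fun y hy => by
      have := mul_mem hy (hmono i hi (ha i hi y hy))
      rwa [mul_inv_cancel_left] at this
    obtain ⟨y, hy⟩ := Finite.surjective_of_injective (f := fun y : C (i + 1) => (⟨a y, hmem y y.2⟩ : C (i + 1)))
      (fun u v h => Subtype.ext (a.injective (congrArg Subtype.val h))) ⟨x, hx⟩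
    have hy' : a y = x := congrArg Subtype.val hy
    show x⁻¹ * a⁻¹ x ∈ C i
    rw [← hy', MulAut.inv_apply_self]
    have := inv_mem (ha i hi y y.2)
    rwa [mul_inv_rev, inv_inv] at this

theorem stabSer_isPGroup {p : ℕ} [Fact p.Prime] (hH : IsPGroup p H) (C : ℕ → Subgroup H) (n : ℕ)
    (hmono : ∀ i < n, C i ≤ C (i + 1)) (h0 : C 0 = ⊥) (hn : C n = ⊤) :
    IsPGroup p (stabSer C n hmono) := by
  intro a
  obtain ⟨k, hk⟩ := Fusion.Normal.exists_pow_eq_one_of_stabilizes (p := p) hH C n h0 hn hmono _ a.2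
  exact ⟨k, Subtype.ext (by simpa using hk)⟩

/-- The series `1 ≤ A ≤ B ≤ D ≤ H`. -/
def ser (A B D : Subgroup H) : ℕ → Subgroup H
  | 0 => ⊥
  | 1 => A
  | 2 => B
  | 3 => D
  | _ => ⊤

theorem ser_mono {A B D : Subgroup H} (hAB : A ≤ B) (hBD : B ≤ D) :
    ∀ i < 4, ser A B D i ≤ ser A B D (i + 1) := by
  intro i hi
  interval_cases i
  · exact bot_le
  · exact hAB
  · exact hBD
  · exact le_top

/-- The conditions on an automorphism to stabilize the series `1 ≤ A ≤ B ≤ D ≤ H`. -/
def Stab (A B D : Subgroup H) (a : MulAut H) : Prop :=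
  (∀ x ∈ A, a x = x) ∧ (∀ x ∈ B, x⁻¹ * a x ∈ A) ∧ (∀ x ∈ D, x⁻¹ * a x ∈ B) ∧ ∀ x, x⁻¹ * a x ∈ D

theorem stab_mem {A B D : Subgroup H} {a : MulAut H} (h : Stab A B D a) :
    ∀ i < 4, ∀ x ∈ ser A B D (i + 1), x⁻¹ * a x ∈ ser A B D i := by
  intro i hi x hx
  interval_cases i
  · show x⁻¹ * a x ∈ (⊥ : Subgroup H)
    rw [h.1 x hx, inv_mul_cancel]; exact one_mem _
  · exact h.2.1 x hx
  · exact h.2.2.1 x hx
  · exact h.2.2.2 x

end Series

/-! ### Essential subgroups -/

section Essential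

variable {Ω : Type*} [Group Ω] {S : Subgroup Ω} [Finite S] {F : FusionSystem S} {p : ℕ}
  [hp : Fact p.Prime] {E : Subgroup Ω}

theorem ess_lt (hS : IsPGroup p S) (hF : F.IsSaturated p) (hE : F.IsEssential p E) : E < S :=
  essential_lt hS hF hE

theorem ess_finite (hE : F.IsEssential p E) : Finite E := finite_of_le hE.1.1

theorem inn_le_ext (hS : IsPGroup p S) (hF : F.IsSaturated p) (hE : F.IsEssential p E) :
    Inn E ≤ extGroup F E :=
  inn_le_extGroup (ess_lt hS hF hE)

theorem induced_le_ext (hlt : E < S) : autInducedBy S E ≤ extGroup F E := by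
  intro α hα
  obtain ⟨g, hg, he⟩ := mem_autInducedBy_iff'.1 hα
  exact Subgroup.subset_closure ⟨S, cj g, hlt, isMap_cj le_rfl hg.1, fun x hx => (he x hx).symm⟩

theorem exists_not_ext (hS : IsPGroup p S) (hF : F.IsSaturated p) (hE : F.IsEssential p E) :
    ∃ g ∈ F.autGroup E, g ∉ extGroup F E := by
  have h := (essential_iff hS hF (ess_lt hS hF hE) hE.2.1).1 hE
  by_contra! h1
  exact h (le_antisymm (extGroup_le hE.1.1) h1)

/-- The extendable automorphisms control fusion of outer `p`-elements. -/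
theorem ext_of_conj (hS : IsPGroup p S) (hF : F.IsSaturated p) (hE : F.IsEssential p E)
    {u v : MulAut E} (hu : u ∈ autInducedBy S E) (huI : u ∉ Inn E) (hv : v ∈ F.autGroup E)
    (hvu : v * u * v⁻¹ ∈ autInducedBy S E) : v ∈ extGroup F E := by
  have hlt := ess_lt hS hF hE
  have : Finite E := ess_finite hE
  have hnorm := inn_normal F E
  obtain ⟨R, hR⟩ := outS_sylow hS hF hE.2.1
  set π := QuotientGroup.mk' ((Inn E).subgroupOf (F.autGroup E))
  set u' : F.autGroup E := ⟨u, autInducedBy_le hE.1.1 hu⟩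
  set v' : F.autGroup E := ⟨v, hv⟩
  have h1 := Embedded.mem_of_conj (P := R)
    (Y := ((extGroup F E).subgroupOf (F.autGroup E)).map π)
    (fun A hA hA1 => normalizer_le_map_extGroup hS hF hE.2.1 (hR ▸ hA) hA1)
    (x := π u') (a := π v') (hR ▸ (mk_mem_outS_iff hE.1.1).2 hu)
    (fun h => huI ((QuotientGroup.eq_one_iff u').1 h))
    (by
      rw [← map_inv, ← map_mul, ← map_mul, hR]
      exact (mk_mem_outS_iff hE.1.1).2 hvu)
  obtain ⟨w, hw, hwv⟩ := h1
  have h2 : w⁻¹ * v' ∈ (Inn E).subgroupOf (F.autGroup E) := QuotientGroup.eq.1 hwv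
  have h3 := mul_mem (Subgroup.mem_subgroupOf.1 hw) (inn_le_ext hS hF hE (Subgroup.mem_subgroupOf.1 h2))
  simpa using h3

/-- A `p`-subgroup of the automorphism group is conjugate into `Aut_S(E)`. -/
theorem conj_into_induced (hS : IsPGroup p S) (hF : F.IsSaturated p) (hE : F.IsEssential p E)
    {P : Subgroup (MulAut E)} (hP : IsPGroup p P) :
    ∃ h ∈ F.autGroup E, ∀ u ∈ P, u ∈ F.autGroup E → h * u * h⁻¹ ∈ autInducedBy S E := by
  have : Finite E := ess_finite hE
  obtain ⟨R, hR⟩ := (fullyNormalized_fullyAutomized hS hF hE.2.1).2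
  obtain ⟨c, hc⟩ := exists_conj_le_sylow R (A := P.subgroupOf (F.autGroup E))
    (hP.comap_of_injective _ Subtype.val_injective)
  refine ⟨c, c.2, fun u hu huA => ?_⟩
  have h1 := hc ⟨u, huA⟩ hu
  rw [hR] at h1
  exact h1

/-- An outer `p`-element and a conjugate by a nonextendable automorphism generate no `p`-group. -/
theorem sep (hS : IsPGroup p S) (hF : F.IsSaturated p) (hE : F.IsEssential p E)
    {g a a' : MulAut E} (hg : g ∈ F.autGroup E) (hgY : g ∉ extGroup F E)
    (ha : a ∈ autInducedBy S E) (haI : a ∉ Inn E) (ha' : a' ∈ autInducedBy S E) (haI' : a' ∉ Inn E)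
    {P : Subgroup (MulAut E)} (hP : IsPGroup p P) (haP : a ∈ P) (hbP : g * a' * g⁻¹ ∈ P) : False := by
  obtain ⟨h, hh, hhP⟩ := conj_into_induced hS hF hE hP
  have haA := autInducedBy_le (F := F) hE.1.1 ha
  have ha'A := autInducedBy_le (F := F) hE.1.1 ha'
  have h1 := hhP a haP haA
  have h2 := hhP _ hbP (mul_mem (mul_mem hg ha'A) (inv_mem hg))
  have hhY := ext_of_conj hS hF hE ha haI hh h1
  rw [show h * (g * a' * g⁻¹) * h⁻¹ = (h * g) * a' * (h * g)⁻¹ by group] at h2
  have := mul_mem (inv_mem hhY) (ext_of_conj hS hF hE ha' haI' (mul_mem hh hg) h2)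
  exact hgY (by simpa using this)

/-- An outer `p`-element and a conjugate by a nonextendable automorphism stabilize no series. -/
theorem sep_series (hS : IsPGroup p S) (hF : F.IsSaturated p) (hE : F.IsEssential p E)
    {g a a' : MulAut E} (hg : g ∈ F.autGroup E) (hgY : g ∉ extGroup F E)
    (ha : a ∈ autInducedBy S E) (haI : a ∉ Inn E) (ha' : a' ∈ autInducedBy S E) (haI' : a' ∉ Inn E)
    {A B D : Subgroup E} (hAB : A ≤ B) (hBD : B ≤ D) (haS : Stab A B D a)
    (hbS : Stab A B D (g * a' * g⁻¹)) : False := by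
  have : Finite E := ess_finite hE
  exact sep hS hF hE hg hgY ha haI ha' haI'
    (stabSer_isPGroup (hS.to_le hE.1.1) (ser A B D) 4 (ser_mono hAB hBD) rfl rfl)
    (stab_mem haS) (stab_mem hbS)

/-- The stabilizer of an invariant series consists of inner automorphisms. -/
theorem inn_of_stab (hS : IsPGroup p S) (hE : F.IsEssential p E) {A B D : Subgroup E}
    (hAB : A ≤ B) (hBD : B ≤ D)
    (hinv : ∀ a ∈ F.autGroup E, (∀ x ∈ A, a x ∈ A) ∧ (∀ x ∈ B, a x ∈ B) ∧ ∀ x ∈ D, a x ∈ D)
    {α : MulAut E} (hα : α ∈ F.autGroup E) (hαS : Stab A B D α) : α ∈ Inn E := by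
  have : Finite E := ess_finite hE
  refine EssentialShape.mem_inn_of_mem_pCore hE hS (α := ⟨α, hα⟩)
    (EssentialShape.mem_pCore_of_stabilizes (hS.to_le hE.1.1) _ (ser A B D) 4 rfl rfl
      (ser_mono hAB hBD) ?_ (stab_mem hαS))
  intro i hi a ha x hx
  interval_cases i
  · rw [Subgroup.mem_bot.1 hx, map_one]; exact one_mem _
  · exact (hinv a ha).1 x hx
  · exact (hinv a ha).2.1 x hx
  · exact (hinv a ha).2.2 x hx
  · exact Subgroup.mem_top _

/-- A `p`-element of a subgroup containing the extendable automorphisms is conjugate inside it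
into `Aut_S(E)`. -/
theorem conj_into_induced_within (hS : IsPGroup p S) (hF : F.IsSaturated p) (hE : F.IsEssential p E)
    {X : Subgroup (MulAut E)} (hX : extGroup F E ≤ X) {u : MulAut E} (huF : u ∈ F.autGroup E)
    (huX : u ∈ X) {k : ℕ} (hk : u ^ p ^ k = 1) :
    ∃ c ∈ X, c ∈ F.autGroup E ∧ c * u * c⁻¹ ∈ autInducedBy S E := by
  have : Finite E := ess_finite hE
  obtain ⟨R, hR⟩ := (fullyNormalized_fullyAutomized hS hF hE.2.1).2
  set X' := X.subgroupOf (F.autGroup E)
  have hRX : (R : Subgroup (F.autGroup E)) ≤ X' := by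
    rw [hR]
    exact fun u hu => hX (induced_le_ext (ess_lt hS hF hE) hu)
  set u₁ : X' := ⟨⟨u, huF⟩, huX⟩
  obtain ⟨i, -, hi⟩ := (Nat.dvd_prime_pow hp.out).1 (orderOf_dvd_of_pow_eq_one
    (show u₁ ^ p ^ k = 1 from Subtype.ext (Subtype.ext hk)))
  obtain ⟨c, hc⟩ := exists_conj_le_sylow (R.subtype hRX) (A := Subgroup.zpowers u₁)
    (IsPGroup.of_card (n := i) (by rw [Nat.card_zpowers, hi]))
  have h1 := hc _ (Subgroup.mem_zpowers _)
  rw [Sylow.coe_subtype, Subgroup.mem_subgroupOf, hR, Subgroup.mem_subgroupOf] at h1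
  exact ⟨(c : F.autGroup E).1, c.2, (c : F.autGroup E).2, h1⟩

/-- A Frattini argument. -/
theorem frattini_gen (hS : IsPGroup p S) (hF : F.IsSaturated p) (hE : F.IsEssential p E)
    {X : Subgroup (MulAut E)} (hX : extGroup F E ≤ X) {a : MulAut E} (ha : a ∈ autInducedBy S E)
    (haI : a ∉ Inn E) (h : ∀ g ∈ F.autGroup E, g * a * g⁻¹ ∈ X) : F.autGroup E ≤ X := by
  intro g hg
  have : Finite E := ess_finite hE
  obtain ⟨k, hk⟩ := isPGroup_autInducedBy (P := E) hS ⟨a, ha⟩
  obtain ⟨c, hcX, hcF, hc⟩ := conj_into_induced_within hS hF hE hX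
    (mul_mem (mul_mem hg (autInducedBy_le hE.1.1 ha)) (inv_mem hg)) (h g hg)
    (k := k) (by rw [conj_pow, show a ^ p ^ k = 1 from congrArg Subtype.val hk, mul_one, mul_inv_cancel])
  have h2 : c * g ∈ extGroup F E := by
    refine ext_of_conj hS hF hE ha haI (mul_mem hcF hg) ?_
    rwa [show c * g * a * (c * g)⁻¹ = c * (g * a * g⁻¹) * c⁻¹ by group]
  have h3 := mul_mem (inv_mem hcX) (hX h2)
  rwa [inv_mul_cancel_left] at h3

/-- An automorphism normalizing `Aut_S(E)` extends to the normalizer. -/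
theorem extend_normalizer (hS : IsPGroup p S) (hF : F.IsSaturated p) (hE : F.IsFullyNormalized E)
    {γ : MulAut E} (hγ : γ ∈ F.autGroup E)
    (hn : ∀ u ∈ autInducedBy S E, γ * u * γ⁻¹ ∈ autInducedBy S E) :
    ∃ β ∈ F.autGroup (normalizerIn S E),
      ∀ x ∈ E, autFun β x = autFun γ x := by
  have : Finite E := finite_of_le hE.1
  have hm := isMap_of_mem_autGroup hE.1 hγ
  obtain ⟨θ, hθ, hθe⟩ := exists_extension hS hF hm
    (by rw [autFun_img]; exact fullyNormalized_fullyCentralized hS hF hE)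
  have hN : normalizerIn S E ≤ nSub S E (autFun γ) := by
    intro g hg
    refine ⟨hg.1, hg.2, ?_⟩
    obtain ⟨h, hh, hhe⟩ := mem_autInducedBy_iff'.1
      (hn (conjAut S E ⟨g, hg⟩) (conjAut_range S E ▸ ⟨_, rfl⟩))
    refine ⟨h, hh.1, fun x hx => ?_⟩
    have h1 := hhe _ (autFun_mem γ hx)
    rw [autFun_mul, autFun_mul, autFun_inv_apply, conjAut_apply ⟨g, hg⟩ hx] at h1
    exact h1
  replace hθ := hθ.restrict hN
  have hθE : img θ E = E := by rw [img_congr hθe, autFun_img]
  have hle := hθ.img_normalizerIn_le (le_normalizerIn hE.1) le_rfl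
  rw [hθE] at hle
  have : Finite (normalizerIn S E) := finite_of_le normalizerIn_le
  obtain ⟨β, hβ, hβe⟩ := hθ.exists_aut (eq_of_le_card hle (le_of_eq hθ.card_img.symm))
  exact ⟨β, hβ, fun x hx => by rw [hβe x (le_normalizerIn hE.1 hx), hθe x hx]⟩

/-- If a nonessential fully normalized subgroup has index `p` in its normalizer, its automorphisms
extend to the normalizer. -/
theorem extend_of_not_essential (hS : IsPGroup p S) (hF : F.IsSaturated p) {P : Subgroup Ω}
    (hlt : P < S) (hP : F.IsFullyNormalized P) (hne : ¬ F.IsEssential p P) {k : ℕ}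
    (hcP : Nat.card P = p ^ k) (hcN : Nat.card (normalizerIn S P) = p ^ (k + 1))
    {α : MulAut P} (hα : α ∈ F.autGroup P) :
    ∃ β ∈ F.autGroup (normalizerIn S P), ∀ x ∈ P, autFun β x = autFun α x := by
  have hY : extGroup F P = F.autGroup P := by
    by_contra h
    exact hne ((essential_iff hS hF hlt hP).2 h)
  rw [← hY] at hα
  have hPN := le_normalizerIn (S := S) hP.1
  induction hα using Subgroup.closure_induction with
  | mem a ha =>
    obtain ⟨Q, f, hPQ, hf, he⟩ := ha
    have : Finite Q := finite_of_le hf.le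
    have hQp : IsPGroup p Q := hS.to_le hf.le
    obtain ⟨g, hg, hgP⟩ := exists_mem_normalizer_not_mem hQp hPQ
    have : Finite (normalizerIn S P) := finite_of_le normalizerIn_le
    have hN : normalizerIn Q P = normalizerIn S P := by
      refine eq_of_le_card (inf_le_inf_right _ hf.le) ?_
      rw [hcN]
      have : Finite (normalizerIn Q P) := finite_of_le normalizerIn_le
      have h1 : Nat.card P < Nat.card (normalizerIn Q P) :=
        card_lt_card (SetLike.lt_iff_le_and_exists.2 ⟨le_normalizerIn hPQ.le, g, hg, hgP⟩)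
      have hNp : IsPGroup p (normalizerIn Q P) := hS.to_le (le_trans inf_le_left hf.le)
      obtain ⟨m, hm⟩ := IsPGroup.iff_card.1 hNp
      rw [hm, hcP] at h1
      rw [hm]
      exact Nat.pow_le_pow_right hp.out.pos ((Nat.pow_lt_pow_iff_right hp.out.one_lt).1 h1)
    have hNQ : normalizerIn S P ≤ Q := hN ▸ inf_le_left
    have himgP : img f P = P := by rw [img_congr he, autFun_img]
    have hle := hf.img_normalizerIn_le hPQ.le hNQ
    rw [himgP] at hle
    obtain ⟨β, hβ, hβe⟩ := (hf.restrict hNQ).exists_aut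
      (eq_of_le_card hle (le_of_eq (hf.restrict hNQ).card_img.symm))
    exact ⟨β, hβ, fun x hx => by rw [hβe x (hPN hx), he x hx]⟩
  | one => exact ⟨1, one_mem _, fun x _ => by rw [autFun_one, autFun_one]⟩
  | mul a b _ _ iha ihb =>
    obtain ⟨β, hβ, hβe⟩ := iha
    obtain ⟨β', hβ', hβe'⟩ := ihb
    exact ⟨β * β', mul_mem hβ hβ', fun x hx => by
      rw [autFun_mul, autFun_mul, hβe' x hx, hβe _ (autFun_mem b hx)]⟩
  | inv a _ iha =>
    obtain ⟨β, hβ, hβe⟩ := iha
    refine ⟨β⁻¹, inv_mem hβ, fun x hx => ?_⟩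
    have h1 := hβe _ (autFun_mem a⁻¹ hx)
    rw [autFun_apply_inv] at h1
    rw [← autFun_inv_apply β (autFun a⁻¹ x), h1]

/-- Conjugation by an element of the normalizer outside a centric subgroup is not inner. -/
theorem conjAut_not_inn (hE : F.IsCentric E) {g : Ω} (hg : g ∈ normalizerIn S E) (hgE : g ∉ E) :
    conjAut S E ⟨g, hg⟩ ∉ Inn E := by
  intro h
  have hnorm := inn_normal F E
  refine mk_conjAut_ne_one hE hg hgE (a := ⟨conjAut S E ⟨g, hg⟩,
    autInducedBy_le hE.1 (conjAut_range S E ▸ ⟨_, rfl⟩)⟩) rfl ?_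
  exact (QuotientGroup.eq_one_iff _).2 h

theorem conjAut_mem {g : Ω} (hg : g ∈ normalizerIn S E) :
    conjAut S E ⟨g, hg⟩ ∈ autInducedBy S E :=
  conjAut_range S E ▸ ⟨_, rfl⟩

end Essential

end Cfsg.Agent.GStructB.P5
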