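/-
Common notions for the essential subgroups of a fusion system on a group of order `p ^ 5`.
-/
import Cfsg.Agent.GStructB.P5.Core1
import Cfsg.Agent.GStructB.P5.Fusion

set_option autoImplicit false
set_option linter.unusedSectionVars false

namespace Cfsg.Agent.GStructB.P5

open Cfsg Cfsg.FusionSystem Cfsg.Agent.Fusion Cfsg.Agent.Fusion.Basic Cfsg.Agent.Fusion.Saturation
  Cfsg.Agent.Fusion.Alperin
open scoped commutatorElement

/-! ### Groups -/

section Group

variable {H : Type*} [Group H] [Finite H] {p : ℕ} [hp : Fact p.Prime]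

theorem relIndex_le_of_card {C D : Subgroup H} (hCD : C ≤ D) (h : Nat.card D ≤ p * Nat.card C) :
    C.relIndex D ≤ p := by
  have h1 := Subgroup.index_mul_card (C.subgroupOf D)
  rw [Nat.card_congr (Subgroup.subgroupOfEquivOfLe hCD).toEquiv, ← Subgroup.relIndex] at h1
  rw [← h1] at h
  exact Nat.le_of_mul_le_mul_right h Nat.card_pos

/-- An automorphism of `p`-power order. -/
def PEl (p : ℕ) (a : MulAut H) : Prop := ∃ k, a ^ p ^ k = 1

theorem PEl.conj {a : MulAut H} (ha : PEl p a) (g : MulAut H) : PEl p (g * a * g⁻¹) := by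
  obtain ⟨k, hk⟩ := ha
  exact ⟨k, by rw [conj_pow, hk, mul_one, mul_inv_cancel]⟩

/-- An element of `p`-power order acts trivially on invariant factors of order at most `p`. -/
theorem PEl.step {a : MulAut H} (ha : PEl p a) {C D : Subgroup H} (hCD : C ≤ D)
    (h : Nat.card D ≤ p * Nat.card C) (hC : ∀ x ∈ C, a x ∈ C) (hD : ∀ x ∈ D, a x ∈ D) :
    ∀ x ∈ D, x⁻¹ * a x ∈ C := by
  obtain ⟨k, hk⟩ := ha
  exact EssentialShape.step_fixed (relIndex_le_of_card hCD h) hC hD hk

theorem PEl.fix {a : MulAut H} (ha : PEl p a) {D : Subgroup H} (h : Nat.card D ≤ p)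
    (hD : ∀ x ∈ D, a x ∈ D) : ∀ x ∈ D, a x = x := by
  intro x hx
  have h1 := ha.step (C := ⊥) bot_le (by simpa using h)
    (fun y hy => by rw [Subgroup.mem_bot.1 hy, map_one]; exact one_mem _) hD x hx
  rw [Subgroup.mem_bot, inv_mul_eq_one] at h1
  exact h1.symm

theorem sq_mem {N : Subgroup H} (hH : IsPGroup p H) (hp2 : p ≠ 2) {x : H} (h : x ^ 2 ∈ N) : x ∈ N := by
  obtain ⟨k, hk⟩ := hH x
  have hcop : Nat.Coprime 2 (orderOf x) := by
    refine Nat.Coprime.coprime_dvd_right (orderOf_dvd_of_pow_eq_one hk) (Nat.Coprime.pow_right k ?_)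
    exact (Nat.coprime_primes Nat.prime_two hp.out).2 hp2.symm
  obtain ⟨m, hm⟩ := exists_pow_eq_self_of_coprime hcop
  rw [← hm]
  exact pow_mem h m

/-- An automorphism maps the centre onto itself. -/
theorem aut_center_mem (f : MulAut H) {z : H} (hz : z ∈ Subgroup.center H) : f z ∈ Subgroup.center H := by
  rw [Subgroup.mem_center_iff] at hz ⊢
  intro g
  have := congrArg f (hz (f.symm g))
  simpa using this

/-- An element commuting with a large subgroup is central. -/
theorem card_center_le (hH : IsPGroup p H) {k : ℕ} (hc : Nat.card H = p ^ (k + 2))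
    (hna : ¬ ∀ a b : H, a * b = b * a) : Nat.card (Subgroup.center H) ≤ p ^ k := by
  obtain ⟨m, hm⟩ := card_exp hH (Subgroup.center H)
  rw [hm]
  refine Nat.pow_le_pow_right hp.out.pos ?_
  by_contra h
  refine hna fun a b => ?_
  by_cases ha : a ∈ Subgroup.center H
  · exact (Subgroup.mem_center_iff.1 ha b).symm
  set C := Subgroup.centralizer ({a} : Set H)
  have h1 : Subgroup.center H < C := lt_of_le_of_ne (Subgroup.center_le_centralizer _) fun e =>
    ha (e ▸ Subgroup.mem_centralizer_singleton_iff.2 rfl)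
  have h2 := succ_le_of_lt hH h1 hm
  have h3 : C = ⊤ := eq_top_of_lt_card hH (k := k + 1) (lt_of_lt_of_le
    (Nat.pow_lt_pow_right hp.out.one_lt (by omega)) h2) hc
  exact (Subgroup.mem_centralizer_singleton_iff.1 (h3.ge (Subgroup.mem_top b))).symm

end Group

/-! ### The ambient setting -/

section Ambient

variable {Ω : Type*} [Group Ω] {S : Subgroup Ω} [Finite S] {F : FusionSystem S} {p : ℕ}
  [hp : Fact p.Prime] {E : Subgroup Ω}

/-- The automorphisms moving elements within cosets of `N`. -/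
def movSub (N E : Subgroup Ω) : Subgroup (MulAut E) where
  carrier := {α | ∀ x : E, (x : Ω)⁻¹ * (α x : E) ∈ N}
  one_mem' := fun x => by simp
  mul_mem' := by
    intro α β hα hβ x
    have h := N.mul_mem (hβ x) (hα (β x))
    rwa [mul_assoc, mul_inv_cancel_left] at h
  inv_mem' := by
    intro α hα x
    have h := N.inv_mem (hα (α⁻¹ x))
    rwa [MulAut.apply_inv_self, mul_inv_rev, inv_inv] at h

theorem mem_movSub {N : Subgroup Ω} {α : MulAut E} :
    α ∈ movSub N E ↔ ∀ x : E, (x : Ω)⁻¹ * (α x : E) ∈ N := Iff.rfl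

/-- The two consequences of an essential subgroup that are needed. -/
def Outcome (F : FusionSystem S) (p : ℕ) (E : Subgroup Ω) : Prop :=
  Fixed S p ∧ ∀ N : Subgroup Ω, (∀ x ∈ S, ∀ y ∈ S, ⁅x, y⁆ ∈ N) → extGroup F E ≤ movSub N E →
    F.autGroup E ≤ movSub N E

theorem pel_induced (hS : IsPGroup p S) {α : MulAut E} (hα : α ∈ autInducedBy S E) : PEl p α := by
  obtain ⟨k, hk⟩ := isPGroup_autInducedBy (P := E) hS ⟨α, hα⟩
  exact ⟨k, congrArg Subtype.val hk⟩

theorem hna_sub (hna : ∀ B : Subgroup Ω, B ≤ S → IsMulCommutative B → Nat.card B ≠ p ^ 4)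
    (B : Subgroup S) (hB : IsMulCommutative B) : Nat.card B ≠ p ^ 4 := by
  intro hc
  refine hna (B.map S.subtype) (Subgroup.map_subtype_le B) inferInstance ?_
  rwa [Nat.card_congr (B.equivMapOfInjective _ S.subtype_injective).toEquiv.symm]

/-- A subgroup of index `p` of `S` is normalized by `S`. -/
theorem normalizerIn_eq (hS : IsPGroup p S) (hES : E ≤ S) {k : ℕ} (hc : Nat.card S = p ^ (k + 1))
    (hE : Nat.card E = p ^ k) : normalizerIn S E = S := by
  refine le_antisymm normalizerIn_le fun s hs => ⟨hs, ?_⟩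
  have : Finite E := finite_of_le hES
  have hn : (E.subgroupOf S).Normal := normal_of_index hS hc
    ((Nat.card_congr (Subgroup.subgroupOfEquivOfLe hES).toEquiv).trans hE)
  exact mem_normalizer_of_forall fun x hx => hn.conj_mem ⟨x, hES hx⟩ hx ⟨s, hs⟩

/-- Invariant subgroups with steps of index `p` separate nothing. -/
theorem sep_steps (hS : IsPGroup p S) (hF : F.IsSaturated p) (hE : F.IsEssential p E)
    {g a a' : MulAut E} (hg : g ∈ F.autGroup E) (hgY : g ∉ extGroup F E)
    (ha : a ∈ autInducedBy S E) (haI : a ∉ Inn E) (ha' : a' ∈ autInducedBy S E) (haI' : a' ∉ Inn E)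
    {A B D : Subgroup E} (hAB : A ≤ B) (hBD : B ≤ D) (hA : Nat.card A ≤ p)
    (hB : Nat.card B ≤ p * Nat.card A) (hD : Nat.card D ≤ p * Nat.card B)
    (hT : Nat.card E ≤ p * Nat.card D)
    (haA : ∀ x ∈ A, a x ∈ A) (haB : ∀ x ∈ B, a x ∈ B) (haD : ∀ x ∈ D, a x ∈ D)
    (hbA : ∀ x ∈ A, (g * a' * g⁻¹) x ∈ A) (hbB : ∀ x ∈ B, (g * a' * g⁻¹) x ∈ B)
    (hbD : ∀ x ∈ D, (g * a' * g⁻¹) x ∈ D) : False := by
  have : Finite E := ess_finite hE
  have key : ∀ c : MulAut E, PEl p c → (∀ x ∈ A, c x ∈ A) → (∀ x ∈ B, c x ∈ B) →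
      (∀ x ∈ D, c x ∈ D) → Stab A B D c := fun c hc h1 h2 h3 =>
    ⟨hc.fix hA h1, hc.step hAB hB h1 h2, hc.step hBD hD h2 h3, fun x =>
      hc.step (D := ⊤) le_top (by rwa [Subgroup.card_top]) h3 (fun _ _ => Subgroup.mem_top _) x
        (Subgroup.mem_top x)⟩
  exact sep_series hS hF hE hg hgY ha haI ha' haI' hAB hBD (key a (pel_induced hS ha) haA haB haD)
    (key _ ((pel_induced hS ha').conj g) hbA hbB hbD)

theorem inn_map_mem {γ ι : MulAut E} (h : ι ∈ Inn E) : γ * ι * γ⁻¹ ∈ Inn E := by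
  obtain ⟨m, rfl⟩ := h
  refine ⟨γ m, MulEquiv.ext fun v => ?_⟩
  show γ m * v * (γ m)⁻¹ = γ (m * γ⁻¹ v * m⁻¹)
  rw [map_mul, map_mul, map_inv, MulAut.apply_inv_self]

end Ambient

end Cfsg.Agent.GStructB.P5
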