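/-
Nonabelian groups of order `p ^ 4`; such groups with centre of order `p` are not essential.
-/
import Cfsg.Agent.GStructB.P5.Setup

set_option autoImplicit false
set_option linter.unusedSectionVars false

namespace Cfsg.Agent.GStructB.P5

open Cfsg Cfsg.FusionSystem Cfsg.Agent.Fusion Cfsg.Agent.Fusion.Basic Cfsg.Agent.Fusion.Saturation
  Cfsg.Agent.Fusion.Alperin
open scoped commutatorElement

section Group

variable {H : Type*} [Group H] [Finite H] {p : ℕ} [hp : Fact p.Prime]

theorem card_eq_of_bounds {n k : ℕ} (hn : ∃ m, n = p ^ m) (h1 : p ^ k ≤ n) (h2 : n < p ^ (k + 1)) :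
    n = p ^ k := by
  obtain ⟨m, rfl⟩ := hn
  have := (Nat.pow_le_pow_iff_right hp.out.one_lt).1 h1
  have := (Nat.pow_lt_pow_iff_right hp.out.one_lt).1 h2
  rw [show m = k by omega]

theorem card_center_pos (hH : IsPGroup p H) {k : ℕ} (hk : k ≠ 0) (hc : Nat.card H = p ^ k) :
    p ≤ Nat.card (Subgroup.center H) := by
  have : Nontrivial H := Finite.one_lt_card_iff_nontrivial.1 (hc ▸ Nat.one_lt_pow hk hp.out.one_lt)
  simpa using succ_le_of_lt hH
    (bot_lt_iff_ne_bot.2 ((Subgroup.nontrivial_iff_ne_bot _).1 hH.center_nontrivial)) (k := 0) (by simp)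

/-- In a nonabelian group of order `p ^ 4` with centre of order `p` the second centre has order
`p ^ 2` and its centralizer has order `p ^ 3`. -/
theorem series_of_small_center (hH : IsPGroup p H) (hc : Nat.card H = p ^ 4)
    (hZ : Nat.card (Subgroup.center H) = p) :
    ∃ B C : Subgroup H, Subgroup.center H ≤ B ∧ B ≤ C ∧ Nat.card B = p ^ 2 ∧ Nat.card C = p ^ 3 ∧
      (∀ f : MulAut H, (∀ x ∈ B, f x ∈ B) ∧ ∀ x ∈ C, f x ∈ C) := by
  set Z := Subgroup.center H with hZdef
  have Zc : ∀ z ∈ Z, ∀ g : H, g * z = z * g := fun z hz g => Subgroup.mem_center_iff.1 hz g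
  -- the quotient by the centre is not abelian
  have hnq : ¬ ∀ g h : H, ⁅g, h⁆ ∈ Z := by
    intro h
    have key : ∀ d : H, d ∉ Z → p ^ 3 = Nat.card (Subgroup.centralizer ({d} : Set H)) := by
      intro d hd
      have h1 := card_centralizer_elt hH hZ.le (fun g z hz => Zc z hz g) (d := d) fun g => h g d
      rw [hc] at h1
      refine le_antisymm (Nat.le_of_mul_le_mul_right (by rw [← pow_succ]; exact h1) hp.out.pos) ?_
      refine le_pred_of_lt hH (lt_top_iff_ne_top.2 fun e => hd ?_) (by rw [Subgroup.card_top, hc])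
      exact Subgroup.mem_center_iff.2 fun g =>
        Subgroup.mem_centralizer_singleton_iff.1 (e.ge (Subgroup.mem_top g))
    have hne : Z ≠ ⊤ := fun e => by
      rw [e, Subgroup.card_top, hc] at hZ
      exact (lt_self_pow₀ hp.out.one_lt (by norm_num : 1 < 4)).ne hZ.symm
    obtain ⟨x, -, hx⟩ := SetLike.exists_of_lt (lt_top_iff_ne_top.2 hne)
    set C := Subgroup.centralizer ({x} : Set H) with hC
    have cardC : p ^ 3 = Nat.card C := key x hx
    have memC : ∀ w, w ∈ C ↔ w * x = x * w := fun w => Subgroup.mem_centralizer_singleton_iff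
    -- `C` is abelian
    have hCab : ∀ a b : C, a * b = b * a := by
      by_contra hn
      have h1 := card_center_le (hH.to_subgroup C) (k := 1) cardC.symm hn
      have h2 : Z.subgroupOf C < Subgroup.center C := by
        refine lt_of_le_of_ne (fun z hz => Subgroup.mem_center_iff.2 fun g =>
          Subtype.ext (Zc _ hz g)) fun e => hx ?_
        have : (⟨x, (memC x).2 rfl⟩ : C) ∈ Subgroup.center C :=
          Subgroup.mem_center_iff.2 fun g => Subtype.ext ((memC g).1 g.2)
        exact e.ge this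
      have h3 := succ_le_of_lt (hH.to_subgroup C) h2 (k := 1) (by
        rw [Nat.card_congr (Subgroup.subgroupOfEquivOfLe
          (fun z hz => (memC z).2 (Zc z hz x).symm : Z ≤ C)).toEquiv, hZ, pow_one])
      exact absurd (h3.trans h1) (Nat.pow_lt_pow_right hp.out.one_lt one_lt_two).not_ge
    obtain ⟨y, -, hy⟩ := SetLike.exists_of_lt (lt_top_iff_ne_top.2 fun e : C = ⊤ => by
      rw [e, Subgroup.card_top, hc] at cardC
      exact (Nat.pow_lt_pow_right hp.out.one_lt (by norm_num : 3 < 4)).ne cardC)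
    have hyZ : y ∉ Z := fun hyZ => hy ((memC y).2 (Zc y hyZ x).symm)
    set C' := Subgroup.centralizer ({y} : Set H) with hC'
    -- an element of both centralizers
    have h4 : Z < C ⊓ C' := by
      refine lt_of_le_of_ne (le_inf (fun z hz => (memC z).2 (Zc z hz x).symm)
        fun z hz => Subgroup.mem_centralizer_singleton_iff.2 (Zc z hz y).symm) fun e => ?_
      have h5 : C'.index ≤ p := by
        have := Subgroup.index_mul_card C'
        rw [← key y hyZ, hc, pow_succ' p 3] at this
        exact (Nat.eq_of_mul_eq_mul_right (pow_pos hp.out.pos 3) this).le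
      have h6 := Subgroup.index_mul_card (C'.subgroupOf C)
      rw [show C'.subgroupOf C = (C' ⊓ C).subgroupOf C by simp [Subgroup.inf_subgroupOf_right],
        Nat.card_congr (Subgroup.subgroupOfEquivOfLe (inf_le_right : C' ⊓ C ≤ C)).toEquiv,
        inf_comm C' C, ← e, hZ, ← cardC] at h6
      have h7 : (Z.subgroupOf C).index ≤ p := by
        have h8 := Subgroup.relIndex_le_of_le_right (H := C') (le_top : C ≤ ⊤)
          (by rw [Subgroup.relIndex_top_right]; exact Subgroup.index_ne_zero_of_finite)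
        rw [Subgroup.relIndex_top_right] at h8
        rw [e, inf_comm, Subgroup.inf_subgroupOf_right]
        exact h8.trans h5
      have h9 : p ^ 3 ≤ p * p := h6 ▸ Nat.mul_le_mul_right p h7
      rw [← pow_two] at h9
      exact absurd h9 (Nat.pow_lt_pow_right hp.out.one_lt (by norm_num : 2 < 3)).not_ge
    obtain ⟨w, ⟨hwC, hwC'⟩, hwZ⟩ := SetLike.exists_of_lt h4
    set D := Subgroup.centralizer ({w} : Set H)
    have h5 : C < D := by
      refine lt_of_le_of_ne (fun u hu => Subgroup.mem_centralizer_singleton_iff.2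
        (congrArg Subtype.val (hCab ⟨u, hu⟩ ⟨w, hwC⟩))) fun e => hy ?_
      exact e.ge (Subgroup.mem_centralizer_singleton_iff.2
        (Subgroup.mem_centralizer_singleton_iff.1 hwC').symm)
    have h6 := succ_le_of_lt hH h5 cardC.symm
    rw [← key w hwZ] at h6
    exact absurd h6 (Nat.pow_lt_pow_right hp.out.one_lt (by norm_num : 3 < 4)).not_ge
  set B := (Subgroup.center (H ⧸ Z)).comap (QuotientGroup.mk' Z) with hB
  have memB : ∀ u : H, u ∈ B ↔ ∀ g : H, ⁅u, g⁆ ∈ Z := by
    intro u
    rw [hB, Subgroup.mem_comap, Subgroup.mem_center_iff]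
    refine ⟨fun h g => (QuotientGroup.eq_one_iff _).1 ?_, fun h x => ?_⟩
    · show QuotientGroup.mk' Z ⁅u, g⁆ = 1
      rw [map_commutatorElement]
      exact commutatorElement_eq_one_iff_commute.2 (h _).symm
    · obtain ⟨g, rfl⟩ := QuotientGroup.mk'_surjective Z x
      refine (commutatorElement_eq_one_iff_commute.1 ?_).eq.symm
      rw [← map_commutatorElement]; exact (QuotientGroup.eq_one_iff _).2 (h g)
  have ZB : Z ≤ B := fun z hz => (memB z).2 fun g => by
    rw [commutatorElement_eq_one_iff_commute.2 ((Zc z hz g).symm : Commute z g)]; exact one_mem _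
  have cardQ : Nat.card (H ⧸ Z) = p ^ 3 := by
    have h := Subgroup.card_eq_card_quotient_mul_card_subgroup Z
    rw [hc, hZ, pow_succ p 3] at h
    exact (Nat.eq_of_mul_eq_mul_right hp.out.pos h).symm
  have hQ := hH.to_quotient Z
  have cardQZ : Nat.card (Subgroup.center (H ⧸ Z)) = p := by
    refine le_antisymm ((card_center_le hQ (k := 1) cardQ ?_).trans (pow_one p).le) ?_
    · intro h
      refine hnq fun g g' => (QuotientGroup.eq_one_iff _).1 ?_
      show QuotientGroup.mk' Z ⁅g, g'⁆ = 1
      rw [map_commutatorElement, commutatorElement_eq_one_iff_commute]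
      exact h _ _
    · exact card_center_pos hQ (by norm_num) cardQ
  have cardB : Nat.card B = p ^ 2 := by
    have h1 : B.index = (Subgroup.center (H ⧸ Z)).index :=
      Subgroup.index_comap_of_surjective _ (QuotientGroup.mk'_surjective Z)
    have h2 := Subgroup.index_mul_card (Subgroup.center (H ⧸ Z))
    have h3 := Subgroup.index_mul_card B
    rw [cardQZ, cardQ] at h2
    have h4 : B.index = p ^ 2 := by
      rw [h1]; exact Nat.eq_of_mul_eq_mul_right hp.out.pos (h2.trans (pow_succ p 2))
    rw [h4, hc, show p ^ 4 = p ^ 2 * p ^ 2 by ring] at h3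
    exact Nat.eq_of_mul_eq_mul_left (pow_pos hp.out.pos 2) h3
  obtain ⟨d, hd, hdZ⟩ := SetLike.exists_of_lt (lt_of_le_of_ne ZB fun e => by
    rw [← e, hZ] at cardB
    exact (lt_self_pow₀ hp.out.one_lt (by norm_num : 1 < 2)).ne cardB)
  have Bcoord : ∀ u ∈ B, ∃ i : ℕ, (d ^ i)⁻¹ * u ∈ Z := fun u hu =>
    coord ZB (fun b _ a ha => by rw [Zc a ha b, mul_inv_cancel_right]; exact ha)
      (by rw [cardB, hZ, pow_two]) hd hdZ hu
  set C := Subgroup.centralizer (B : Set H) with hC
  have cardC : Nat.card C = p ^ 3 := by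
    have h0 : C = Subgroup.centralizer ({d} : Set H) := by
      refine le_antisymm (Subgroup.centralizer_le (Set.singleton_subset_iff.2 hd)) fun g hg => ?_
      intro u hu
      obtain ⟨i, hi⟩ := Bcoord u hu
      rw [← mul_inv_cancel_left (d ^ i) u]
      exact ((show Commute d g from (Subgroup.mem_centralizer_singleton_iff.1 hg).symm).pow_left i
        |>.mul_left (Zc _ hi g).symm).eq
    rw [h0]
    have h1 := card_centralizer_elt hH hZ.le (fun g z hz => Zc z hz g) (d := d) fun g => by
      rw [← commutatorElement_inv]; exact inv_mem ((memB d).1 hd g)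
    rw [hc] at h1
    refine le_antisymm (le_pred_of_lt hH (lt_top_iff_ne_top.2 fun e => hdZ ?_)
      (by rw [Subgroup.card_top, hc])) (Nat.le_of_mul_le_mul_right (by rw [← pow_succ]; exact h1) hp.out.pos)
    exact Subgroup.mem_center_iff.2 fun g =>
      Subgroup.mem_centralizer_singleton_iff.1 (e.ge (Subgroup.mem_top g))
  have BC : B ≤ C := fun u hu v hv => by
    obtain ⟨i, hi⟩ := Bcoord u hu
    obtain ⟨j, hj⟩ := Bcoord v hv
    rw [← mul_inv_cancel_left (d ^ i) u, ← mul_inv_cancel_left (d ^ j) v]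
    exact (((Commute.refl d).pow_pow j i).mul_right (Zc _ hi _)).mul_left
      ((Zc _ hj _).symm : Commute _ _) |>.eq
  refine ⟨B, C, ZB, BC, cardB, cardC, fun f => ?_⟩
  have fB : ∀ (f : MulAut H), ∀ x ∈ B, f x ∈ B := fun f x hx => by
    rw [memB] at hx ⊢
    intro g
    have := aut_center_mem f (hx (f.symm g))
    rwa [map_commutatorElement, MulEquiv.apply_symm_apply] at this
  refine ⟨fB f, fun x hx v hv => ?_⟩
  have := congrArg f (hx (f.symm v) (fB f.symm v hv))
  simpa using this

/-- The data of a group of order `p ^ 4` with centre of order `p ^ 2`. -/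
theorem derived_of_large_center (hH : IsPGroup p H) (hc : Nat.card H = p ^ 4)
    (hna : ¬ ∀ a b : H, a * b = b * a) (hZ : Nat.card (Subgroup.center H) = p ^ 2) :
    Nat.card (commutator H) = p ∧ commutator H ≤ Subgroup.center H := by
  set Z := Subgroup.center H with hZdef
  have Zc : ∀ z ∈ Z, ∀ g : H, g * z = z * g := fun z hz g => Subgroup.mem_center_iff.1 hz g
  have hcom : ∀ g h : H, ⁅g, h⁆ ∈ Z := fun g h => comm_mem hH Z (by rw [hc, hZ]; exact le_of_eq (pow_add p 2 2)) g h
  obtain ⟨e, -, heZ⟩ := SetLike.exists_of_lt (lt_top_iff_ne_top.2 fun e : Z = ⊤ => by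
    rw [e, Subgroup.card_top, hc] at hZ
    exact (Nat.pow_lt_pow_right hp.out.one_lt (by norm_num : 2 < 4)).ne hZ.symm)
  set C := Subgroup.centralizer ({e} : Set H) with hC
  obtain ⟨c, -, hcC⟩ := SetLike.exists_of_lt (lt_top_iff_ne_top.2 fun h : C = ⊤ => heZ
    (Subgroup.mem_center_iff.2 fun g =>
      Subgroup.mem_centralizer_singleton_iff.1 (h.ge (Subgroup.mem_top g))))
  have cardC : Nat.card C = p ^ 3 := by
    have h1 : Z < C := lt_of_le_of_ne (Subgroup.center_le_centralizer _) fun h =>
      heZ (h ▸ Subgroup.mem_centralizer_singleton_iff.2 rfl)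
    exact le_antisymm (le_pred_of_lt hH (lt_top_iff_ne_top.2 fun h => hcC (h.ge (Subgroup.mem_top c)))
      (by rw [Subgroup.card_top, hc])) (succ_le_of_lt hH h1 hZ)
  have hCn : C.Normal := normal_of_index hH hc cardC
  set l := ⁅e, c⁆
  have hl : l ≠ 1 := fun h =>
    hcC (Subgroup.mem_centralizer_singleton_iff.2 (commutatorElement_eq_one_iff_commute.1 h).eq.symm)
  have hlZ : l ∈ Z := hcom e c
  have hep : e ^ p ∈ Z := by
    have hZC : Z ≤ C := Subgroup.center_le_centralizer _
    have hn : (Z.subgroupOf C).Normal := inferInstance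
    have hq : Nat.card (C ⧸ Z.subgroupOf C) = p := by
      have h := Subgroup.card_eq_card_quotient_mul_card_subgroup (Z.subgroupOf C)
      rw [Nat.card_congr (Subgroup.subgroupOfEquivOfLe hZC).toEquiv, cardC, hZ, pow_succ' p 2] at h
      exact (Nat.eq_of_mul_eq_mul_right (pow_pos hp.out.pos 2) h).symm
    have h2 := pow_card_eq_one' (x := QuotientGroup.mk' (Z.subgroupOf C)
      ⟨e, Subgroup.mem_centralizer_singleton_iff.2 rfl⟩)
    rw [hq, ← map_pow] at h2
    exact (QuotientGroup.eq_one_iff ((⟨e, _⟩ : C) ^ p)).1 h2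
  have hlp : l ^ p = 1 := by
    rw [← comm_pow_left (x := e) (y := c) rfl (Zc _ hlZ e).symm]
    exact commutatorElement_eq_one_iff_commute.2 (Zc _ hep c).symm
  have hcard : Nat.card (Subgroup.zpowers l) = p := by
    rw [Nat.card_zpowers, orderOf_eq_prime hlp hl]
  have hcoord : ∀ g : H, ∃ i j : ℕ, ∃ z ∈ Z, g = c ^ i * (e ^ j * z) := fun g => by
    obtain ⟨i, hi⟩ := coord (le_top : C ≤ ⊤) (fun b _ a ha => hCn.conj_mem a ha b)
      (by rw [Subgroup.card_top, hc, cardC]; ring) (Subgroup.mem_top c) hcC (Subgroup.mem_top g)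
    obtain ⟨j, hj⟩ := coord (Subgroup.center_le_centralizer _ : Z ≤ C)
      (fun b _ a ha => by rw [Zc a ha b, mul_inv_cancel_right]; exact ha)
      (by rw [cardC, hZ]; ring) (Subgroup.mem_centralizer_singleton_iff.2 rfl) heZ hi
    exact ⟨i, j, _, hj, by group⟩
  have hle : commutator H ≤ Subgroup.zpowers l := by
    rw [_root_.commutator_def, Subgroup.commutator_le]
    intro g _ g' _
    obtain ⟨i, j, z, hz, rfl⟩ := hcoord g
    obtain ⟨i', j', z', hz', rfl⟩ := hcoord g'
    have key : ∀ (u : H) (i : ℕ), ⁅u, c⁆ ∈ Subgroup.zpowers l → ⁅u, c ^ i⁆ ∈ Subgroup.zpowers l :=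
      fun u i h => by
        rw [comm_pow_right rfl ((Zc _ (hcom u c) c).symm)]
        exact pow_mem h i
    have hlin : ∀ a b : H, ∀ k : ℕ, ⁅a, b⁆ ∈ Subgroup.zpowers l → ⁅a ^ k, b⁆ ∈ Subgroup.zpowers l :=
      fun a b k h => by
        rw [comm_pow_left rfl ((Zc _ (hcom a b) a).symm)]
        exact pow_mem h k
    have hce : ⁅c, e⁆ ∈ Subgroup.zpowers l := by
      rw [← commutatorElement_inv]; exact inv_mem (Subgroup.mem_zpowers l)
    have hz1 : ∀ u : H, ∀ z ∈ Z, ⁅u, z⁆ = 1 ∧ ⁅z, u⁆ = 1 := fun u z hz =>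
      ⟨commutatorElement_eq_one_iff_commute.2 (Zc z hz u),
        commutatorElement_eq_one_iff_commute.2 (Zc z hz u).symm⟩
    have hr : ∀ a b b' : H, ⁅a, b⁆ ∈ Subgroup.zpowers l → ⁅a, b'⁆ ∈ Subgroup.zpowers l →
        ⁅a, b * b'⁆ ∈ Subgroup.zpowers l := fun a b b' h h' => by
      rw [comm_mul_right, Zc _ (hcom a b') b, mul_inv_cancel_right]; exact mul_mem h h'
    have hl' : ∀ a a' b : H, ⁅a, b⁆ ∈ Subgroup.zpowers l → ⁅a', b⁆ ∈ Subgroup.zpowers l →
        ⁅a * a', b⁆ ∈ Subgroup.zpowers l := fun a a' b h h' => by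
      rw [comm_mul_left, Zc _ (hcom a' b) a, mul_inv_cancel_right]; exact mul_mem h' h
    have one : (1 : H) ∈ Subgroup.zpowers l := one_mem _
    have hself : ∀ a : H, ⁅a, a⁆ ∈ Subgroup.zpowers l := fun a => by
      rw [commutatorElement_eq_one_iff_commute.2 (Commute.refl a)]; exact one
    have hpow : ∀ a b : H, ∀ k m : ℕ, ⁅a, b⁆ ∈ Subgroup.zpowers l → ⁅a ^ k, b ^ m⁆ ∈ Subgroup.zpowers l :=
      fun a b k m h => by
        rw [comm_pow_right rfl ((Zc _ (hcom _ b) b).symm)]
        exact pow_mem (hlin a b k h) m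
    refine hl' _ _ _ ?_ (hl' _ _ _ ?_ (by rw [(hz1 _ z hz).2]; exact one))
    · exact hr _ _ _ (hpow c c i i' (hself c)) (hr _ _ _ (hpow c e i j' hce)
        (by rw [(hz1 _ z' hz').1]; exact one))
    · exact hr _ _ _ (hpow e c j i' (Subgroup.mem_zpowers l)) (hr _ _ _ (hpow e e j j' (hself e))
        (by rw [(hz1 _ z' hz').1]; exact one))
  have heq : commutator H = Subgroup.zpowers l := le_antisymm hle (Subgroup.zpowers_le.2 (by
    rw [_root_.commutator_def]
    exact Subgroup.commutator_mem_commutator (Subgroup.mem_top e) (Subgroup.mem_top c)))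
  exact ⟨heq ▸ hcard, heq ▸ Subgroup.zpowers_le.2 hlZ⟩

end Group

section Ambient

variable {Ω : Type*} [Group Ω] {S : Subgroup Ω} [Finite S] {F : FusionSystem S} {p : ℕ}
  [hp : Fact p.Prime] {E : Subgroup Ω}

/-- A subgroup of order `p ^ 4` with centre of order `p` is not essential. -/
theorem not_essential_small_center (hS : IsPGroup p S) (hc : Nat.card E = p ^ 4)
    (hZ : Nat.card (Subgroup.center E) = p) : ¬ F.IsEssential p E := by
  intro hE
  have : Finite E := ess_finite hE
  obtain ⟨B, C, ZB, BC, cardB, cardC, hinv⟩ := series_of_small_center (hS.to_le hE.1.1) hc hZ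
  refine EssentialShape.no_series hE hS (ser (Subgroup.center E) B C) 4 rfl rfl (ser_mono ZB BC) ?_ ?_
  · intro i hi a x hx
    interval_cases i
    · rw [Subgroup.mem_bot.1 hx, map_one]; exact one_mem _
    · exact aut_center_mem a hx
    · exact (hinv a).1 x hx
    · exact (hinv a).2 x hx
    · exact Subgroup.mem_top _
  · intro i hi
    refine relIndex_le_of_card (ser_mono ZB BC i hi) ?_
    interval_cases i
    · show Nat.card (Subgroup.center E) ≤ p * Nat.card (⊥ : Subgroup E)
      simp [hZ]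
    · show Nat.card B ≤ p * Nat.card (Subgroup.center E)
      rw [cardB, hZ, pow_two]
    · show Nat.card C ≤ p * Nat.card B
      rw [cardB, cardC, pow_succ' p 2]
    · show Nat.card (⊤ : Subgroup E) ≤ p * Nat.card C
      rw [Subgroup.card_top, hc, cardC, pow_succ' p 3]

end Ambient

end Cfsg.Agent.GStructB.P5
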