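/-
Normal subgroups of order `p ^ 3` are not essential.
-/
import Cfsg.Agent.GStructB.P5.Quartic
import Cfsg.Agent.Lib.Cores.Nilpotent
import Cfsg.Agent.Lib.Fusion.RankTwoResistant.Abelian

set_option autoImplicit false
set_option linter.unusedSectionVars false

namespace Cfsg.Agent.GStructB.P5

open Cfsg Cfsg.FusionSystem Cfsg.Agent.Fusion Cfsg.Agent.Fusion.Basic Cfsg.Agent.Fusion.Saturation
  Cfsg.Agent.Fusion.Alperin
open scoped commutatorElement

section Group

variable {G : Type*} [Group G] [Finite G] {p : ℕ} [hp : Fact p.Prime]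

/-- A normal subgroup properly containing a normal subgroup contains a normal subgroup one step above. -/
theorem exists_normal_succ (hG : IsPGroup p G) {U Q : Subgroup G} [U.Normal] [Q.Normal] (hUQ : U < Q)
    {j : ℕ} (hU : Nat.card U = p ^ j) :
    ∃ U' : Subgroup G, U'.Normal ∧ U ≤ U' ∧ U' ≤ Q ∧ Nat.card U' = p ^ (j + 1) ∧
      ∀ u ∈ U', ∀ g : G, ⁅g, u⁆ ∈ U := by
  set π := QuotientGroup.mk' U
  have hπ := QuotientGroup.mk'_surjective U
  have : (Q.map π).Normal := Subgroup.Normal.map inferInstance _ hπ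
  have hQp := hG.to_quotient U
  have : Group.IsNilpotent (G ⧸ U) := hQp.isNilpotent
  have hne : Q.map π ≠ ⊥ := fun h => hUQ.not_ge fun q hq =>
    (QuotientGroup.eq_one_iff q).1 (Subgroup.mem_bot.1 (h ▸ Subgroup.mem_map_of_mem π hq))
  obtain ⟨⟨x, hx⟩, hx1⟩ := Subgroup.ne_bot_iff_exists_ne_one.1 (Cores.inf_center_ne_bot hne)
  obtain ⟨i, hi⟩ := hQp x
  -- replace `x` by an element of order `p`
  obtain ⟨y, hy, hy1, hyp⟩ : ∃ y ∈ Q.map π ⊓ Subgroup.center (G ⧸ U), y ≠ 1 ∧ y ^ p = 1 := by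
    induction i generalizing x with
    | zero => exact absurd (Subtype.ext (by simpa using hi)) hx1
    | succ i ih =>
      by_cases h : x ^ p = 1
      · exact ⟨x, hx, fun h' => hx1 (Subtype.ext h'), h⟩
      · exact ih (x ^ p) (pow_mem hx p) (fun h' => h (congrArg Subtype.val h'))
          (by rw [← pow_mul, ← pow_succ', hi])
  have hyn : (Subgroup.zpowers y).Normal := ⟨fun z hz g => by
    have hzc : z ∈ Subgroup.center (G ⧸ U) := Subgroup.zpowers_le.2 hy.2 hz
    rw [Subgroup.mem_center_iff.1 hzc g, mul_inv_cancel_right]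
    exact hz⟩
  refine ⟨(Subgroup.zpowers y).comap π, Subgroup.Normal.comap inferInstance π, ?_, ?_, ?_, ?_⟩
  · intro u hu
    rw [Subgroup.mem_comap, show π u = 1 from (QuotientGroup.eq_one_iff u).2 hu]
    exact one_mem _
  · intro u hu
    obtain ⟨q, hq, hqu⟩ := (Subgroup.zpowers_le.2 hy.1) hu
    rw [← mul_inv_cancel_left q u]
    exact mul_mem hq (hUQ.le (QuotientGroup.eq.1 hqu))
  · have h1 := Subgroup.index_comap_of_surjective (Subgroup.zpowers y) hπ
    have h2 := Subgroup.index_mul_card (Subgroup.zpowers y)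
    have h3 := Subgroup.index_mul_card ((Subgroup.zpowers y).comap π)
    have h4 := Subgroup.card_eq_card_quotient_mul_card_subgroup U
    rw [Nat.card_zpowers, orderOf_eq_prime hyp hy1] at h2
    rw [h1, h4, ← h2, hU, mul_assoc, ← pow_succ'] at h3
    exact Nat.eq_of_mul_eq_mul_left (Nat.pos_of_ne_zero Subgroup.index_ne_zero_of_finite) h3
  · intro u hu g
    refine (QuotientGroup.eq_one_iff _).1 ?_
    show π ⁅g, u⁆ = 1
    rw [map_commutatorElement, commutatorElement_eq_one_iff_commute]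
    exact Subgroup.mem_center_iff.1 (Subgroup.zpowers_le.2 hy.2 hu) (π g)

/-- A self-centralizing normal nonabelian subgroup of order `p ^ 3` forces the order below `p ^ 5`. -/
theorem heisenberg_normal (hG : IsPGroup p G) (hc : Nat.card G = p ^ 5) {Q : Subgroup G} [Q.Normal]
    (hQ : Nat.card Q = p ^ 3) (hnab : ¬ ∀ a b : Q, a * b = b * a)
    (hC : Subgroup.centralizer (Q : Set G) ≤ Q) : False := by
  set Z := Subgroup.centralizer (Q : Set G) with hZdef
  have : Z.Normal := inferInstance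
  have hQp := hG.to_subgroup Q
  have hZc : Z.subgroupOf Q = Subgroup.center Q := by
    ext z
    rw [Subgroup.mem_subgroupOf, Subgroup.mem_center_iff]
    exact ⟨fun h g => Subtype.ext (h g g.2), fun h g hg => congrArg Subtype.val (h ⟨g, hg⟩)⟩
  have cardZ : Nat.card Z = p := by
    rw [← Nat.card_congr (Subgroup.subgroupOfEquivOfLe hC).toEquiv, hZc]
    exact le_antisymm ((card_center_le hQp (k := 1) hQ hnab).trans (pow_one p).le)
      (card_center_pos hQp (by norm_num) hQ)
  have hZQ : Z < Q := lt_of_le_of_ne hC fun h => by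
    rw [h, hQ] at cardZ
    exact (lt_self_pow₀ hp.out.one_lt (by norm_num : 1 < 3)).ne cardZ.symm
  obtain ⟨C₁, hC1n, hZC, hCQ, cardC, hcomm⟩ := exists_normal_succ hG hZQ (j := 1) (by simpa using cardZ)
  have hC1Q : C₁ < Q := lt_of_le_of_ne hCQ fun h => by
    rw [h, hQ] at cardC
    exact (Nat.pow_lt_pow_right hp.out.one_lt (by norm_num : 2 < 3)).ne cardC.symm
  obtain ⟨Q', hQ'n, hCQ', hQ'Q, cardQ', hcomm'⟩ := exists_normal_succ hG hC1Q cardC
  obtain rfl : Q' = Q := eq_of_le_card' hQ'Q (by rw [hQ, cardQ'])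
  obtain ⟨c, hcC, hcZ⟩ := SetLike.exists_of_lt (lt_of_le_of_ne hZC fun h => by
    rw [← h, cardZ] at cardC
    exact (lt_self_pow₀ hp.out.one_lt (by norm_num : 1 < 2)).ne cardC)
  obtain ⟨e, heQ, heC⟩ := SetLike.exists_of_lt hC1Q
  let φ : G ⧸ Z → Z × C₁ := fun s => (⟨⁅s.out, c⁆, hcomm c hcC _⟩, ⟨⁅s.out, e⁆, hcomm' e heQ _⟩)
  have hφ : Function.Injective φ := by
    intro s t h
    rw [← QuotientGroup.out_eq' s, ← QuotientGroup.out_eq' t]
    refine QuotientGroup.eq.2 ?_
    have key : ∀ u : G, ⁅s.out, u⁆ = ⁅t.out, u⁆ → Commute u (s.out⁻¹ * t.out) := by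
      intro u hu
      rw [commutatorElement_def, commutatorElement_def, mul_left_inj] at hu
      show u * (s.out⁻¹ * t.out) = s.out⁻¹ * t.out * u
      calc u * (s.out⁻¹ * t.out) = s.out⁻¹ * (s.out * u * s.out⁻¹) * t.out := by group
        _ = s.out⁻¹ * (t.out * u * t.out⁻¹) * t.out := by rw [hu]
        _ = _ := by group
    have hw_c := key c (congrArg (fun q => (q.1 : G)) h)
    have hw_e := key e (congrArg (fun q => (q.2 : G)) h)
    have hcen : ∀ z ∈ Z, ∀ g : G, Commute z g := fun z hz g =>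
      (central_of_card hG cardZ hz g).symm
    intro q hq
    obtain ⟨i, hi⟩ := coord hCQ (fun b _ u hu => hC1n.conj_mem u hu b) (by rw [hQ, cardC, pow_succ' p 2])
      heQ heC hq
    obtain ⟨j, hj⟩ := coord hZC (fun b _ u hu => by rw [← (hcen u hu b).eq, mul_inv_cancel_right]; exact hu)
      (by rw [cardC, cardZ, pow_two]) hcC hcZ hi
    rw [← mul_inv_cancel_left (e ^ i) q, ← mul_inv_cancel_left (c ^ j) ((e ^ i)⁻¹ * q)]
    exact ((hw_e.pow_left i).mul_left ((hw_c.pow_left j).mul_left (hcen _ hj _))).eq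
  have h1 := Nat.card_le_card_of_injective φ hφ
  rw [Nat.card_prod, cardZ, cardC] at h1
  have h2 := Subgroup.card_eq_card_quotient_mul_card_subgroup Z
  rw [hc, cardZ] at h2
  have h3 : p ^ 5 ≤ p * p ^ 2 * p := h2 ▸ Nat.mul_le_mul_right p h1
  rw [← pow_succ', ← pow_succ] at h3
  exact absurd h3 (Nat.pow_lt_pow_right hp.out.one_lt (by norm_num : 4 < 5)).not_ge

end Group

section Ambient

variable {Ω : Type*} [Group Ω] {S : Subgroup Ω} [Finite S] {F : FusionSystem S} {p : ℕ}
  [hp : Fact p.Prime] {E : Subgroup Ω}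

theorem subgroupOf_normal (hES : E ≤ S) (hN : normalizerIn S E = S) : (E.subgroupOf S).Normal :=
  ⟨fun v hv s => (Subgroup.mem_normalizer_iff.1 (hN.symm.le s.2).2 v).1 hv⟩

/-- A normal nonabelian subgroup of order `p ^ 3` is not self-centralizing. -/
theorem heisenberg_sub (hS : IsPGroup p S) (hcard : Nat.card S = p ^ 5) (hES : E ≤ S)
    (hN : normalizerIn S E = S) (hcE : Nat.card E = p ^ 3) (hnab : ¬ ∀ a b : E, a * b = b * a)
    (hC : centralizerIn S E ≤ E) : False := by
  have := subgroupOf_normal hES hN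
  let e := Subgroup.subgroupOfEquivOfLe hES
  refine heisenberg_normal hS hcard (Q := E.subgroupOf S) ((Nat.card_congr e.toEquiv).trans hcE) ?_ ?_
  · intro h
    refine hnab fun a b => ?_
    have := congrArg e (h (e.symm a) (e.symm b))
    simpa using this
  · intro s hs
    exact hC ⟨s.2, fun v hv => congrArg Subtype.val (hs ⟨v, hES hv⟩ hv)⟩

set_option maxHeartbeats 1000000 in
/-- A normal subgroup of order `p ^ 3` is not essential. -/
theorem not_essential_cubic_normal (hS : IsPGroup p S) (hF : F.IsSaturated p)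
    (hcard : Nat.card S = p ^ 5) (hN : normalizerIn S E = S) (hcE : Nat.card E = p ^ 3) :
    ¬ F.IsEssential p E := by
  intro hE
  have hfin : Finite E := ess_finite hE
  have hES : E ≤ S := hE.1.1
  have hlt := ess_lt hS hF hE
  have hCE := centric_centralizerIn_le hE.1
  have hEp : IsPGroup p E := hS.to_le hES
  by_cases hab : ∀ a b : E, a * b = b * a
  swap
  · exact heisenberg_sub hS hcard hES hN hcE hab hCE
  have hexp : ∀ v : E, v ^ p = 1 := by
    intro v
    by_contra hv
    obtain ⟨i, -, hi⟩ := (Nat.dvd_prime_pow hp.out).1 (orderOf_dvd_natCard v |>.trans hcE.dvd)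
    have h2 : 2 ≤ i := by
      by_contra h
      refine hv (orderOf_dvd_iff_pow_eq_one.1 ?_)
      rw [hi]
      exact (pow_dvd_pow p (by omega)).trans (pow_one p).dvd
    have ho : orderOf (v : Ω) = p ^ i := (Subgroup.orderOf_coe v).trans hi
    refine RankTwoResistant.abelian_not_essential hS (fun a ha b hb =>
      congrArg Subtype.val (hab ⟨a, ha⟩ ⟨b, hb⟩)) v.2 (ho ▸ pow_dvd_pow p h2) ?_ hE
    rw [ho, hcE, ← pow_succ]
    exact Nat.pow_le_pow_right hp.out.pos (by omega)
  have hinn : ∀ α ∈ Inn E, α = 1 := by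
    rintro _ ⟨m, rfl⟩
    refine MulEquiv.ext fun v => ?_
    show m * v * m⁻¹ = v
    rw [hab m v, mul_inv_cancel_right]
  -- a normal subgroup of order `p ^ 2` inside
  have hEn := subgroupOf_normal hES hN
  set ES := E.subgroupOf S
  have cardES : Nat.card ES = p ^ 3 := (Nat.card_congr (Subgroup.subgroupOfEquivOfLe hES).toEquiv).trans hcE
  obtain ⟨U, hUn, -, hUE, cardU, hUcomm⟩ := exists_normal_succ hS (U := ⊥) (Q := ES)
    (bot_lt_iff_ne_bot.2 fun h => by
      rw [h, Subgroup.card_bot] at cardES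
      exact (Nat.one_lt_pow (by norm_num : (3 : ℕ) ≠ 0) hp.out.one_lt).ne cardES) (j := 0) (by simp)
  have hUES : U < ES := lt_of_le_of_ne hUE fun h => by
    rw [h, cardES] at cardU
    exact (Nat.pow_lt_pow_right hp.out.one_lt (by norm_num : 1 < 3)).ne cardU.symm
  obtain ⟨V, hVn, hUV, hVE, cardV, hVcomm⟩ := exists_normal_succ hS hUES cardU
  obtain ⟨d₀, hd₀, hd₀U⟩ := SetLike.exists_of_lt (lt_of_le_of_ne hUV fun h => by
    rw [← h, cardU] at cardV
    exact (Nat.pow_lt_pow_right hp.out.one_lt (by norm_num : 1 < 2)).ne cardV)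
  have hUcen : ∀ (g : S), ∀ u ∈ U, g * u = u * g := fun g u hu =>
    central_of_card hS (by simpa using cardU) hu g
  set C := Subgroup.centralizer ({d₀} : Set S) with hCdef
  have cardC : p ^ 4 ≤ Nat.card C := by
    have h1 := card_centralizer_elt hS (show Nat.card U ≤ p by simpa using cardU.le) hUcen (d := d₀)
      (fun g => hVcomm d₀ hd₀ g)
    rw [hcard] at h1
    exact Nat.le_of_mul_le_mul_right (by rw [← pow_succ]; exact h1) hp.out.pos
  obtain ⟨x, hxC, hxE⟩ : ∃ x ∈ C, x ∉ ES := by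
    by_contra! h
    have := (Subgroup.card_le_of_le h).trans cardES.le
    exact absurd (cardC.trans this) (Nat.pow_lt_pow_right hp.out.one_lt (by norm_num : 3 < 4)).not_ge
  have hxV : ∀ u ∈ V, x * u = u * x := by
    intro u hu
    obtain ⟨i, hi⟩ := coord hUV (fun b _ u hu => hUn.conj_mem u hu b) (by rw [cardV, cardU, pow_succ' p 1])
      hd₀ hd₀U hu
    rw [← mul_inv_cancel_left (d₀ ^ i) u]
    exact (((show Commute x d₀ from Subgroup.mem_centralizer_singleton_iff.1 hxC).pow_right i).mul_right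
      (hUcen x _ hi : Commute x _)).eq
  -- the subgroup inside `E`
  let incl : E →* S := Subgroup.inclusion hES
  set A := V.comap incl with hA
  have cardA : Nat.card A = p ^ 2 := by
    have h1 : A.map incl = V := Subgroup.map_comap_eq_self (fun v hv => ⟨⟨v, hVE hv⟩, rfl⟩)
    rw [Nat.card_congr (A.equivMapOfInjective incl (Subgroup.inclusion_injective hES)).toEquiv, h1, cardV]
  have hAinv : ∀ r ∈ autInducedBy S E, ∀ w ∈ A, r w ∈ A := by
    intro r hr w hw
    obtain ⟨s, hs, hsr⟩ := mem_autInducedBy_iff.1 hr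
    show incl (r w) ∈ V
    rw [show incl (r w) = ⟨s, hs⟩ * incl w * ⟨s, hs⟩⁻¹ from Subtype.ext (hsr w)]
    exact hVn.conj_mem _ hw _
  have hxN : (x : Ω) ∈ normalizerIn S E := hN.symm.le x.2
  set a := conjAut S E ⟨x, hxN⟩ with ha_def
  have haA : a ∈ autInducedBy S E := conjAut_mem hxN
  have haI : a ∉ Inn E := conjAut_not_inn hE.1 hxN fun h => hxE h
  have ha1 : a ≠ 1 := fun h => haI (h ▸ one_mem _)
  have haF := autInducedBy_le (F := F) hES haA
  have hafix : ∀ w ∈ A, a w = w := fun w hw => Subtype.ext (by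
    show (x : Ω) * (w : Ω) * (x : Ω)⁻¹ = w
    rw [show (x : Ω) * (w : Ω) = (w : Ω) * x from congrArg Subtype.val (hxV (incl w) hw),
      mul_inv_cancel_right])
  obtain ⟨v, -, hvA⟩ := SetLike.exists_of_lt (lt_top_iff_ne_top.2 fun h : A = ⊤ => by
    rw [h, Subgroup.card_top, hcE] at cardA
    exact (Nat.pow_lt_pow_right hp.out.one_lt (by norm_num : 2 < 3)).ne cardA.symm)
  have hcm : ∀ {Q : Subgroup E}, ∀ b ∈ (⊤ : Subgroup E), ∀ u ∈ Q, b * u * b⁻¹ ∈ Q := fun b _ u hu => by
    rw [hab b u, mul_inv_cancel_right]; exact hu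
  have hcoord : ∀ {w : E}, w ∉ A → ∀ h : E, ∃ i : ℕ, (w ^ i)⁻¹ * h ∈ A := fun hw h =>
    coord le_top hcm (by rw [Subgroup.card_top, hcE, cardA, pow_succ' p 2]) (Subgroup.mem_top _) hw
      (Subgroup.mem_top h)
  set l := v⁻¹ * a v with hl
  have hlA : l ∈ A := (pel_induced hS haA).step (le_top : A ≤ ⊤)
    (by rw [Subgroup.card_top, hcE, cardA, pow_succ' p 2]) (hAinv a haA) (fun _ _ => Subgroup.mem_top _) v
    (Subgroup.mem_top v)
  have hal : ∀ w : E, w⁻¹ * a w ∈ Subgroup.zpowers l := by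
    intro w
    obtain ⟨i, hi⟩ := hcoord hvA w
    have h1 : a w = a (v ^ i) * ((v ^ i)⁻¹ * w) := by
      conv_lhs => rw [← mul_inv_cancel_left (v ^ i) w]
      rw [map_mul, hafix _ hi]
    rw [h1, map_pow, show a v = v * l by rw [hl, mul_inv_cancel_left],
      (show Commute v l from hab v l).mul_pow, show v ^ i * l ^ i * ((v ^ i)⁻¹ * w) =
        w * l ^ i from by rw [hab (v ^ i) (l ^ i), mul_assoc, mul_inv_cancel_left, hab], inv_mul_cancel_left]
    exact pow_mem (Subgroup.mem_zpowers l) i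
  have hl1 : l ≠ 1 := by
    intro h
    refine ha1 (MulEquiv.ext fun w => ?_)
    have := hal w
    rw [h, Subgroup.zpowers_one_eq_bot, Subgroup.mem_bot, inv_mul_eq_one] at this
    exact this.symm
  -- incidence
  have key : ∀ g ∈ F.autGroup E, g ∉ extGroup F E → l ∉ A.map g.toMonoidHom := by
    intro g hg hgY hlg
    have hle : Subgroup.zpowers l ≤ A.map g.toMonoidHom := Subgroup.zpowers_le.2 hlg
    have hbfix : ∀ w ∈ A.map g.toMonoidHom, (g * a * g⁻¹) w = w := by
      rintro _ ⟨w, hw, rfl⟩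
      show g (a (g⁻¹ (g w))) = g w
      rw [MulAut.inv_apply_self, hafix w hw]
    refine sep_series hS hF hE hg hgY haA haI haA haI hle le_rfl ?_ ?_
    · exact ⟨fun w hw => hafix w (Subgroup.zpowers_le.2 hlA hw), fun w _ => hal w,
        fun w _ => hle (hal w), fun w => hle (hal w)⟩
    · refine ⟨fun w hw => hbfix w (hle hw), fun w hw => ?_, fun w hw => ?_, fun w => ?_⟩
      · rw [hbfix w hw, inv_mul_cancel]; exact one_mem _
      · rw [hbfix w hw, inv_mul_cancel]; exact one_mem _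
      · refine ⟨(g⁻¹ w)⁻¹ * a (g⁻¹ w), Subgroup.zpowers_le.2 hlA (hal _), ?_⟩
        show g _ = w⁻¹ * g (a (g⁻¹ w))
        rw [map_mul, map_inv, MulAut.apply_inv_self]
  have key2 : ∀ g ∈ F.autGroup E, g ∉ extGroup F E → g l ∉ A := by
    intro g hg hgY h
    exact key g⁻¹ (inv_mem hg) (fun h' => hgY (by simpa using inv_mem h'))
      ⟨g l, h, MulAut.inv_apply_self _ _ _⟩
  obtain ⟨g, hg, hgY⟩ := exists_not_ext hS hF hE
  set d := g l with hd
  have hdA : d ∉ A := key2 g hg hgY
  have hdg : d ∈ A.map g.toMonoidHom := ⟨l, hlA, rfl⟩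
  -- the induced automorphisms
  have cardR : Nat.card (autInducedBy S E) = p ^ 2 := by
    have h := card_autInducedBy_mul' (S := S) (P := E)
    have hCeq : centralizerIn S E = E := le_antisymm hCE fun w hw =>
      ⟨hES hw, fun u hu => congrArg Subtype.val (hab ⟨u, hu⟩ ⟨w, hw⟩)⟩
    rw [hCeq, hN, hcE, hcard, show p ^ 5 = p ^ 2 * p ^ 3 by ring] at h
    exact Nat.eq_of_mul_eq_mul_right (pow_pos hp.out.pos 3) h
  have hRcomm : ∀ r ∈ autInducedBy S E, Commute r a := by
    intro r hr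
    obtain ⟨s, hs, hsr⟩ := mem_autInducedBy_iff.1 hr
    have hc : ⁅(⟨s, hs⟩ : S), x⁆ ∈ ES := comm_mem hS ES (by rw [hcard, cardES, ← pow_add]) _ _
    set q : E := ⟨_, hc⟩
    refine MulEquiv.ext fun w => Subtype.ext ?_
    show ((r (a w) : E) : Ω) = (a (r w) : E)
    rw [hsr]
    show s * ((x : Ω) * (w : Ω) * (x : Ω)⁻¹) * s⁻¹ = (x : Ω) * ((r w : E) : Ω) * (x : Ω)⁻¹
    rw [hsr]
    have h2 : (q : Ω) * ((x : Ω) * ((r w : E) : Ω) * (x : Ω)⁻¹) =
        (x : Ω) * ((r w : E) : Ω) * (x : Ω)⁻¹ * (q : Ω) := congrArg Subtype.val (hab q (a (r w)))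
    rw [hsr] at h2
    have hq : (q : Ω) = s * x * s⁻¹ * (x : Ω)⁻¹ := rfl
    calc _ = (q : Ω) * ((x : Ω) * (s * w * s⁻¹) * (x : Ω)⁻¹) * (q : Ω)⁻¹ := by rw [hq]; group
      _ = _ := by rw [h2, mul_inv_cancel_right]
  -- only the identity fixes `d`
  have hfree : ∀ r ∈ autInducedBy S E, r d = d → r = 1 := by
    intro r hr hrd
    by_contra hr1
    have hrI : r ∉ Inn E := fun h => hr1 (hinn r h)
    have hrl : r l = l := by
      obtain ⟨i, hi⟩ := Subgroup.mem_zpowers_iff.1 (hal d)
      have h2 : r (d⁻¹ * a d) = d⁻¹ * a d := by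
        rw [map_mul, map_inv, hrd]
        congr 1
        show (r * a) d = a d
        rw [(hRcomm r hr).eq, MulAut.mul_apply, hrd]
      by_contra hne
      rw [← hi, map_zpow] at h2
      -- the exponent is prime to `p`
      have hlo : orderOf l = p := orderOf_eq_prime (hexp l) hl1
      have hi0 : ¬ (p : ℤ) ∣ i := by
        intro hdvd
        have hz : l ^ i = 1 := orderOf_dvd_iff_zpow_eq_one.1 (hlo.symm ▸ hdvd)
        rw [hz] at hi
        refine ha1 (MulEquiv.ext fun w => ?_)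
        obtain ⟨j, hj⟩ := hcoord hdA w
        show a w = w
        rw [← mul_inv_cancel_left (d ^ j) w, map_mul, hafix _ hj, map_pow,
          show a d = d from (inv_mul_eq_one.1 hi.symm).symm]
      obtain ⟨u, w, huw⟩ := ((Nat.prime_iff_prime_int.1 hp.out).coprime_iff_not_dvd.2 hi0)
      refine hne ?_
      have hone : ∀ z : E, z ^ i = l ^ i → z ^ p = 1 → z = l := fun z hz hzp => by
        rw [← zpow_one z, ← zpow_one l, ← huw, zpow_add, zpow_add, mul_comm u, mul_comm w, zpow_mul,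
          zpow_mul, zpow_mul, zpow_mul, zpow_natCast, zpow_natCast, hzp, hexp l, one_zpow, hz]
      exact hone _ h2 (hexp _)
    have hfix : ∀ w ∈ Subgroup.zpowers l ⊔ Subgroup.zpowers d, r w = w := fun w hw =>
      (sup_le (c := MonoidHom.eqLocus r.toMonoidHom (MonoidHom.id E)) (Subgroup.zpowers_le.2 hrl)
        (Subgroup.zpowers_le.2 hrd)) hw
    set B := Subgroup.zpowers l ⊔ Subgroup.zpowers d
    have hB : p ^ 2 ≤ Nat.card B := by
      refine succ_le_of_lt hEp (lt_of_le_of_ne (le_sup_left : Subgroup.zpowers l ≤ B) fun h => hdA ?_)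
        (k := 1) (by rw [Nat.card_zpowers, orderOf_eq_prime (hexp l) hl1, pow_one])
      exact Subgroup.zpowers_le.2 hlA (h.ge (Subgroup.mem_sup_right (Subgroup.mem_zpowers d)))
    have hdB : Subgroup.zpowers d ≤ B := le_sup_right
    refine sep_series hS hF hE hg hgY hr hrI haA haI hdB le_rfl ?_ ?_
    · refine ⟨fun w hw => hfix w (hdB hw), fun w hw => ?_, fun w hw => ?_, fun w => ?_⟩
      · rw [hfix w hw, inv_mul_cancel]; exact one_mem _
      · rw [hfix w hw, inv_mul_cancel]; exact one_mem _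
      · exact (pel_induced hS hr).step (le_top : B ≤ ⊤)
          (by rw [Subgroup.card_top, hcE, pow_succ' p 2]; exact Nat.mul_le_mul_left p hB)
          (fun u hu => by rw [hfix u hu]; exact hu) (fun _ _ => Subgroup.mem_top _) w (Subgroup.mem_top w)
    · have hbd : (g * a * g⁻¹) d = d := by
        rw [hd]
        show g (a (g⁻¹ (g l))) = g l
        rw [MulAut.inv_apply_self, hafix l hlA]
      have hb : ∀ w, w⁻¹ * (g * a * g⁻¹) w ∈ Subgroup.zpowers d := by
        intro w
        obtain ⟨i, hi⟩ := Subgroup.mem_zpowers_iff.1 (hal (g⁻¹ w))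
        refine Subgroup.mem_zpowers_iff.2 ⟨i, ?_⟩
        rw [hd, ← map_zpow, hi, map_mul, map_inv, MulAut.apply_inv_self]; rfl
      exact ⟨fun w hw => (Subgroup.zpowers_le.2 (show d ∈ MonoidHom.eqLocus (g * a * g⁻¹).toMonoidHom
        (MonoidHom.id E) from hbd)) hw, fun w _ => hb w, fun w _ => hdB (hb w), fun w => hdB (hb w)⟩
  let ψ : autInducedBy S E → A := fun r => ⟨d⁻¹ * (r : MulAut E) d,
    (pel_induced hS r.2).step (le_top : A ≤ ⊤) (by rw [Subgroup.card_top, hcE, cardA, pow_succ' p 2])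
      (hAinv _ r.2) (fun _ _ => Subgroup.mem_top _) d (Subgroup.mem_top d)⟩
  have hψ : Function.Injective ψ := by
    intro r r' h
    have h1 : (r : MulAut E) d = (r' : MulAut E) d := mul_left_cancel (congrArg Subtype.val h)
    refine Subtype.ext ?_
    have h2 := hfree _ (mul_mem (inv_mem r'.2) r.2) (by rw [MulAut.mul_apply, h1, MulAut.inv_apply_self])
    exact (inv_mul_eq_one.1 h2).symm
  have hψs : Function.Surjective ψ :=
    ((Nat.bijective_iff_injective_and_card ψ).2 ⟨hψ, by rw [cardR, cardA]⟩).2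
  obtain ⟨w, hwA, hwg, hw1⟩ : ∃ w ∈ A, w ∈ A.map g.toMonoidHom ∧ w ≠ 1 := by
    by_contra! h
    let χ : A × (A.map g.toMonoidHom) → E := fun q => (q.1 : E) * q.2
    have hχ : Function.Injective χ := by
      rintro ⟨u, u'⟩ ⟨w, w'⟩ he
      have h1 : (w : E)⁻¹ * u = (w' : E) * (u' : E)⁻¹ := by
        have he' : (u : E) * u' = w * w' := he
        rw [inv_mul_eq_iff_eq_mul, ← mul_assoc, ← he', mul_inv_cancel_right]
      have h2 := h _ (mul_mem (inv_mem w.2) u.2) (h1 ▸ mul_mem w'.2 (inv_mem u'.2))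
      have h3 : w = u := Subtype.ext (inv_mul_eq_one.1 h2)
      subst h3
      exact Prod.ext rfl (Subtype.ext (mul_left_cancel (he : (w : E) * u' = w * w')))
    have h1 := Nat.card_le_card_of_injective χ hχ
    rw [Nat.card_prod, ← Nat.card_congr (A.equivMapOfInjective _ (MulEquiv.injective g)).toEquiv, cardA,
      hcE, ← pow_add] at h1
    exact absurd h1 (Nat.pow_lt_pow_right hp.out.one_lt (by norm_num : 3 < 4)).not_ge
  obtain ⟨⟨r, hr⟩, hrw⟩ := hψs ⟨w, hwA⟩
  have hrd : r d = d * w := by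
    have h6 : d⁻¹ * r d = w := congrArg Subtype.val hrw
    rw [← h6, mul_inv_cancel_left]
  have hr1 : r ≠ 1 := by
    rintro rfl
    exact hw1 (by simpa using hrd)
  set u := g⁻¹ * r * g with hu_def
  have huF : u ∈ F.autGroup E := mul_mem (mul_mem (inv_mem hg) (autInducedBy_le hES hr)) hg
  by_cases huY : u ∈ extGroup F E
  · obtain ⟨k, hk⟩ := pel_induced hS hr
    obtain ⟨c, hcY, hcF, hc⟩ := conj_into_induced_within hS hF hE le_rfl huF huY (k := k) (by
      have := conj_pow (a := g⁻¹) (b := r) (i := p ^ k)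
      rw [inv_inv] at this
      rw [hu_def, this, hk, mul_one, inv_mul_cancel])
    have h2 := ext_of_conj hS hF hE hr (fun h => hr1 (hinn r h)) (mul_mem hcF (inv_mem hg))
      (by rwa [show c * g⁻¹ * r * (c * g⁻¹)⁻¹ = c * u * c⁻¹ by rw [hu_def]; group])
    have h3 := inv_mem (mul_mem (inv_mem hcY) h2)
    rw [inv_mul_cancel_left, inv_inv] at h3
    exact hgY h3
  · refine key2 u huF huY ?_
    obtain ⟨q, hq, hqe⟩ := mul_mem hdg hwg
    have h5 : u l = q := by
      rw [hu_def, MulAut.mul_apply, MulAut.mul_apply, ← hd, hrd, ← hqe]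
      exact MulAut.inv_apply_self _ _ _
    rw [h5]; exact hq

end Ambient

end Cfsg.Agent.GStructB.P5
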