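/-
An element fixed modulo a characteristic subgroup survives outside the focal subgroup.
-/
import Cfsg.Agent.GStructB.P5.Setup
import Cfsg.Agent.Lib.Fusion.Focal

set_option autoImplicit false
set_option linter.unusedSectionVars false

namespace Cfsg.Agent.GStructB.P5

open Cfsg Cfsg.FusionSystem Cfsg.Agent.Fusion Cfsg.Agent.Fusion.Basic Cfsg.Agent.Fusion.Saturation
  Cfsg.Agent.Fusion.Alperin
open scoped commutatorElement

variable {Ω : Type*} [Group Ω] {S : Subgroup Ω} [Finite S] {F : FusionSystem S} {p : ℕ}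
  [hp : Fact p.Prime]

/-- The averaging map: a subgroup fixed by `Aut_F(S)` modulo which not everything is trivial. -/
theorem exists_invariant (hS : IsPGroup p S) (hF : F.IsSaturated p) (hfix : Fixed S p) :
    ∃ N : Subgroup Ω, (∀ x ∈ S, ∀ y ∈ S, ⁅x, y⁆ ∈ N) ∧ ¬ S ≤ N ∧ F.autGroup S ≤ movSub N S := by
  classical
  obtain ⟨W, hcW, hpW, -, k, hk, hfk⟩ := hfix
  have hWn : W.Normal := ⟨fun w hw g => by
    have h1 : ⁅g, w⁆ ∈ W := hcW (by
      rw [_root_.commutator_def]
      exact Subgroup.commutator_mem_commutator (Subgroup.mem_top g) (Subgroup.mem_top w))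
    have := W.mul_mem h1 hw
    rwa [commutatorElement_def, inv_mul_cancel_right] at this⟩
  letI : CommGroup (S ⧸ W) :=
    { (inferInstance : Group (S ⧸ W)) with
      mul_comm := fun x y => by
        obtain ⟨a, rfl⟩ := QuotientGroup.mk'_surjective W x
        obtain ⟨b, rfl⟩ := QuotientGroup.mk'_surjective W y
        refine (commutatorElement_eq_one_iff_commute.1 ?_).eq
        rw [← map_commutatorElement]
        refine (QuotientGroup.eq_one_iff _).2 (hcW ?_)
        rw [_root_.commutator_def]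
        exact Subgroup.commutator_mem_commutator (Subgroup.mem_top a) (Subgroup.mem_top b) }
  let ρ : S →* S ⧸ W := QuotientGroup.mk' W
  set I := (autInducedBy S S).subgroupOf (F.autGroup S)
  letI : Fintype (F.autGroup S ⧸ I) := Fintype.ofFinite _
  let ψ : S → F.autGroup S ⧸ I → S ⧸ W := fun v => Quotient.lift
    (fun f : F.autGroup S => ρ ((f : MulAut S)⁻¹ v)) fun f f' h => by
      have h1 : f⁻¹ * f' ∈ I := QuotientGroup.leftRel_apply.1 h
      obtain ⟨g, hg, hge⟩ := mem_autInducedBy_iff.1 (Subgroup.mem_subgroupOf.1 h1)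
      obtain ⟨w, hw⟩ : ∃ w, (f' : MulAut S)⁻¹ v = w := ⟨_, rfl⟩
      show ρ ((f : MulAut S)⁻¹ v) = ρ ((f' : MulAut S)⁻¹ v)
      have h2 : (f : MulAut S)⁻¹ v = ⟨g, hg⟩ * w * ⟨g, hg⟩⁻¹ := by
        refine Subtype.ext ?_
        rw [Subgroup.coe_mul, Subgroup.coe_mul, Subgroup.coe_inv, ← hge w, ← hw]
        simp [MulAut.mul_apply, MulAut.apply_inv_self]
      rw [hw, h2, map_mul, map_mul, map_inv, mul_comm (ρ ⟨g, hg⟩), mul_inv_cancel_right]
  let π : S →* S ⧸ W := MonoidHom.mk' (fun v => ∏ q, ψ v q) fun v v' => by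
    rw [← Finset.prod_mul_distrib]
    refine Finset.prod_congr rfl fun q _ => ?_
    induction q using QuotientGroup.induction_on with
    | H f => show ρ ((f : MulAut S)⁻¹ (v * v')) = ρ _ * ρ _; rw [map_mul, map_mul]
  have hπinv : ∀ f₀ : F.autGroup S, ∀ v, π ((f₀ : MulAut S) v) = π v := by
    intro f₀ v
    show (∏ q, ψ _ q) = ∏ q, ψ v q
    refine Fintype.prod_equiv (MulAction.toPerm (f₀⁻¹ : F.autGroup S)) _ _ fun q => ?_
    induction q using QuotientGroup.induction_on with
    | H f =>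
      show ρ ((f : MulAut S)⁻¹ ((f₀ : MulAut S) v)) = ρ (((f₀⁻¹ * f : F.autGroup S) : MulAut S)⁻¹ v)
      rw [Subgroup.coe_mul, Subgroup.coe_inv, mul_inv_rev, inv_inv, MulAut.mul_apply]
  have hπk : π k = ρ k ^ I.index := by
    show (∏ q, ψ k q) = _
    rw [Finset.prod_congr rfl (g := fun _ => ρ k) fun q _ => ?_, Finset.prod_const, Finset.card_univ,
      Subgroup.index_eq_card, Nat.card_eq_fintype_card]
    induction q using QuotientGroup.induction_on with
    | H f => exact (QuotientGroup.eq.2 (hfk (f : MulAut S)⁻¹)).symm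
  have hπk1 : π k ≠ 1 := by
    rw [hπk]
    intro h
    have hfn : F.IsFullyNormalized S :=
      ⟨le_rfl, fun Q hQ => le_of_eq (by rw [eq_top_of_card le_rfl hQ rfl])⟩
    have hndvd : ¬ p ∣ I.index :=
      ((fullyAutomized_iff hS).1 (fullyNormalized_fullyAutomized hS hF hfn)).2
    have hk1 : ρ k ≠ 1 := fun h' => hk ((QuotientGroup.eq_one_iff k).1 h')
    have hord : orderOf (ρ k) = p := orderOf_eq_prime (by
      rw [← map_pow]; exact (QuotientGroup.eq_one_iff _).2 (hpW k)) hk1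
    exact hndvd (hord ▸ orderOf_dvd_of_pow_eq_one h)
  refine ⟨π.ker.map S.subtype, fun x hx y hy => ⟨⁅(⟨x, hx⟩ : S), (⟨y, hy⟩ : S)⁆, ?_, rfl⟩, fun h => ?_, fun f hf => ?_⟩
  · rw [SetLike.mem_coe, MonoidHom.mem_ker, map_commutatorElement, commutatorElement_eq_one_iff_commute]
    exact mul_comm _ _
  · obtain ⟨v, hv, hvk⟩ := h k.2
    obtain rfl : v = k := Subtype.ext hvk
    exact hπk1 hv
  · refine mem_movSub.2 fun x => ⟨x⁻¹ * f x, ?_, rfl⟩
    rw [SetLike.mem_coe, MonoidHom.mem_ker, map_mul, map_inv, hπinv ⟨f, hf⟩, inv_mul_cancel]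

/-- Essential subgroups with the two consequences contradict `hyp = S`. -/
theorem false_of_outcome (hS : IsPGroup p S) (hF : F.IsSaturated p)
    (hhyp : F.hyperfocalSubgroup p = S) (hfix : Fixed S p)
    (hout : ∀ E : Subgroup Ω, F.IsEssential p E → Outcome F p E) : False := by
  obtain ⟨N, hN, hSN, hinv⟩ := exists_invariant hS hF hfix
  have hcom : ∀ a ∈ S, ∀ x ∈ S, x⁻¹ * (a * x * a⁻¹) ∈ N := by
    intro a ha x hx
    have h := hN x⁻¹ (S.inv_mem hx) a ha
    rw [commutatorElement_def, inv_inv] at h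
    simpa [mul_assoc] using h
  have hmem : ∀ {P : Subgroup Ω}, P ≤ S → ∀ {α : MulAut P},
      α ∈ (Focal.cosetSystem F N hcom).autGroup P ↔ α ∈ F.autGroup P ∧ α ∈ movSub N P := by
    intro P hP α
    rw [mem_autGroup_iff hP, mem_autGroup_iff hP]
    constructor
    · rintro ⟨φ, ⟨hφ, hφN⟩, he⟩
      refine ⟨⟨φ, hφ, he⟩, mem_movSub.2 fun x => ?_⟩
      have h := hφN x
      rw [he x, autFun_apply] at h
      exact h
    · rintro ⟨⟨φ, hφ, he⟩, hα⟩
      refine ⟨φ, ⟨hφ, fun x => ?_⟩, he⟩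
      rw [he x, autFun_apply]
      exact mem_movSub.1 hα x
  have hle : F ≤ Focal.cosetSystem F N hcom := by
    refine le_of_extGroup hS hF fun P hP hext α hα => (hmem hP.1).2 ⟨hα, ?_⟩
    have hY : extGroup F P ≤ movSub N P := fun β hβ => ((hmem hP.1).1 (hext hβ)).2
    rcases eq_or_lt_of_le hP.1 with rfl | hlt
    · exact hinv hα
    by_cases hE : F.IsEssential p P
    · exact (hout P hE).2 N hN hY hα
    · have h : extGroup F P = F.autGroup P := by
        by_contra h
        exact hE ((essential_iff hS hF hlt hP).2 h)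
      exact hY (h ▸ hα)
  refine hSN (hhyp.ge.trans (Focal.hyp_le_focal.trans ?_))
  rw [focalSubgroup, Subgroup.closure_le]
  rintro _ ⟨P, φ, x, hφ, rfl⟩
  exact (hle P hφ).2 x

end Cfsg.Agent.GStructB.P5
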