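/-
Two opposite transvections of an elementary quotient of rank two generate the diagonal automorphisms
of determinant one.
-/
import Cfsg.Agent.GStructB.P5.Tools

set_option autoImplicit false
set_option linter.unusedSectionVars false

namespace Cfsg.Agent.GStructB.P5

open Subgroup
open scoped commutatorElement

section SL2

variable {H : Type*} [Group H] {p : ℕ} [hp : Fact p.Prime] (Z₀ : Subgroup H) [Z₀.Normal] (e c : H)

/-- The element with coordinates `A`, `B` in the quotient. -/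
def pw (A B : ZMod p) : H ⧸ Z₀ :=
  QuotientGroup.mk' Z₀ e ^ A.val * QuotientGroup.mk' Z₀ c ^ B.val

/-- `γ` acts by the matrix `(A B; C D)`. -/
def Act (γ : MulAut H) (A B C D : ZMod p) : Prop :=
  (∀ x ∈ Z₀, γ x ∈ Z₀) ∧ QuotientGroup.mk' Z₀ (γ e) = pw Z₀ e c A B ∧
    QuotientGroup.mk' Z₀ (γ c) = pw Z₀ e c C D

variable {Z₀ e c}

theorem pw_mul (hec : ⁅e, c⁆ ∈ Z₀) (he : e ^ p ∈ Z₀) (hc : c ^ p ∈ Z₀) (A B C D : ZMod p) :
    pw Z₀ e c A B * pw Z₀ e c C D = pw Z₀ e c (A + C) (B + D) := by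
  have h1 : Commute (QuotientGroup.mk' Z₀ e) (QuotientGroup.mk' Z₀ c) := by
    rw [← commutatorElement_eq_one_iff_commute, ← map_commutatorElement]
    exact (QuotientGroup.eq_one_iff _).2 hec
  have he' : QuotientGroup.mk' Z₀ e ^ p = 1 := by rw [← map_pow]; exact (QuotientGroup.eq_one_iff _).2 he
  have hc' : QuotientGroup.mk' Z₀ c ^ p = 1 := by rw [← map_pow]; exact (QuotientGroup.eq_one_iff _).2 hc
  unfold pw
  rw [Commute.mul_mul_mul_comm (h1.pow_pow _ _).symm, ← pow_add, ← pow_add,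
    pow_congr he' (j := (A + C).val) (by simp), pow_congr hc' (j := (B + D).val) (by simp)]

theorem pw_pow (hec : ⁅e, c⁆ ∈ Z₀) (he : e ^ p ∈ Z₀) (hc : c ^ p ∈ Z₀) (A B : ZMod p) (n : ℕ) :
    pw Z₀ e c A B ^ n = pw Z₀ e c ((n : ZMod p) * A) ((n : ZMod p) * B) := by
  induction n with
  | zero => simp [pw]
  | succ n ih => rw [pow_succ, ih, pw_mul hec he hc]; push_cast; ring_nf

theorem act_one (hec : ⁅e, c⁆ ∈ Z₀) (he : e ^ p ∈ Z₀) (hc : c ^ p ∈ Z₀) :
    Act (p := p) Z₀ e c 1 1 0 0 1 := by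
  refine ⟨fun x hx => hx, ?_, ?_⟩ <;>
    simp [pw, ZMod.val_one]

theorem act_mul (hec : ⁅e, c⁆ ∈ Z₀) (he : e ^ p ∈ Z₀) (hc : c ^ p ∈ Z₀) {γ δ : MulAut H}
    {A B C D A' B' C' D' : ZMod p} (h₁ : Act Z₀ e c γ A B C D) (h₂ : Act Z₀ e c δ A' B' C' D') :
    Act Z₀ e c (γ * δ) (A' * A + B' * C) (A' * B + B' * D) (C' * A + D' * C) (C' * B + D' * D) := by
  have key : ∀ (w : H) (P Q : ZMod p), QuotientGroup.mk' Z₀ (δ w) = pw Z₀ e c P Q →
      QuotientGroup.mk' Z₀ (γ (δ w)) = pw Z₀ e c (P * A + Q * C) (P * B + Q * D) := by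
    intro w P Q h
    have h' : (e ^ P.val * c ^ Q.val)⁻¹ * δ w ∈ Z₀ := by
      refine QuotientGroup.eq.1 ?_
      show QuotientGroup.mk' Z₀ (e ^ P.val * c ^ Q.val) = QuotientGroup.mk' Z₀ (δ w)
      rw [h, map_mul, map_pow, map_pow]; rfl
    have h3 := h₁.1 _ h'
    rw [map_mul, map_inv, map_mul, map_pow, map_pow] at h3
    rw [show QuotientGroup.mk' Z₀ (γ (δ w)) = QuotientGroup.mk' Z₀ (γ e ^ P.val * γ c ^ Q.val) from
      (QuotientGroup.eq.2 h3).symm, map_mul, map_pow, map_pow, h₁.2.1, h₁.2.2, pw_pow hec he hc,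
      pw_pow hec he hc, pw_mul hec he hc, ZMod.natCast_zmod_val, ZMod.natCast_zmod_val]
  exact ⟨fun x hx => h₁.1 _ (h₂.1 x hx), key e _ _ h₂.2.1, key c _ _ h₂.2.2⟩

/-- Opposite transvections generate the diagonal elements of determinant one. -/
theorem sl2 (hec : ⁅e, c⁆ ∈ Z₀) (he : e ^ p ∈ Z₀) (hc : c ^ p ∈ Z₀) {a b : MulAut H}
    (haZ : ∀ x ∈ Z₀, a x ∈ Z₀) (hbZ : ∀ x ∈ Z₀, b x ∈ Z₀) {k l : ℕ} (hk : (k : ZMod p) ≠ 0)
    (hl : (l : ZMod p) ≠ 0) (hae : (e * c ^ k)⁻¹ * a e ∈ Z₀) (hac : c⁻¹ * a c ∈ Z₀)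
    (hbe : e⁻¹ * b e ∈ Z₀) (hbc : (c * e ^ l)⁻¹ * b c ∈ Z₀) {u : ZMod p} (hu : u ≠ 0) :
    ∃ γ ∈ closure ({a, b} : Set (MulAut H)), (∀ x ∈ Z₀, γ x ∈ Z₀) ∧
      (e ^ u.val)⁻¹ * γ e ∈ Z₀ ∧ (c ^ (u⁻¹).val)⁻¹ * γ c ∈ Z₀ := by
  have heq : ∀ {x y : H}, x⁻¹ * y ∈ Z₀ → QuotientGroup.mk' Z₀ y = QuotientGroup.mk' Z₀ x :=
    fun h => (QuotientGroup.eq.2 h).symm
  have he' : QuotientGroup.mk' Z₀ e ^ p = 1 := by rw [← map_pow]; exact (QuotientGroup.eq_one_iff _).2 he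
  have hc' : QuotientGroup.mk' Z₀ c ^ p = 1 := by rw [← map_pow]; exact (QuotientGroup.eq_one_iff _).2 hc
  have hA : Act Z₀ e c a 1 (k : ZMod p) 0 1 := by
    refine ⟨haZ, ?_, ?_⟩
    · rw [heq hae, map_mul, map_pow]
      unfold pw
      rw [ZMod.val_one, pow_one, pow_congr hc' (j := (k : ZMod p).val) (by simp)]
    · rw [heq hac]; simp [pw, ZMod.val_one]
  have hB : Act Z₀ e c b 1 0 (l : ZMod p) 1 := by
    refine ⟨hbZ, ?_, ?_⟩
    · rw [heq hbe]; simp [pw, ZMod.val_one]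
    · have h1 : Commute (QuotientGroup.mk' Z₀ c) (QuotientGroup.mk' Z₀ e) := by
        refine Commute.symm ?_
        rw [← commutatorElement_eq_one_iff_commute, ← map_commutatorElement]
        exact (QuotientGroup.eq_one_iff _).2 hec
      rw [heq hbc, map_mul, map_pow, (h1.pow_right l).eq]
      unfold pw
      rw [ZMod.val_one, pow_one, pow_congr he' (j := (l : ZMod p).val) (by simp)]
  have hAn : ∀ n : ℕ, Act Z₀ e c (a ^ n) 1 ((n : ZMod p) * (k : ZMod p)) 0 1 := by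
    intro n
    induction n with
    | zero => simpa using act_one hec he hc
    | succ n ih =>
      have := act_mul hec he hc hA ih
      rw [← pow_succ'] at this
      convert this using 1 <;> push_cast <;> ring
  have hBn : ∀ n : ℕ, Act Z₀ e c (b ^ n) 1 0 ((n : ZMod p) * (l : ZMod p)) 1 := by
    intro n
    induction n with
    | zero => simpa using act_one hec he hc
    | succ n ih =>
      have := act_mul hec he hc hB ih
      rw [← pow_succ'] at this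
      convert this using 1 <;> push_cast <;> ring
  set T := closure ({a, b} : Set (MulAut H))
  have ha : a ∈ T := subset_closure (by simp)
  have hb : b ∈ T := subset_closure (by simp)
  have hw : ∀ s : ZMod p, s ≠ 0 → ∃ γ ∈ T, Act Z₀ e c γ 0 s (-s⁻¹) 0 := by
    intro s hs
    set m := (s * (k : ZMod p)⁻¹).val
    set n := (-s⁻¹ * (l : ZMod p)⁻¹).val
    refine ⟨a ^ m * (b ^ n * a ^ m), mul_mem (pow_mem ha m) (mul_mem (pow_mem hb n) (pow_mem ha m)), ?_⟩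
    have h := act_mul hec he hc (hAn m) (act_mul hec he hc (hBn n) (hAn m))
    have hm : (m : ZMod p) * (k : ZMod p) = s := by
      simp only [m, ZMod.natCast_zmod_val]; field_simp
    have hn : (n : ZMod p) * (l : ZMod p) = -s⁻¹ := by
      simp only [n, ZMod.natCast_zmod_val]; field_simp
    rw [hm, hn] at h
    convert h using 1 <;> field_simp <;> ring
  obtain ⟨γ₁, h₁, hγ₁⟩ := hw 1 one_ne_zero
  obtain ⟨γ₂, h₂, hγ₂⟩ := hw (-u) (neg_ne_zero.2 hu)
  have h := act_mul hec he hc hγ₁ hγ₂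
  refine ⟨γ₁ * γ₂, mul_mem h₁ h₂, h.1, ?_, ?_⟩
  · refine QuotientGroup.eq.1 ?_
    show QuotientGroup.mk' Z₀ _ = QuotientGroup.mk' Z₀ _
    rw [h.2.1]
    simp [pw]
  · refine QuotientGroup.eq.1 ?_
    show QuotientGroup.mk' Z₀ _ = QuotientGroup.mk' Z₀ _
    rw [h.2.2]
    simp [pw, inv_neg]

end SL2

end Cfsg.Agent.GStructB.P5
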