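/-
Essential subgroups of order `p ^ 4` in a fusion system on a group of order `p ^ 5`.
-/
import Cfsg.Agent.GStructB.P5.Quartic
import Cfsg.Agent.GStructB.P5.SL2

set_option autoImplicit false
set_option linter.unusedSectionVars false

namespace Cfsg.Agent.GStructB.P5

open Cfsg Cfsg.FusionSystem Cfsg.Agent.Fusion Cfsg.Agent.Fusion.Basic Cfsg.Agent.Fusion.Saturation
  Cfsg.Agent.Fusion.Alperin
open scoped commutatorElement

variable {Ω : Type*} [Group Ω] {S : Subgroup Ω} [Finite S] {F : FusionSystem S} {p : ℕ}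
  [hp : Fact p.Prime] {E : Subgroup Ω}

set_option maxHeartbeats 2000000 in
theorem outcome_four (hS : IsPGroup p S) (hF : F.IsSaturated p) (hp2 : p ≠ 2)
    (hcard : Nat.card S = p ^ 5)
    (hna : ∀ B : Subgroup Ω, B ≤ S → IsMulCommutative B → Nat.card B ≠ p ^ 4)
    (hE : F.IsEssential p E) (hcE : Nat.card E = p ^ 4) : Outcome F p E := by
  have hfin : Finite E := ess_finite hE
  have hES : E ≤ S := hE.1.1
  have hlt : E < S := ess_lt hS hF hE
  have hNS : normalizerIn S E = S := normalizerIn_eq hS hES hcard hcE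
  have hEp : IsPGroup p E := hS.to_le hES
  have hnab : ¬ ∀ a b : E, a * b = b * a := fun h =>
    hna E hES ⟨⟨h⟩⟩ hcE
  set Z := Subgroup.center E with hZdef
  have Zc : ∀ z ∈ Z, ∀ g : E, g * z = z * g := fun z hz g => Subgroup.mem_center_iff.1 hz g
  have cardZ : Nat.card Z = p ^ 2 := by
    refine le_antisymm (card_center_le hEp hcE hnab) ?_
    obtain ⟨m, hm⟩ := card_exp hEp Z
    have h1 := card_center_pos hEp (by norm_num) hcE
    rw [hm]
    refine Nat.pow_le_pow_right hp.out.pos ?_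
    by_contra h2
    interval_cases m
    · rw [hm, pow_zero] at h1; exact absurd h1 hp.out.one_lt.not_ge
    · exact not_essential_small_center hS hcE (hm.trans (pow_one p)) hE
  obtain ⟨cardL, LZ⟩ := derived_of_large_center hEp hcE hnab cardZ
  set L := commutator E with hLdef
  have Linv : ∀ f : MulAut E, ∀ u ∈ L, f u ∈ L := fun f u hu => commutator_map_mem f hu
  have Zinv : ∀ f : MulAut E, ∀ u ∈ Z, f u ∈ Z := fun f u hu => aut_center_mem f hu
  -- the quotient by the centre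
  set π := QuotientGroup.mk' Z with hπ
  have hcomZ : ∀ g h : E, ⁅g, h⁆ ∈ Z := fun g h =>
    comm_mem hEp Z (by rw [hcE, cardZ]; exact le_of_eq (pow_add p 2 2)) g h
  have hcπ : ∀ g h : E, Commute (π g) (π h) := fun g h => by
    rw [← commutatorElement_eq_one_iff_commute, ← map_commutatorElement]
    exact (QuotientGroup.eq_one_iff _).2 (hcomZ g h)
  have πeq : ∀ {g h : E}, π g = π h → g⁻¹ * h ∈ Z := fun h => QuotientGroup.eq.1 h
  have πone : ∀ {g : E}, g ∈ Z → π g = 1 := fun h => (QuotientGroup.eq_one_iff _).2 h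
  -- conjugation by an element outside
  obtain ⟨x₀, hx₀, hx₀E⟩ := SetLike.exists_of_lt hlt
  have hxN : x₀ ∈ normalizerIn S E := by rw [hNS]; exact hx₀
  set a := conjAut S E ⟨x₀, hxN⟩ with ha_def
  have haA : a ∈ autInducedBy S E := conjAut_mem hxN
  have haI : a ∉ Inn E := conjAut_not_inn hE.1 hxN hx₀E
  have hap : PEl p a := pel_induced hS haA
  have haF := autInducedBy_le (F := F) hES haA
  have hafix : ∀ z ∈ Z, z⁻¹ * a z ∈ L :=
    hap.step LZ (by rw [cardZ, cardL, pow_two]) (Linv a) (Zinv a)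
  have haL : ∀ z ∈ L, a z = z := hap.fix cardL.le (Linv a)
  obtain ⟨e, heZ⟩ : ∃ e, e⁻¹ * a e ∉ Z := by
    by_contra! h
    refine haI (inn_of_stab hS hE LZ (le_refl Z) (fun f _ => ⟨Linv f, Zinv f, Zinv f⟩) haF ?_)
    exact ⟨haL, hafix, fun z hz => mul_mem (inv_mem hz) (Zinv a z hz), h⟩
  obtain ⟨c, hc⟩ : ∃ c, c = a e * e⁻¹ := ⟨_, rfl⟩
  have hcZ : c ∉ Z := fun h => by
    refine heZ (πeq ?_)
    have h1 := πone h
    rw [hc, map_mul, map_inv, mul_inv_eq_one] at h1
    exact h1.symm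
  let incl : E →* S := Subgroup.inclusion hES
  have incl_inj : Function.Injective incl := Subgroup.inclusion_injective hES
  set xS : S := ⟨x₀, hx₀⟩ with hxS
  have incl_a : ∀ v : E, incl (a v) = xS * incl v * xS⁻¹ := fun v => Subtype.ext rfl
  set ES := E.subgroupOf S with hESdef
  have hrange : incl.range = ES := by
    ext s
    exact ⟨by rintro ⟨v, rfl⟩; exact v.2, fun hs => ⟨⟨s, hs⟩, rfl⟩⟩
  have incl_conj : ∀ (s : S) (v : E), ∃ f : MulAut E, incl (f v) = s * incl v * s⁻¹ := fun s v =>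
    ⟨conjAut S E ⟨(s : Ω), hNS.symm.le s.2⟩, Subtype.ext rfl⟩
  have map_normal : ∀ U : Subgroup E, (∀ f : MulAut E, ∀ u ∈ U, f u ∈ U) → (U.map incl).Normal := by
    refine fun U hU => ⟨?_⟩
    rintro _ ⟨v, hv, rfl⟩ s
    obtain ⟨f, hf⟩ := incl_conj s v
    exact ⟨f v, hU f v hv, hf⟩
  have hAn := map_normal Z Zinv
  have cardmap : ∀ U : Subgroup E, Nat.card (U.map incl) = Nat.card U := fun U =>
    (Nat.card_congr (U.equivMapOfInjective incl incl_inj).toEquiv).symm
  have hac : c⁻¹ * a c ∈ Z := by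
    have h := comm_comm_mem hS (Z.map incl) (by rw [cardmap, cardZ, hcard, ← pow_add]) xS (incl e) xS
    have hic : incl c = ⁅xS, incl e⁆ := by
      rw [hc, map_mul, map_inv, incl_a, commutatorElement_def]
    obtain ⟨z, hz, hze⟩ := h
    have h1 : a c * c⁻¹ = z⁻¹ := by
      refine incl_inj ?_
      rw [map_mul, map_inv, incl_a, map_inv, hze, commutatorElement_inv, ← hic, commutatorElement_def]
    refine πeq ?_
    have h2 : π (a c * c⁻¹) = 1 := by rw [h1, map_inv, πone hz, inv_one]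
    rw [map_mul, map_inv, mul_inv_eq_one] at h2
    exact h2.symm
  have hπac : π (a c) = π c := (QuotientGroup.eq.2 hac).symm
  have hπae : π (a e) = π e * π c := by
    rw [(hcπ e c).eq, ← map_mul, hc, inv_mul_cancel_right]
  -- the subgroup `Z ⊔ ⟨c⟩`
  have hQp : ∀ h : E, h ^ p ∈ Z := by
    intro h
    by_cases hh : h ∈ Z
    · exact pow_mem hh p
    set C := Subgroup.centralizer ({h} : Set E)
    have h1 : Z < C := lt_of_le_of_ne (Subgroup.center_le_centralizer _) fun e =>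
      hh (e ▸ Subgroup.mem_centralizer_singleton_iff.2 rfl)
    have h3 : C ≠ ⊤ := fun e => hh (Subgroup.mem_center_iff.2 fun g =>
      Subgroup.mem_centralizer_singleton_iff.1 (e.ge (Subgroup.mem_top g)))
    have h4 : Nat.card C = p ^ 3 := le_antisymm
      (le_pred_of_lt hEp (lt_top_iff_ne_top.2 h3) (by rw [Subgroup.card_top, hcE]))
      (succ_le_of_lt hEp h1 cardZ)
    have hn : (Z.subgroupOf C).Normal := inferInstance
    have hq : Nat.card (C ⧸ Z.subgroupOf C) = p := by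
      have h := Subgroup.card_eq_card_quotient_mul_card_subgroup (Z.subgroupOf C)
      rw [Nat.card_congr (Subgroup.subgroupOfEquivOfLe h1.le).toEquiv, h4, cardZ, pow_succ' p 2] at h
      exact (Nat.eq_of_mul_eq_mul_right (pow_pos hp.out.pos 2) h).symm
    have h2 := pow_card_eq_one' (x := QuotientGroup.mk' (Z.subgroupOf C)
      ⟨h, Subgroup.mem_centralizer_singleton_iff.2 rfl⟩)
    rw [hq, ← map_pow] at h2
    exact (QuotientGroup.eq_one_iff ((⟨h, _⟩ : C) ^ p)).1 h2
  have hπp : ∀ h : E, π h ^ p = 1 := fun h => by rw [← map_pow]; exact πone (hQp h)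
  set C₁ := Z ⊔ Subgroup.zpowers c with hC1
  have cC1 : c ∈ C₁ := Subgroup.mem_sup_right (Subgroup.mem_zpowers c)
  have hC1n : ∀ b ∈ (⊤ : Subgroup E), ∀ u ∈ C₁, b * u * b⁻¹ ∈ C₁ := by
    intro b _ u hu
    have : b * u * b⁻¹ = ⁅b, u⁆ * u := by rw [commutatorElement_def]; group
    rw [this]
    exact mul_mem (Subgroup.mem_sup_left (hcomZ b u)) hu
  have ZC1 : Z ≤ C₁ := le_sup_left
  have hC1inv : ∀ f : MulAut E, f c ∈ C₁ → ∀ u ∈ C₁, f u ∈ C₁ := by
    intro f hf u hu
    refine (sup_le (a := Z) (b := Subgroup.zpowers c) (c := C₁.comap f.toMonoidHom)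
      (fun z hz => Subgroup.mem_sup_left (Zinv f z hz)) (Subgroup.zpowers_le.2 hf)) hu
  have haC1 : a c ∈ C₁ := by
    rw [← mul_inv_cancel_left c (a c)]; exact mul_mem cC1 (Subgroup.mem_sup_left hac)
  have C1fix : ∀ u ∈ C₁, π (a u) = π u := by
    intro u hu
    refine (sup_le (a := Z) (b := Subgroup.zpowers c)
      (c := MonoidHom.eqLocus (π.comp a.toMonoidHom) π) (fun z hz => ?_) (Subgroup.zpowers_le.2 hπac)) hu
    show π (a z) = π z
    rw [πone hz, πone (Zinv a z hz)]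
  have eC1 : e ∉ C₁ := fun h => heZ (πeq (C1fix e h).symm)
  have cardC1 : Nat.card C₁ = p ^ 3 := le_antisymm
    (le_pred_of_lt hEp (lt_top_iff_ne_top.2 fun h => eC1 (h.ge (Subgroup.mem_top e)))
      (by rw [Subgroup.card_top, hcE]))
    (succ_le_of_lt hEp (lt_of_le_of_ne ZC1 fun h => hcZ (h.ge cC1)) cardZ)
  -- coordinates
  have hcoord : ∀ h : E, ∃ i j : ℕ, π h = π e ^ i * π c ^ j := fun h => by
    obtain ⟨i, hi⟩ := coord (le_top : C₁ ≤ ⊤) hC1n
      (by rw [Subgroup.card_top, hcE, cardC1]; ring) (Subgroup.mem_top e) eC1 (Subgroup.mem_top h)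
    obtain ⟨j, hj⟩ := coord ZC1 (fun b _ u hu => by rw [Zc u hu b, mul_inv_cancel_right]; exact hu)
      (by rw [cardC1, cardZ]; ring) cC1 hcZ hi
    refine ⟨i, j, ?_⟩
    rw [← map_pow, ← map_pow, ← map_mul]
    refine (QuotientGroup.eq.2 ?_).symm
    rwa [mul_inv_rev, mul_assoc]
  have htrans : ∀ h : E, ∃ i : ℕ, π (a h) = π h * π c ^ i ∧ ((i : ZMod p) = 0 → h ∈ C₁) := by
    intro h
    obtain ⟨i, j, hij⟩ := hcoord h
    have h1 : (e ^ i * c ^ j)⁻¹ * h ∈ Z := by
      refine πeq ?_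
      rw [map_mul, map_pow, map_pow, hij]
    refine ⟨i, ?_, fun hi => ?_⟩
    · have h2 := Zinv a _ h1
      rw [map_mul, map_inv, map_mul, map_pow, map_pow] at h2
      rw [show π (a h) = π (a e ^ i * a c ^ j) from (QuotientGroup.eq.2 h2).symm, map_mul, map_pow,
        map_pow, hπae, hπac, (hcπ e c).mul_pow, hij, mul_assoc, mul_assoc,
        ((Commute.refl (π c)).pow_pow i j).eq]
    · obtain ⟨q, hq⟩ := (ZMod.natCast_eq_zero_iff i p).1 hi
      have h2 : e ^ i ∈ C₁ := by rw [hq, pow_mul]; exact pow_mem (Subgroup.mem_sup_left (hQp e)) q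
      rw [← mul_inv_cancel_left (e ^ i * c ^ j) h]
      exact mul_mem (mul_mem h2 (pow_mem cC1 j)) (Subgroup.mem_sup_left h1)
  -- a nonextendable automorphism
  obtain ⟨g, hg, hgY⟩ := exists_not_ext hS hF hE
  obtain ⟨e', he'⟩ : ∃ e', e' = g c := ⟨_, rfl⟩
  obtain ⟨b, hb_def⟩ : ∃ b, b = g * a * g⁻¹ := ⟨_, rfl⟩
  have hbF : b ∈ F.autGroup E := hb_def ▸ mul_mem (mul_mem hg haF) (inv_mem hg)
  have hbe : e'⁻¹ * b e' ∈ Z := by
    rw [hb_def, he', MulAut.mul_apply, MulAut.mul_apply, MulAut.inv_apply_self, ← map_inv, ← map_mul]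
    exact Zinv g _ hac
  have he'C : e' ∉ C₁ := by
    intro h
    have he'Z : e' ∉ Z := fun h' => hcZ (by simpa [he'] using Zinv g⁻¹ _ h')
    refine sep_steps hS hF hE hg hgY haA haI haA haI LZ ZC1 cardL.le (by rw [cardZ, cardL, pow_two])
      (by rw [cardC1, cardZ, pow_succ' p 2]) (by rw [hcE, cardC1, pow_succ' p 3]) (Linv a) (Zinv a)
      (hC1inv a haC1) (Linv _) (Zinv _) (hb_def ▸ hC1inv b ?_)
    obtain ⟨i, hi⟩ := coord ZC1 (fun b _ u hu => by rw [Zc u hu b, mul_inv_cancel_right]; exact hu)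
      (by rw [cardC1, cardZ]; ring) h he'Z cC1
    rw [← mul_inv_cancel_left (e' ^ i) c, map_mul, map_pow]
    refine mul_mem (pow_mem ?_ i) (Subgroup.mem_sup_left (Zinv b _ hi))
    rw [← mul_inv_cancel_left e' (b e')]
    exact mul_mem h (Subgroup.mem_sup_left hbe)
  obtain ⟨k, hk, hk0'⟩ := htrans e'
  have hk0 : (k : ZMod p) ≠ 0 := fun h => he'C (hk0' h)
  have hae' : (e' * c ^ k)⁻¹ * a e' ∈ Z := by
    refine πeq ?_
    rw [hk, map_mul, map_pow]
  obtain ⟨l, hl, hl0'⟩ := htrans (g⁻¹ c)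
  have hl0 : (l : ZMod p) ≠ 0 := by
    intro h
    have h1 := hl0' h
    obtain ⟨i, hi⟩ := coord ZC1 (fun b _ u hu => by rw [Zc u hu b, mul_inv_cancel_right]; exact hu)
      (by rw [cardC1, cardZ]; ring) cC1 hcZ h1
    have h2 := Zinv g _ hi
    rw [map_mul, map_inv, map_pow, MulAut.apply_inv_self, ← he'] at h2
    have hi0 : (i : ZMod p) ≠ 0 := fun h0 => hcZ (by
      obtain ⟨q, hq⟩ := (ZMod.natCast_eq_zero_iff i p).1 h0
      have h3 : e' ^ i ∈ Z := by rw [hq, pow_mul]; exact pow_mem (hQp e') q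
      simpa using mul_mem h3 h2)
    obtain ⟨v, hv⟩ : ∃ v : ℕ, ((i * v : ℕ) : ZMod p) = ((1 : ℕ) : ZMod p) :=
      ⟨((i : ZMod p))⁻¹.val, by push_cast; rw [ZMod.natCast_zmod_val, mul_inv_cancel₀ hi0]⟩
    have h3 : π e' = π c ^ v := by
      rw [show π c = π e' ^ i by rw [← map_pow]; exact (QuotientGroup.eq.2 h2).symm, ← pow_mul,
        pow_congr (hπp e') hv, pow_one]
    refine he'C ?_
    rw [← mul_inv_cancel_left (c ^ v) e']
    exact mul_mem (pow_mem cC1 v) (Subgroup.mem_sup_left (πeq (by rw [map_pow, h3])))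
  have hbc : (c * e' ^ l)⁻¹ * b c ∈ Z := by
    have h1 : (g⁻¹ c * c ^ l)⁻¹ * a (g⁻¹ c) ∈ Z := by
      refine πeq ?_
      rw [hl, map_mul, map_pow]
    have h2 := Zinv g _ h1
    rw [map_mul, map_inv, map_mul, map_pow, MulAut.apply_inv_self, ← he'] at h2
    rw [hb_def, MulAut.mul_apply, MulAut.mul_apply]
    exact h2
  -- automorphisms acting trivially on the lower factors
  set T := stabSer (ser L Z Z) 2 (fun i hi => ser_mono LZ le_rfl i (by omega)) with hT
  have memT : ∀ f : MulAut E, f ∈ T ↔ (∀ z ∈ L, f z = z) ∧ ∀ z ∈ Z, z⁻¹ * f z ∈ L := by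
    intro f
    constructor
    · intro h
      refine ⟨fun z hz => ?_, h 1 one_lt_two⟩
      have h1 := h 0 two_pos z hz
      exact (inv_mul_eq_one.1 (Subgroup.mem_bot.1 h1)).symm
    · intro h i hi x hx
      interval_cases i
      · show x⁻¹ * f x ∈ (⊥ : Subgroup E)
        rw [h.1 x hx, inv_mul_cancel]; exact one_mem _
      · exact h.2 x hx
  have hbp : PEl p b := hb_def ▸ hap.conj g
  have hab : ({a, b} : Set (MulAut E)) ⊆ (F.autGroup E ⊓ T : Subgroup (MulAut E)) := by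
    intro f hf
    rcases hf with rfl | hf
    · exact ⟨haF, (memT _).2 ⟨haL, hafix⟩⟩
    · rw [show f = b from hf]
      exact ⟨hbF, (memT _).2 ⟨hbp.fix cardL.le (Linv b),
        hbp.step LZ (by rw [cardZ, cardL, pow_two]) (Linv b) (Zinv b)⟩⟩
  have hext : ∀ u : ZMod p, u ≠ 0 → ∃ γ : MulAut E, ∃ f : MulAut S,
      γ ∈ extGroup F E ∧ (∀ v : E, incl (γ v) = f (incl v)) ∧ γ ∈ T ∧
        π (γ e') = π e' ^ u.val ∧ π (γ c) = π c ^ (u⁻¹).val := by
    intro u hu
    obtain ⟨γ, hγ, -, hγe, hγc⟩ := sl2 (Z₀ := Z) (hcomZ e' c) (hQp e') (hQp c) (Zinv a) (Zinv b)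
      hk0 hl0 hae' hac hbe hbc hu
    obtain ⟨hγF, hγT⟩ := (Subgroup.closure_le _).2 hab hγ
    have hγe' : π (γ e') = π e' ^ u.val := by rw [← map_pow]; exact (QuotientGroup.eq.2 hγe).symm
    have hγc' : π (γ c) = π c ^ (u⁻¹).val := by rw [← map_pow]; exact (QuotientGroup.eq.2 hγc).symm
    set j := (u⁻¹ * u⁻¹).val
    have hajc : ∀ n : ℕ, π ((a ^ n) c) = π c ∧ π ((a ^ n) e') = π e' * π c ^ (n * k) := by
      intro n
      induction n with
      | zero => simp
      | succ n ih =>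
        have key : ∀ h w : E, π h = π w → π (a h) = π (a w) := fun h w hh => by
          refine QuotientGroup.eq.2 ?_
          rw [← map_inv, ← map_mul]
          exact Zinv a _ (πeq hh)
        rw [pow_succ', MulAut.mul_apply, MulAut.mul_apply]
        refine ⟨(key _ _ ih.1).trans hπac, ?_⟩
        rw [key _ (e' * c ^ (n * k)) (by rw [ih.2, map_mul, map_pow]), map_mul, map_mul, map_pow, map_pow,
          hk, hπac, mul_assoc, ← pow_add]
        ring_nf
    -- `γ` normalizes the induced automorphisms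
    set m₁ := a ^ j * γ
    set m₂ := γ * a
    have hmem : ∀ f : MulAut E, f ∈ T → ∀ h : E, ∀ h' : E, π h = π h' → π (f h) = π (f h') := fun f _ h h' hh => by
      refine QuotientGroup.eq.2 ?_
      rw [← map_inv, ← map_mul]
      exact Zinv f _ (πeq hh)
    have haT : a ∈ T := (memT _).2 ⟨haL, hafix⟩
    have hm1T : m₁ ∈ T := mul_mem (pow_mem haT j) hγT
    have hm2T : m₂ ∈ T := mul_mem hγT haT
    have heq_c : π (m₁ c) = π (m₂ c) := by
      show π ((a ^ j) (γ c)) = π (γ (a c))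
      rw [hmem (a ^ j) (pow_mem haT j) _ (c ^ (u⁻¹).val) (by rw [hγc', map_pow]),
        hmem γ hγT _ c hπac, map_pow, map_pow, (hajc j).1, hγc']
    have heq_e : π (m₁ e') = π (m₂ e') := by
      show π ((a ^ j) (γ e')) = π (γ (a e'))
      rw [hmem (a ^ j) (pow_mem haT j) _ (e' ^ u.val) (by rw [hγe', map_pow]),
        hmem γ hγT _ (e' * c ^ k) (by rw [hk, map_mul, map_pow]), map_pow, map_pow, (hajc j).2,
        map_mul, map_pow, map_mul, map_pow, hγe', hγc', (hcπ e' c).pow_right _ |>.mul_pow, ← pow_mul,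
        ← pow_mul]
      congr 1
      refine pow_congr (hπp c) ?_
      simp only [j, Nat.cast_mul, ZMod.natCast_zmod_val]
      field_simp
    have hsame : ∀ h : E, π (m₁ h) = π (m₂ h) := by
      intro h
      obtain ⟨i, j', hij⟩ := hcoord h
      -- `e` in the coordinates `e'`, `c`
      obtain ⟨i₀, j₀, he₀⟩ : ∃ i₀ j₀ : ℕ, π e = π e' ^ i₀ * π c ^ j₀ := by
        obtain ⟨i₀, hi₀⟩ := coord (le_top : C₁ ≤ ⊤) hC1n
          (by rw [Subgroup.card_top, hcE, cardC1]; ring) (Subgroup.mem_top e') he'C (Subgroup.mem_top e)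
        obtain ⟨j₀, hj₀⟩ := coord ZC1 (fun b _ u hu => by rw [Zc u hu b, mul_inv_cancel_right]; exact hu)
          (by rw [cardC1, cardZ]; ring) cC1 hcZ hi₀
        refine ⟨i₀, j₀, ?_⟩
        rw [← map_pow, ← map_pow, ← map_mul]
        refine (QuotientGroup.eq.2 ?_).symm
        rwa [mul_inv_rev, mul_assoc]
      have hee : π (m₁ e) = π (m₂ e) := by
        rw [hmem m₁ hm1T e (e' ^ i₀ * c ^ j₀) (by rw [he₀, map_mul, map_pow, map_pow]),
          hmem m₂ hm2T e (e' ^ i₀ * c ^ j₀) (by rw [he₀, map_mul, map_pow, map_pow])]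
        simp only [map_mul, map_pow, heq_c, heq_e]
      rw [hmem m₁ hm1T h (e ^ i * c ^ j') (by rw [hij, map_mul, map_pow, map_pow]),
        hmem m₂ hm2T h (e ^ i * c ^ j') (by rw [hij, map_mul, map_pow, map_pow])]
      simp only [map_mul, map_pow, heq_c, hee]
    have hm1F : m₁ ∈ F.autGroup E := mul_mem (pow_mem haF j) hγF
    have hm2F : m₂ ∈ F.autGroup E := mul_mem hγF haF
    have hδ : m₁⁻¹ * m₂ ∈ Inn E := by
      refine inn_of_stab hS hE LZ (le_refl Z) (fun f _ => ⟨Linv f, Zinv f, Zinv f⟩)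
        (mul_mem (inv_mem hm1F) hm2F) ?_
      obtain ⟨h1, h2⟩ := (memT _).1 (mul_mem (inv_mem hm1T) hm2T)
      refine ⟨h1, h2, fun z hz => mul_mem (inv_mem hz) (Zinv _ z hz), fun h => πeq ?_⟩
      have := hmem m₁⁻¹ (inv_mem hm1T) _ _ (hsame h)
      rwa [MulAut.inv_apply_self, ← MulAut.mul_apply] at this
    have hnorm : ∀ r ∈ autInducedBy S E, γ * r * γ⁻¹ ∈ autInducedBy S E := by
      have hι : ∀ ι ∈ Inn E, γ * ι * γ⁻¹ ∈ autInducedBy S E := fun ι hι =>
        inn_le_autInducedBy hES (inn_map_mem hι)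
      have hγa : γ * a * γ⁻¹ ∈ autInducedBy S E := by
        have : γ * a * γ⁻¹ = a ^ j * (γ * (m₁⁻¹ * m₂) * γ⁻¹) := by
          show _ = a ^ j * (γ * ((a ^ j * γ)⁻¹ * (γ * a)) * γ⁻¹)
          group
        rw [this]
        exact mul_mem (pow_mem haA j) (hι _ hδ)
      intro r hr
      obtain ⟨s, hs, hsr⟩ := mem_autInducedBy_iff.1 hr
      obtain ⟨i, hi⟩ := coord (le_top : ES ≤ ⊤)
        (fun w _ v hv => (normal_of_index hS hcard
          ((Nat.card_congr (Subgroup.subgroupOfEquivOfLe hES).toEquiv).trans hcE)).conj_mem v hv w)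
        (by rw [Subgroup.card_top, hcard, Nat.card_congr (Subgroup.subgroupOfEquivOfLe hES).toEquiv,
          hcE]; ring) (Subgroup.mem_top xS) hx₀E (Subgroup.mem_top (⟨s, hs⟩ : S))
      have hι' : (a ^ i)⁻¹ * r ∈ Inn E := by
        refine mem_inn_iff.2 ⟨_, hi, fun v hv => ?_⟩
        have hpow : ∀ (n : ℕ) (w : E), (((a ^ n) w : E) : Ω) = x₀ ^ n * w * (x₀ ^ n)⁻¹ := by
          intro n
          induction n with
          | zero => simp
          | succ n ih =>
            intro w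
            rw [pow_succ', MulAut.mul_apply]
            show x₀ * (((a ^ n) w : E) : Ω) * x₀⁻¹ = _
            rw [ih, pow_succ' x₀]; group
        rw [autFun_of_mem _ hv]
        have h1 := hpow i (((a ^ i)⁻¹ * r) ⟨v, hv⟩)
        rw [MulAut.mul_apply, MulAut.apply_inv_self, hsr] at h1
        rw [MulAut.mul_apply, cj_apply]
        show _ = (x₀ ^ i)⁻¹ * s * v * ((x₀ ^ i)⁻¹ * s)⁻¹
        calc _ = (x₀ ^ i)⁻¹ * (x₀ ^ i * (((a ^ i)⁻¹ (r ⟨v, hv⟩) : E) : Ω) * (x₀ ^ i)⁻¹) * x₀ ^ i := by group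
          _ = (x₀ ^ i)⁻¹ * (s * v * s⁻¹) * x₀ ^ i := by rw [h1]
          _ = _ := by group
      rw [← mul_inv_cancel_left (a ^ i) r,
        show γ * (a ^ i * ((a ^ i)⁻¹ * r)) * γ⁻¹ = (γ * a * γ⁻¹) ^ i * (γ * ((a ^ i)⁻¹ * r) * γ⁻¹) by
          rw [conj_pow]; group]
      exact mul_mem (pow_mem hγa i) (hι _ hι')
    have h := extend_normalizer hS hF hE.2.1 hγF hnorm
    rw [hNS] at h
    obtain ⟨f, hf, hfe⟩ := h
    refine ⟨γ, f, Subgroup.subset_closure ⟨S, autFun f, hlt, isMap_of_mem_autGroup le_rfl hf, hfe⟩,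
      fun v => Subtype.ext ?_, hγT, hγe', hγc'⟩
    have := hfe v v.2
    rw [autFun_apply] at this
    rw [← autFun_apply f]
    exact this.symm
  -- the data for the configuration
  obtain ⟨K, hKZ, hKL⟩ := SetLike.exists_of_lt (lt_of_le_of_ne LZ fun h => by
    rw [h, cardZ] at cardL
    exact (lt_self_pow₀ hp.out.one_lt (by norm_num : 1 < 2)).ne cardL.symm)
  have hLn := map_normal L Linv
  have mem_map : ∀ {U : Subgroup E} {v : E}, incl v ∈ U.map incl ↔ v ∈ U := fun {U v} =>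
    Subgroup.mem_map_iff_mem incl_inj
  have hkc : ∀ i : ℕ, (incl e' ^ i)⁻¹ * ⁅xS, incl e'⁆ ∉ Z.map incl := by
    intro i h
    have hic : ⁅xS, incl e'⁆ = incl (a e' * e'⁻¹) := by
      rw [map_mul, map_inv, incl_a, commutatorElement_def]
    rw [hic, ← map_pow, ← map_inv, ← map_mul, mem_map] at h
    have h1 : π c ^ k = π e' ^ i := by
      have h2 := πone h
      rw [map_mul, map_inv, map_pow, inv_mul_eq_one, map_mul, map_inv, hk,
        (hcπ e' c).pow_right k |>.eq, mul_inv_cancel_right] at h2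
      exact h2.symm
    by_cases hi : (i : ZMod p) = 0
    · obtain ⟨v, hv⟩ : ∃ v : ℕ, ((k * v : ℕ) : ZMod p) = ((1 : ℕ) : ZMod p) :=
        ⟨((k : ZMod p))⁻¹.val, by push_cast; rw [ZMod.natCast_zmod_val, mul_inv_cancel₀ hk0]⟩
      rw [pow_congr (hπp e') (j := 0) (by simpa using hi), pow_zero] at h1
      have h3 : π c = 1 := by rw [← pow_one (π c), ← pow_congr (hπp c) hv, pow_mul, h1, one_pow]
      exact hcZ ((QuotientGroup.eq_one_iff c).1 h3)
    · obtain ⟨v, hv⟩ : ∃ v : ℕ, ((i * v : ℕ) : ZMod p) = ((1 : ℕ) : ZMod p) :=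
        ⟨((i : ZMod p))⁻¹.val, by push_cast; rw [ZMod.natCast_zmod_val, mul_inv_cancel₀ hi]⟩
      have h3 : π (c ^ (k * v)) = π e' := by
        rw [map_pow, pow_mul, h1, ← pow_mul, pow_congr (hπp e') hv, pow_one]
      refine he'C ?_
      rw [← mul_inv_cancel_left (c ^ (k * v)) e']
      exact mul_mem (pow_mem cC1 _) (Subgroup.mem_sup_left (πeq h3))
  let d : Data1 S p :=
    { N := ES
      A := Z.map incl
      L := L.map incl
      e := incl e'
      y := xS
      K := incl K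
      cardN := (Nat.card_congr (Subgroup.subgroupOfEquivOfLe hES).toEquiv).trans hcE
      cardA := (cardmap Z).trans cardZ
      cardL := (cardmap L).trans cardL
      normA := hAn
      normL := hLn
      LA := Subgroup.map_mono LZ
      AN := by rintro _ ⟨v, -, rfl⟩; exact v.2
      cent := by
        rintro _ ⟨z, hz, rfl⟩ n hn
        obtain ⟨w, rfl⟩ : ∃ w : E, incl w = n := ⟨⟨n, hn⟩, rfl⟩
        rw [← map_mul, ← map_mul, Zc z hz w]
      comm := by
        intro m hm n hn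
        obtain ⟨m, rfl⟩ : ∃ w : E, incl w = m := ⟨⟨m, hm⟩, rfl⟩
        obtain ⟨n, rfl⟩ : ∃ w : E, incl w = n := ⟨⟨n, hn⟩, rfl⟩
        rw [← map_commutatorElement, mem_map, hLdef, _root_.commutator_def]
        exact Subgroup.commutator_mem_commutator (Subgroup.mem_top m) (Subgroup.mem_top n)
      eN := e'.2
      yN := hx₀E
      c_not := hkc
      KA := mem_map.2 hKZ
      KL := fun h => hKL (mem_map.1 h)
      weights := by
        intro n hn
        obtain ⟨γ, f, -, hf, hγT, hγe, -⟩ := hext (n : ZMod p) hn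
        refine ⟨f, ?_, ?_, ?_, ?_, ?_⟩
        · intro v hv
          obtain ⟨v, rfl⟩ : ∃ w : E, incl w = v := ⟨⟨v, hv⟩, rfl⟩
          rw [← hf]; exact (γ v).2
        · rintro _ ⟨v, hv, rfl⟩
          rw [← hf]; exact mem_map.2 (Zinv γ v hv)
        · rintro _ ⟨v, hv, rfl⟩
          rw [← hf]; exact mem_map.2 (Linv γ v hv)
        · rw [← hf, ← map_pow, ← map_inv, ← map_mul, mem_map]
          refine πeq ?_
          rw [map_pow, hγe]
          exact pow_congr (hπp e') (by rw [ZMod.natCast_zmod_val])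
        · rw [← hf, ← map_inv, ← map_mul, mem_map]
          exact ((memT γ).1 hγT).2 K hKZ }
  obtain ⟨hFixed, hDA⟩ := core1 hcard hp2 (hna_sub hna) d
  refine ⟨hFixed, fun N hN hY => ?_⟩
  have hLN : ∀ z ∈ L, (z : Ω) ∈ N := by
    intro z hz
    refine (show L ≤ N.subgroupOf E from ?_) hz
    rw [hLdef, _root_.commutator_def, Subgroup.commutator_le]
    exact fun v _ w _ => hN v (hES v.2) w (hES w.2)
  obtain ⟨τ, f, hτY, hf, hτT, hτe, hτc⟩ := hext (-1) (neg_ne_zero.2 one_ne_zero)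
  rw [inv_neg, inv_one] at hτc
  have hinvp : ∀ v : E, π v ^ (-1 : ZMod p).val = (π v)⁻¹ := by
    intro v
    refine (inv_eq_of_mul_eq_one_right ?_).symm
    conv_lhs => rw [← pow_one (π v)]
    rw [← pow_mul, ← pow_add]
    have h : ((1 + 1 * (-1 : ZMod p).val : ℕ) : ZMod p) = ((0 : ℕ) : ZMod p) := by simp
    rw [pow_congr (hπp v) h, pow_zero]
  have hτZ : ∀ h h' : E, π h = π h' → π (τ h) = π (τ h') := fun h h' hh => by
    refine QuotientGroup.eq.2 ?_
    rw [← map_inv, ← map_mul]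
    exact Zinv τ _ (πeq hh)
  have hτinv : ∀ h : E, π (τ h) = (π h)⁻¹ := by
    intro h
    have hτce : π (τ e) = (π e)⁻¹ := by
      obtain ⟨i₀, hi₀⟩ := coord (le_top : C₁ ≤ ⊤) hC1n
        (by rw [Subgroup.card_top, hcE, cardC1]; ring) (Subgroup.mem_top e') he'C (Subgroup.mem_top e)
      obtain ⟨j₀, hj₀⟩ := coord ZC1 (fun b _ u hu => by rw [Zc u hu b, mul_inv_cancel_right]; exact hu)
        (by rw [cardC1, cardZ]; ring) cC1 hcZ hi₀
      have he₀ : π e = π (e' ^ i₀ * c ^ j₀) := by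
        refine (QuotientGroup.eq.2 ?_).symm
        rwa [mul_inv_rev, mul_assoc]
      rw [hτZ _ _ he₀, map_mul, map_mul, map_pow, map_pow, map_pow, map_pow, hτe, hτc, hinvp, hinvp,
        he₀, map_mul, map_pow, map_pow, inv_pow, inv_pow, mul_inv_rev]
      exact ((hcπ e' c).pow_pow i₀ j₀).inv_inv.eq
    obtain ⟨i, j, hij⟩ := hcoord h
    rw [hτZ h (e ^ i * c ^ j) (by rw [hij, map_mul, map_pow, map_pow]), map_mul, map_mul, map_pow,
      map_pow, map_pow, map_pow, hτce, hτc, hinvp, hij, inv_pow, inv_pow, mul_inv_rev]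
    exact ((hcπ e c).pow_pow i j).inv_inv.eq
  have hτX : τ ∈ movSub N E := hY hτY
  have hgτ : ∀ g' ∈ F.autGroup E, g' * τ * g'⁻¹ ∈ movSub N E := by
    intro g' hg'
    have hτF : τ ∈ F.autGroup E := extGroup_le hES hτY
    have hδ : (g' * τ)⁻¹ * (τ * g') ∈ Inn E := by
      refine inn_of_stab hS hE LZ (le_refl Z) (fun f _ => ⟨Linv f, Zinv f, Zinv f⟩)
        (mul_mem (inv_mem (mul_mem hg' hτF)) (mul_mem hτF hg')) ?_
      obtain ⟨h1, h2⟩ := (memT τ).1 hτT
      refine ⟨fun z hz => ?_, fun z hz => ?_, fun z hz => mul_mem (inv_mem hz) (Zinv _ z hz), fun h => ?_⟩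
      · rw [MulAut.mul_apply, MulAut.mul_apply, h1 _ (Linv g' z hz), mul_inv_rev, MulAut.mul_apply,
          MulAut.inv_apply_self]
        have h3 := congrArg (τ⁻¹ : MulAut E) (h1 z hz)
        rw [MulAut.inv_apply_self] at h3
        exact h3.symm
      · -- on the factor `Z / L`
        obtain ⟨y, hy0⟩ : ∃ y, ((g' * τ)⁻¹ * (τ * g')) z = y := ⟨_, rfl⟩
        rw [hy0]
        have hy : g' (τ y) = τ (g' z) := by
          show (g' * τ) y = (τ * g') z
          rw [← hy0, ← MulAut.mul_apply, mul_inv_cancel_left]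
        have hyZ : y ∈ Z := hy0 ▸ Zinv _ z hz
        have h4 : g' (z⁻¹ * τ y) ∈ L := by
          rw [map_mul, map_inv, hy]
          exact h2 _ (Zinv g' z hz)
        have h5 : z⁻¹ * τ y ∈ L := by simpa using Linv g'⁻¹ _ h4
        have := mul_mem h5 (inv_mem (h2 y hyZ))
        rw [mul_inv_rev, inv_inv, mul_assoc, mul_inv_cancel_left] at this
        exact this
      · obtain ⟨y, hy0⟩ : ∃ y, ((g' * τ)⁻¹ * (τ * g')) h = y := ⟨_, rfl⟩
        rw [hy0]
        have hy : g' (τ y) = τ (g' h) := by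
          show (g' * τ) y = (τ * g') h
          rw [← hy0, ← MulAut.mul_apply, mul_inv_cancel_left]
        refine πeq ?_
        have h4 : π (g' (τ y)) = π (g' h⁻¹) := by rw [hy, hτinv, map_inv g', map_inv π]
        have h5 : π (τ y) = π h⁻¹ := by
          refine QuotientGroup.eq.2 ?_
          have := Zinv g'⁻¹ _ (πeq h4)
          rwa [map_mul, map_inv, MulAut.inv_apply_self, MulAut.inv_apply_self] at this
        rw [hτinv, map_inv, inv_inj] at h5
        exact h5.symm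
    have : g' * τ * g'⁻¹ = τ * (g' * ((g' * τ)⁻¹ * (τ * g'))⁻¹ * g'⁻¹) := by group
    rw [this]
    exact mul_mem hτX (hY (inn_le_ext hS hF hE (inn_map_mem (inv_mem hδ))))
  have hcD : incl c ∈ commutator S := by
    rw [hc, map_mul, map_inv, incl_a, _root_.commutator_def, ← commutatorElement_def]
    exact Subgroup.commutator_mem_commutator (Subgroup.mem_top _) (Subgroup.mem_top _)
  have hcc : c * τ c ∈ L := by
    refine mem_map.1 (hDA (incl (c * τ c)) ?_ ?_)
    · rw [map_mul, hf]; exact mul_mem hcD (commutator_map_mem f hcD)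
    · refine mem_map.2 ((QuotientGroup.eq_one_iff _).1 ?_)
      show π (c * τ c) = 1
      rw [map_mul, hτinv, mul_inv_cancel]
  have hgc : ∀ g' ∈ F.autGroup E, ((g' c : E) : Ω) ∈ N := by
    intro g' hg'
    have h1 := mem_movSub.1 (hgτ g' hg') (g' c)
    rw [MulAut.mul_apply, MulAut.mul_apply, MulAut.inv_apply_self] at h1
    have h2 : (g' c)⁻¹ * g' (τ c) = ((g' c) ^ 2)⁻¹ * g' (c * τ c) := by
      rw [map_mul, pow_two]; group
    have h3 : ((g' c)⁻¹ * g' (τ c) : E) ∈ N.subgroupOf E := by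
      rw [Subgroup.mem_subgroupOf, Subgroup.coe_mul, Subgroup.coe_inv]; exact h1
    rw [h2] at h3
    have h4 : g' (c * τ c) ∈ N.subgroupOf E := hLN _ (Linv g' _ hcc)
    have h5 := mul_mem h3 (inv_mem h4)
    rw [mul_inv_cancel_right] at h5
    exact sq_mem hEp hp2 (inv_mem_iff.1 h5)
  have hDL : ∀ w : E, incl w ∈ commutator S → w ∈ Z → w ∈ L := fun w h hw =>
    mem_map.1 (hDA (incl w) h (mem_map.2 hw))
  refine frattini_gen hS hF hE hY haA haI fun g' hg' => mem_movSub.2 fun v => ?_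
  obtain ⟨h, rfl⟩ : ∃ h, g' h = v := ⟨g'⁻¹ v, MulAut.apply_inv_self _ _ _⟩
  obtain ⟨i, hi, -⟩ := htrans h
  have hgh : (g' * a * g'⁻¹) (g' h) = g' (a h) := by
    rw [MulAut.mul_apply, MulAut.mul_apply, MulAut.inv_apply_self]
  have hu : h⁻¹ * a h = c ^ i * ((c ^ i)⁻¹ * (h⁻¹ * a h)) := by group
  have h1 : (c ^ i)⁻¹ * (h⁻¹ * a h) ∈ L := by
    refine hDL _ ?_ (πeq ?_)
    · have : incl (h⁻¹ * a h) = ⁅(incl h)⁻¹, xS⁆ := by
        rw [map_mul, map_inv, incl_a, commutatorElement_def]; group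
      rw [map_mul, map_inv, map_pow, this]
      refine mul_mem (inv_mem (pow_mem hcD i)) ?_
      rw [_root_.commutator_def]
      exact Subgroup.commutator_mem_commutator (Subgroup.mem_top _) (Subgroup.mem_top _)
    · rw [map_mul, map_inv, hi, inv_mul_cancel_left, map_pow]
  have h2 : ((g' (h⁻¹ * a h) : E) : Ω) ∈ N := by
    rw [hu, map_mul, map_pow, Subgroup.coe_mul, SubgroupClass.coe_pow]
    exact mul_mem (pow_mem (hgc g' hg') i) (hLN _ (Linv g' _ h1))
  rw [hgh]
  rwa [map_mul, map_inv, Subgroup.coe_mul, Subgroup.coe_inv] at h2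

end Cfsg.Agent.GStructB.P5
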