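/-
Elementary abelian essential subgroups whose induced automorphisms form one transvection group.
-/
import Cfsg.Agent.GStructB.P5.Setup
import Cfsg.Agent.GStructB.P5.SL2

set_option autoImplicit false
set_option linter.unusedSectionVars false

namespace Cfsg.Agent.GStructB.P5

open Cfsg Cfsg.FusionSystem Cfsg.Agent.Fusion Cfsg.Agent.Fusion.Basic Cfsg.Agent.Fusion.Saturation
  Cfsg.Agent.Fusion.Alperin
open scoped commutatorElement

variable {Ω : Type*} [Group Ω] {S : Subgroup Ω} [Finite S] {F : FusionSystem S} {p : ℕ}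
  [hp : Fact p.Prime] {E : Subgroup Ω}

/-- A maximal subgroup is fully normalized. -/
theorem fullyNormalized_max (hS : IsPGroup p S) {P : Subgroup Ω} (hPS : P ≤ S) {k : ℕ}
    (hc : Nat.card S = p ^ (k + 1)) (hP : Nat.card P = p ^ k) : F.IsFullyNormalized P :=
  ⟨hPS, fun Q _ => by rw [normalizerIn_eq hS hPS hc hP]; exact card_le_card normalizerIn_le⟩

/-- The automorphisms of a nonessential maximal subgroup extend. -/
theorem extend_max (hS : IsPGroup p S) (hF : F.IsSaturated p) {P : Subgroup Ω} (hPS : P ≤ S) {k : ℕ}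
    (hc : Nat.card S = p ^ (k + 1)) (hP : Nat.card P = p ^ k) (hne : ¬ F.IsEssential p P)
    {α : MulAut P} (hα : α ∈ F.autGroup P) :
    ∃ f ∈ F.autGroup S, ∀ x ∈ P, autFun f x = autFun α x := by
  have hlt : P < S := lt_of_le_of_ne hPS fun h => by
    rw [h, hc] at hP
    exact (Nat.pow_lt_pow_right hp.out.one_lt (Nat.lt_succ_self k)).ne' hP
  have hN := normalizerIn_eq hS hPS hc hP
  have h := extend_of_not_essential hS hF hlt (fullyNormalized_max hS hPS hc hP) hne hP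
    (by rw [hN]; exact hc) hα
  rwa [hN] at h

/-- The moving condition for transvection configurations. -/
theorem moved_transv (hS : IsPGroup p S) (hF : F.IsSaturated p) (hp2 : p ≠ 2) (hE : F.IsEssential p E)
    {a : MulAut E} (ha : a ∈ autInducedBy S E) (haI : a ∉ Inn E) {l : E}
    (hal : ∀ w : E, w⁻¹ * a w ∈ Subgroup.zpowers l) {N : Subgroup Ω} (hlN : (l : Ω) ∈ N)
    (hY : extGroup F E ≤ movSub N E)
    (hτ : ∀ g ∈ F.autGroup E, g ∉ extGroup F E → ∃ τ ∈ extGroup F E, τ (g l) = (g l)⁻¹) :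
    F.autGroup E ≤ movSub N E := by
  have : Finite E := ess_finite hE
  have hgl : ∀ g ∈ F.autGroup E, (g l : E) ∈ N.subgroupOf E := by
    intro g hg
    by_cases hgY : g ∈ extGroup F E
    · have h1 := mul_mem hlN (mem_movSub.1 (hY hgY) l)
      rwa [mul_inv_cancel_left] at h1
    · obtain ⟨τ, hτY, hτd⟩ := hτ g hg hgY
      have h1 := mem_movSub.1 (hY hτY) (g l)
      rw [hτd] at h1
      refine sq_mem (hS.to_le hE.1.1) hp2 (inv_mem_iff.1 ?_)
      rw [Subgroup.mem_subgroupOf]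
      simpa [pow_two] using h1
  refine frattini_gen hS hF hE hY ha haI fun g hg => mem_movSub.2 fun v => ?_
  obtain ⟨i, hi⟩ := Subgroup.mem_zpowers_iff.1 (hal (g⁻¹ v))
  have h2 : v⁻¹ * (g * a * g⁻¹) v = g l ^ i := by
    rw [← map_zpow, hi, map_mul, map_inv, MulAut.apply_inv_self]
    rfl
  have h3 : (v⁻¹ * (g * a * g⁻¹) v : E) ∈ N.subgroupOf E := h2 ▸ zpow_mem (hgl g hg) i
  rw [Subgroup.mem_subgroupOf, Subgroup.coe_mul, Subgroup.coe_inv] at h3
  exact h3

set_option maxHeartbeats 1000000 in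
/-- The consequences of a transvection configuration. -/
theorem transvection (hS : IsPGroup p S) (hF : F.IsSaturated p) (hE : F.IsEssential p E)
    (hab : ∀ u v : E, u * v = v * u) (hexp : ∀ v : E, v ^ p = 1) {a : MulAut E}
    (ha : a ∈ autInducedBy S E) (ha1 : a ≠ 1) (hR : ∀ r ∈ autInducedBy S E, ∃ i : ℕ, r = a ^ i)
    {A : Subgroup E} (hcA : Nat.card E = p * Nat.card A) (hafix : ∀ w ∈ A, a w = w)
    {l : E} (hlA : l ∈ A) (hal : ∀ w : E, w⁻¹ * a w ∈ Subgroup.zpowers l)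
    {g : MulAut E} (hg : g ∈ F.autGroup E) (hgY : g ∉ extGroup F E) :
    g l ∉ A ∧ l ∉ A.map g.toMonoidHom ∧ (∀ u : ZMod p, u ≠ 0 →
      ∃ γ ∈ extGroup F E, ∃ β ∈ F.autGroup (normalizerIn S E),
        (∀ w : E, autFun β (w : Ω) = ((γ w : E) : Ω)) ∧ γ (g l) = g l ^ u.val ∧
        γ l = l ^ (u⁻¹).val ∧ (∀ w ∈ A, γ w ∈ A) ∧ ∀ w ∈ A ⊓ A.map g.toMonoidHom, γ w = w) := by
  have hfin : Finite E := ess_finite hE
  have hES : E ≤ S := hE.1.1
  have hlt := ess_lt hS hF hE
  have hEp : IsPGroup p E := hS.to_le hES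
  have hinn : ∀ α ∈ Inn E, α = 1 := by
    rintro _ ⟨m, rfl⟩
    refine MulEquiv.ext fun v => ?_
    show m * v * m⁻¹ = v
    rw [hab m v, mul_inv_cancel_right]
  have haI : a ∉ Inn E := fun h => ha1 (hinn a h)
  have haF := autInducedBy_le (F := F) hES ha
  have hcm : ∀ {Q : Subgroup E}, ∀ b ∈ (⊤ : Subgroup E), ∀ u ∈ Q, b * u * b⁻¹ ∈ Q := fun b _ u hu => by
    rw [hab b u, mul_inv_cancel_right]; exact hu
  -- fixed points of `a` outside `A`
  have hout : ∀ w : E, w ∉ A → a w ≠ w := by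
    intro w hw h
    refine ha1 (MulEquiv.ext fun v => ?_)
    obtain ⟨i, hi⟩ := coord le_top hcm (by rw [Subgroup.card_top]; exact hcA) (Subgroup.mem_top w) hw
      (Subgroup.mem_top v)
    show a v = v
    rw [← mul_inv_cancel_left (w ^ i) v, map_mul, map_pow, h, hafix _ hi]
  -- incidence
  have key : ∀ g ∈ F.autGroup E, g ∉ extGroup F E → l ∉ A.map g.toMonoidHom := by
    intro g hg hgY hlg
    have hle : Subgroup.zpowers l ≤ A.map g.toMonoidHom := Subgroup.zpowers_le.2 hlg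
    have hbfix : ∀ w ∈ A.map g.toMonoidHom, (g * a * g⁻¹) w = w := by
      rintro _ ⟨w, hw, rfl⟩
      show g (a (g⁻¹ (g w))) = g w
      rw [MulAut.inv_apply_self, hafix w hw]
    refine sep_series hS hF hE hg hgY ha haI ha haI hle le_rfl ?_ ?_
    · exact ⟨fun w hw => hafix w (Subgroup.zpowers_le.2 hlA hw), fun w _ => hal w,
        fun w _ => hle (hal w), fun w => hle (hal w)⟩
    · refine ⟨fun w hw => hbfix w (hle hw), fun w hw => ?_, fun w hw => ?_, fun w => ?_⟩
      · rw [hbfix w hw, inv_mul_cancel]; exact one_mem _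
      · rw [hbfix w hw, inv_mul_cancel]; exact one_mem _
      · refine ⟨(g⁻¹ w)⁻¹ * a (g⁻¹ w), Subgroup.zpowers_le.2 hlA (hal _), ?_⟩
        show g _ = w⁻¹ * g (a (g⁻¹ w))
        rw [map_mul, map_inv, MulAut.apply_inv_self]
  have h1 : g l ∉ A := fun h =>
    key g⁻¹ (inv_mem hg) (fun h' => hgY (by simpa using inv_mem h'))
      ⟨g l, h, MulAut.inv_apply_self _ _ _⟩
  have h2 := key g hg hgY
  refine ⟨h1, h2, fun u hu => ?_⟩
  obtain ⟨d, hd⟩ : ∃ d, d = g l := ⟨_, rfl⟩
  obtain ⟨b, hb⟩ : ∃ b, b = g * a * g⁻¹ := ⟨_, rfl⟩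
  rw [← hd] at h1 ⊢
  have hdg : d ∈ A.map g.toMonoidHom := ⟨l, hlA, hd.symm⟩
  have hbfix : ∀ w ∈ A.map g.toMonoidHom, b w = w := by
    rintro _ ⟨w, hw, rfl⟩
    show b (g w) = g w
    rw [hb, MulAut.mul_apply, MulAut.mul_apply, MulAut.inv_apply_self, hafix w hw]
  have hbd : ∀ w : E, w⁻¹ * b w ∈ Subgroup.zpowers d := by
    intro w
    obtain ⟨i, hi⟩ := Subgroup.mem_zpowers_iff.1 (hal (g⁻¹ w))
    refine Subgroup.mem_zpowers_iff.2 ⟨i, ?_⟩
    rw [hd, ← map_zpow, hi, map_mul, map_inv, MulAut.apply_inv_self, hb, MulAut.mul_apply,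
      MulAut.mul_apply]
  have toNat : ∀ {z w : E}, w ∈ Subgroup.zpowers z → ∃ i : ℕ, z ^ i = w := fun h =>
    Submonoid.mem_powers_iff _ _ |>.1 (mem_powers_iff_mem_zpowers.2 h)
  obtain ⟨k, hk⟩ := toNat (hal d)
  obtain ⟨m, hm⟩ := toNat (hbd l)
  have hk0 : (k : ZMod p) ≠ 0 := fun h => hout d h1 (by
    rw [pow_congr (hexp l) (j := 0) (by simpa using h), pow_zero] at hk
    exact (inv_mul_eq_one.1 hk.symm).symm)
  have hm0 : (m : ZMod p) ≠ 0 := fun h => by
    rw [pow_congr (hexp d) (j := 0) (by simpa using h), pow_zero] at hm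
    have h3 : a (g⁻¹ l) = g⁻¹ l := by
      have := congrArg (g⁻¹ : MulAut E) (inv_mul_eq_one.1 hm.symm)
      rw [hb, MulAut.mul_apply, MulAut.mul_apply, MulAut.inv_apply_self] at this
      exact this.symm
    refine h2 ⟨g⁻¹ l, ?_, MulAut.apply_inv_self _ _ _⟩
    by_contra h4
    exact hout _ h4 h3
  have had : a d = d * l ^ k := by rw [hk, mul_inv_cancel_left]
  have hbl : b l = l * d ^ m := by rw [hm, mul_inv_cancel_left]
  obtain ⟨γ, hγ, -, hγd, hγl⟩ := sl2 (Z₀ := (⊥ : Subgroup E))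
    (Subgroup.mem_bot.2 (commutatorElement_eq_one_iff_commute.2 (hab d l)))
    (Subgroup.mem_bot.2 (hexp d)) (Subgroup.mem_bot.2 (hexp l))
    (a := a) (b := b) (fun x hx => by rw [Subgroup.mem_bot.1 hx, map_one]; exact one_mem _)
    (fun x hx => by rw [Subgroup.mem_bot.1 hx, map_one]; exact one_mem _) hk0 hm0
    (by rw [Subgroup.mem_bot, had, inv_mul_cancel])
    (by rw [Subgroup.mem_bot, hafix l hlA, inv_mul_cancel])
    (by rw [Subgroup.mem_bot, hbfix d hdg, inv_mul_cancel])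
    (by rw [Subgroup.mem_bot, hbl, inv_mul_cancel]) hu
  rw [Subgroup.mem_bot, inv_mul_eq_one] at hγd hγl
  set K := A ⊓ A.map g.toMonoidHom with hKdef
  -- the fixing subgroup
  let T : Subgroup (MulAut E) :=
    { carrier := {f | ∀ w ∈ K, f w = w}
      one_mem' := fun w _ => rfl
      mul_mem' := fun {f f'} hf hf' w hw => by rw [MulAut.mul_apply, hf' w hw, hf w hw]
      inv_mem' := fun {f} hf w hw => by
        conv_lhs => rw [← hf w hw]
        rw [MulAut.inv_apply_self] }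
  have hbF : b ∈ F.autGroup E := hb ▸ mul_mem (mul_mem hg haF) (inv_mem hg)
  obtain ⟨hγF, hγT⟩ : γ ∈ F.autGroup E ⊓ T := by
    refine (Subgroup.closure_le (K := F.autGroup E ⊓ T)).2 ?_ hγ
    intro f hf
    rcases hf with rfl | hf
    · exact ⟨haF, fun w hw => hafix w hw.1⟩
    · rw [show f = b from hf]
      exact ⟨hbF, fun w hw => hbfix w hw.2⟩
  -- a subgroup containing `l`, `K` and `d` is everything
  have cardgA : Nat.card (A.map g.toMonoidHom) = Nat.card A :=
    (Nat.card_congr (A.equivMapOfInjective _ (MulEquiv.injective g)).toEquiv).symm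
  have hAK : Nat.card A ≤ p * Nat.card K := by
    have h3 := Subgroup.index_mul_card (A.map g.toMonoidHom)
    rw [cardgA, hcA] at h3
    have h4 : (A.map g.toMonoidHom).index = p := Nat.eq_of_mul_eq_mul_right Nat.card_pos h3
    have h5 := Subgroup.relIndex_le_of_le_right (H := A.map g.toMonoidHom) (le_top : A ≤ ⊤)
      (by rw [Subgroup.relIndex_top_right]; exact Subgroup.index_ne_zero_of_finite)
    rw [Subgroup.relIndex_top_right, h4] at h5
    have h6 := Subgroup.index_mul_card (K.subgroupOf A)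
    rw [Nat.card_congr (Subgroup.subgroupOfEquivOfLe (inf_le_left : K ≤ A)).toEquiv] at h6
    rw [← h6]
    refine Nat.mul_le_mul_right _ ?_
    rw [hKdef, Subgroup.inf_subgroupOf_left]
    exact h5
  have hAgen : ∀ X : Subgroup E, K ≤ X → l ∈ X → A ≤ X := by
    intro X hKX hlX
    obtain ⟨j, hj⟩ := card_exp hEp K
    have h3 : K < X ⊓ A := lt_of_le_of_ne (le_inf hKX inf_le_left) fun h => h2 (h.ge ⟨hlX, hlA⟩).2
    have h4 := succ_le_of_lt hEp h3 hj
    rw [hj, ← pow_succ'] at hAK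
    exact (eq_of_le_card' (inf_le_right : X ⊓ A ≤ A) (hAK.trans h4)).ge.trans inf_le_left
  have htop : ∀ X : Subgroup E, K ≤ X → l ∈ X → d ∈ X → X = ⊤ := by
    intro X hKX hlX hdX
    refine eq_top_iff.2 fun v _ => ?_
    obtain ⟨i, hi⟩ := coord le_top hcm (by rw [Subgroup.card_top]; exact hcA) (Subgroup.mem_top d) h1
      (Subgroup.mem_top v)
    rw [← mul_inv_cancel_left (d ^ i) v]
    exact mul_mem (pow_mem hdX i) (hAgen X hKX hlX hi)
  have hγA : ∀ w ∈ A, γ w ∈ A := fun w hw => by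
    refine (hAgen (A.comap γ.toMonoidHom) (fun v hv => ?_) ?_) hw
    · show γ v ∈ A
      rw [hγT v hv]; exact hv.1
    · show γ l ∈ A
      rw [← hγl]; exact pow_mem hlA _
  set j := (u⁻¹ * u⁻¹).val
  have hapow : ∀ n : ℕ, (a ^ n) d = d * l ^ (k * n) ∧ ∀ w ∈ A, (a ^ n) w = w := by
    intro n
    induction n with
    | zero => simp
    | succ n ih =>
      refine ⟨?_, fun w hw => ?_⟩
      · rw [pow_succ', MulAut.mul_apply, ih.1, map_mul, map_pow, had, hafix l hlA, mul_assoc, ← pow_add]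
        ring_nf
      · rw [pow_succ', MulAut.mul_apply, ih.2 w hw, hafix w hw]
  have hcomm : a ^ j * γ = γ * a := by
    refine MulEquiv.ext fun v => ?_
    have h3 : MonoidHom.eqLocus (a ^ j * γ).toMonoidHom (γ * a).toMonoidHom = ⊤ := by
      refine htop _ (fun w hw => ?_) ?_ ?_
      · show (a ^ j) (γ w) = γ (a w)
        rw [hγT w hw, (hapow j).2 w hw.1, hafix w hw.1, hγT w hw]
      · show (a ^ j) (γ l) = γ (a l)
        rw [hafix l hlA, ← hγl, map_pow, (hapow j).2 l hlA]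
      · show (a ^ j) (γ d) = γ (a d)
        rw [had, map_mul, map_pow γ, ← hγd, ← hγl, map_pow, (hapow j).1,
          (show Commute d (l ^ (k * j)) from hab _ _).mul_pow, ← pow_mul, ← pow_mul]
        congr 1
        refine pow_congr (hexp l) ?_
        simp only [j, Nat.cast_mul, ZMod.natCast_zmod_val]
        field_simp
    exact h3.ge (Subgroup.mem_top v)
  have hnorm : ∀ r ∈ autInducedBy S E, γ * r * γ⁻¹ ∈ autInducedBy S E := by
    intro r hr
    obtain ⟨i, rfl⟩ := hR r hr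
    rw [← conj_pow, show γ * a * γ⁻¹ = a ^ j by rw [← hcomm, mul_inv_cancel_right]]
    exact pow_mem (pow_mem ha j) i
  obtain ⟨β, hβ, hβe⟩ := extend_normalizer hS hF hE.2.1 hγF hnorm
  refine ⟨γ, ?_, β, hβ, fun w => ?_, hγd.symm, hγl.symm, hγA, hγT⟩
  · obtain ⟨x, hx, hxE⟩ := exists_mem_normalizer_not_mem hS hlt
    exact Subgroup.subset_closure ⟨normalizerIn S E, autFun β,
      SetLike.lt_iff_le_and_exists.2 ⟨le_normalizerIn hES, x, hx, hxE⟩,
      isMap_of_mem_autGroup normalizerIn_le hβ, hβe⟩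
  · rw [hβe w w.2, autFun_apply]

end Cfsg.Agent.GStructB.P5
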