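/-
Nonabelian subgroups of order `p ^ 3` are not essential.
-/
import Cfsg.Agent.GStructB.P5.Cubic
import Cfsg.Agent.GStructB.P5.Core2
import Cfsg.Agent.GStructB.P5.Transvection

set_option autoImplicit false
set_option linter.unusedSectionVars false

namespace Cfsg.Agent.GStructB.P5

open Cfsg Cfsg.FusionSystem Cfsg.Agent.Fusion Cfsg.Agent.Fusion.Basic Cfsg.Agent.Fusion.Saturation
  Cfsg.Agent.Fusion.Alperin
open scoped commutatorElement

variable {Ω : Type*} [Group Ω] {S : Subgroup Ω} [Finite S] {F : FusionSystem S} {p : ℕ}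
  [hp : Fact p.Prime] {E : Subgroup Ω}

/-- The normalizer of an essential subgroup of order `p ^ 3`. -/
theorem card_normalizer_cubic (hS : IsPGroup p S) (hF : F.IsSaturated p) (hcard : Nat.card S = p ^ 5)
    (hE : F.IsEssential p E) (hcE : Nat.card E = p ^ 3) :
    Nat.card (normalizerIn S E) = p ^ 4 := by
  have : Finite (normalizerIn S E) := finite_of_le normalizerIn_le
  have hN : IsPGroup p (normalizerIn S E) := hS.to_le normalizerIn_le
  refine card_eq_of_bounds (IsPGroup.iff_card.1 hN) ?_ ?_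
  · obtain ⟨m, hm⟩ := IsPGroup.iff_card.1 hN
    have h := card_lt_card (lt_normalizerIn hS (ess_lt hS hF hE))
    rw [hcE, hm] at h
    rw [hm]
    exact Nat.pow_le_pow_right hp.out.pos ((Nat.pow_lt_pow_iff_right hp.out.one_lt).1 h)
  · rw [← hcard]
    exact card_lt_card (lt_of_le_of_ne normalizerIn_le fun h =>
      not_essential_cubic_normal hS hF hcard h hcE hE)

/-- A `p`-th power of an element lies in a subgroup of index `p`. -/
theorem pow_mem_index {G : Type*} [Group G] [Finite G] (hG : IsPGroup p G) {A : Subgroup G} {k : ℕ}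
    (hc : Nat.card G = p ^ (k + 1)) (hA : Nat.card A = p ^ k) (g : G) : g ^ p ∈ A := by
  have hn : A.Normal := normal_of_index hG hc hA
  have hq : Nat.card (G ⧸ A) = p := by
    have h := Subgroup.card_eq_card_quotient_mul_card_subgroup A
    rw [hc, hA, pow_succ'] at h
    exact (Nat.eq_of_mul_eq_mul_right (pow_pos hp.out.pos k) h).symm
  have h2 := pow_card_eq_one' (x := QuotientGroup.mk' A g)
  rw [hq, ← map_pow] at h2
  exact (QuotientGroup.eq_one_iff _).1 h2

set_option maxHeartbeats 2000000 in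
theorem not_essential_cubic_nonabelian (hS : IsPGroup p S) (hF : F.IsSaturated p) (hp2 : p ≠ 2)
    (hcard : Nat.card S = p ^ 5)
    (hna : ∀ B : Subgroup Ω, B ≤ S → IsMulCommutative B → Nat.card B ≠ p ^ 4)
    (hcE : Nat.card E = p ^ 3) (hnab : ¬ ∀ u v : E, u * v = v * u) : ¬ F.IsEssential p E := by
  intro hE
  have hfin : Finite E := ess_finite hE
  have hES : E ≤ S := hE.1.1
  have hlt := ess_lt hS hF hE
  have hCE := centric_centralizerIn_le hE.1
  have hEp : IsPGroup p E := hS.to_le hES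
  set N := normalizerIn S E with hNdef
  have hNS : N ≤ S := normalizerIn_le
  have hEN : E ≤ N := le_normalizerIn hES
  have hcN : Nat.card N = p ^ 4 := card_normalizer_cubic hS hF hcard hE hcE
  have hfinN : Finite N := finite_of_le hNS
  have hNp : IsPGroup p N := hS.to_le hNS
  -- the centre
  set Z := Subgroup.center E with hZdef
  have Zc : ∀ z ∈ Z, ∀ g : E, g * z = z * g := fun z hz g => Subgroup.mem_center_iff.1 hz g
  have cardZ : Nat.card Z = p := le_antisymm ((card_center_le hEp (k := 1) hcE hnab).trans (pow_one p).le)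
    (card_center_pos hEp (by norm_num) hcE)
  have Zinv : ∀ f : MulAut E, ∀ u ∈ Z, f u ∈ Z := fun f u hu => aut_center_mem f hu
  set π := QuotientGroup.mk' Z with hπ
  have hcomZ : ∀ g h : E, ⁅g, h⁆ ∈ Z := fun g h =>
    comm_mem hEp Z (by rw [hcE, cardZ, ← pow_succ']) g h
  have hcπ : ∀ g h : E, Commute (π g) (π h) := fun g h => by
    rw [← commutatorElement_eq_one_iff_commute, ← map_commutatorElement]
    exact (QuotientGroup.eq_one_iff _).2 (hcomZ g h)
  have πeq : ∀ {g h : E}, π g = π h → g⁻¹ * h ∈ Z := fun h => QuotientGroup.eq.1 h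
  have πone : ∀ {g : E}, g ∈ Z → π g = 1 := fun h => (QuotientGroup.eq_one_iff _).2 h
  have hcong : ∀ (f : MulAut E) (h h' : E), π h = π h' → π (f h) = π (f h') := fun f h h' hh => by
    refine QuotientGroup.eq.2 ?_
    rw [← map_inv, ← map_mul]
    exact Zinv f _ (πeq hh)
  -- an intermediate subgroup
  let inN : E →* N := Subgroup.inclusion hEN
  have inN_inj : Function.Injective inN := Subgroup.inclusion_injective hEN
  obtain ⟨x₀, hx₀, hx₀E⟩ := exists_mem_normalizer_not_mem hS hlt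
  set a := conjAut S E ⟨x₀, hx₀⟩ with ha_def
  have haA : a ∈ autInducedBy S E := conjAut_mem hx₀
  have haI : a ∉ Inn E := conjAut_not_inn hE.1 hx₀ hx₀E
  have hap : PEl p a := pel_induced hS haA
  have haF := autInducedBy_le (F := F) hES haA
  have haZ : ∀ z ∈ Z, a z = z := hap.fix cardZ.le (Zinv a)
  have incl_a : ∀ v : E, inN (a v) = ⟨x₀, hx₀⟩ * inN v * ⟨x₀, hx₀⟩⁻¹ := fun v => Subtype.ext rfl
  have hrange : inN.range = E.subgroupOf N := by
    ext s
    exact ⟨by rintro ⟨v, rfl⟩; exact v.2, fun hs => ⟨⟨s, hs⟩, rfl⟩⟩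
  have hEN' : (E.subgroupOf N).Normal := by
    refine ⟨fun v hv s => ?_⟩
    exact (Subgroup.mem_normalizer_iff.1 s.2.2 v).1 hv
  have hmapZn : (Z.map inN).Normal := by
    refine ⟨?_⟩
    rintro _ ⟨z, hz, rfl⟩ s
    exact ⟨conjAut S E ⟨s, s.2⟩ z, Zinv _ z hz, Subtype.ext rfl⟩
  have hmapcard : ∀ U : Subgroup E, Nat.card (U.map inN) = Nat.card U := fun U =>
    (Nat.card_congr (U.equivMapOfInjective inN inN_inj).toEquiv).symm
  obtain ⟨C', -, hZC', hC'E, cardC', hC'comm⟩ := exists_normal_succ hNp (U := Z.map inN)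
    (Q := E.subgroupOf N) (lt_of_le_of_ne (hrange ▸ Subgroup.map_le_range inN Z) fun h => by
      have h1 := hmapcard Z
      rw [h, cardZ, Nat.card_congr (Subgroup.subgroupOfEquivOfLe hEN).toEquiv, hcE] at h1
      exact (lt_self_pow₀ hp.out.one_lt (by norm_num : 1 < 3)).ne' h1) (j := 1)
    (by rw [hmapcard, cardZ, pow_one])
  set C₁ := C'.comap inN with hC1def
  have hC1map : C₁.map inN = C' := Subgroup.map_comap_eq_self (hrange ▸ hC'E)
  have cardC1 : Nat.card C₁ = p ^ 2 := by rw [← hmapcard C₁, hC1map, cardC']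
  have ZC1 : Z ≤ C₁ := fun z hz => hZC' ⟨z, hz, rfl⟩
  have hC1fix : ∀ u ∈ C₁, π (a u) = π u := by
    intro u hu
    obtain ⟨z, hz, hze⟩ := hC'comm (inN u) hu ⟨x₀, hx₀⟩
    have h1 : a u * u⁻¹ = z := by
      refine inN_inj ?_
      rw [hze, map_mul, map_inv, incl_a, commutatorElement_def]
    have h2 : π (a u * u⁻¹) = 1 := by rw [h1, πone hz]
    rw [map_mul, map_inv, mul_inv_eq_one] at h2
    exact h2
  have hC1n : ∀ b ∈ (⊤ : Subgroup E), ∀ u ∈ C₁, b * u * b⁻¹ ∈ C₁ := by
    intro b _ u hu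
    rw [show b * u * b⁻¹ = ⁅b, u⁆ * u by rw [commutatorElement_def]; group]
    exact mul_mem (ZC1 (hcomZ b u)) hu
  have haC1 : ∀ u ∈ C₁, a u ∈ C₁ := fun u hu => by
    rw [← mul_inv_cancel_left u (a u)]
    exact mul_mem hu (ZC1 (πeq (hC1fix u hu).symm))
  obtain ⟨c, hcC1, hcZ⟩ := SetLike.exists_of_lt (lt_of_le_of_ne ZC1 fun h => by
    rw [← h, cardZ] at cardC1
    exact (lt_self_pow₀ hp.out.one_lt (by norm_num : 1 < 2)).ne cardC1)
  have hπac : π (a c) = π c := hC1fix c hcC1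
  have C1coord : ∀ u ∈ C₁, ∀ {w : E}, w ∈ C₁ → w ∉ Z → ∃ j : ℕ, π u = π w ^ j := by
    intro u hu w hw hwZ
    obtain ⟨j, hj⟩ := coord ZC1 (fun b _ v hv => by rw [Zc v hv b, mul_inv_cancel_right]; exact hv)
      (by rw [cardC1, cardZ, pow_two]) hw hwZ hu
    exact ⟨j, by rw [← map_pow]; exact (QuotientGroup.eq.2 hj).symm⟩
  -- incidence
  have key : ∀ g ∈ F.autGroup E, g ∉ extGroup F E → g c ∉ C₁ := by
    intro g hg hgY h
    have hgcZ : g c ∉ Z := fun h' => hcZ (by simpa using Zinv g⁻¹ _ h')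
    refine sep_steps hS hF hE hg hgY haA haI haA haI (A := Z) (B := C₁) (D := ⊤) ZC1 le_top cardZ.le
      (by rw [cardC1, cardZ, pow_two]) (by rw [Subgroup.card_top, hcE, cardC1, pow_succ' p 2])
      (by rw [Subgroup.card_top]; exact Nat.le_mul_of_pos_left _ hp.out.pos) (Zinv a) haC1
      (fun _ _ => Subgroup.mem_top _) (Zinv _) ?_ (fun _ _ => Subgroup.mem_top _)
    intro u hu
    obtain ⟨j, hj⟩ := C1coord u hu h hgcZ
    have h1 : π ((g * a * g⁻¹) (g c)) = π (g c) := by
      rw [MulAut.mul_apply, MulAut.mul_apply, MulAut.inv_apply_self]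
      exact hcong g _ _ hπac
    have h2 : π ((g * a * g⁻¹) u) = π u := by
      rw [hcong (g * a * g⁻¹) u ((g c) ^ j) (by rw [hj, map_pow]), map_pow, map_pow, h1, hj]
    rw [← mul_inv_cancel_left u ((g * a * g⁻¹) u)]
    exact mul_mem hu (ZC1 (πeq h2.symm))
  obtain ⟨g, hg, hgY⟩ := exists_not_ext hS hF hE
  obtain ⟨e', he'⟩ : ∃ e', e' = g c := ⟨_, rfl⟩
  have he'C : e' ∉ C₁ := he' ▸ key g hg hgY
  have hπp : ∀ h : E, π h ^ p = 1 := by
    intro h
    rw [← map_pow]
    refine πone ?_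
    by_cases hh : h ∈ Z
    · exact pow_mem hh p
    set C := Subgroup.centralizer ({h} : Set E)
    have h1 : Z < C := lt_of_le_of_ne (Subgroup.center_le_centralizer _) fun e =>
      hh (e ▸ Subgroup.mem_centralizer_singleton_iff.2 rfl)
    have h4 : Nat.card C = p ^ 2 := le_antisymm
      (le_pred_of_lt hEp (lt_top_iff_ne_top.2 fun e => hh (Subgroup.mem_center_iff.2 fun g =>
        Subgroup.mem_centralizer_singleton_iff.1 (e.ge (Subgroup.mem_top g))))
        (by rw [Subgroup.card_top, hcE]))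
      (succ_le_of_lt hEp h1 (by rw [cardZ, pow_one]))
    exact pow_mem_of_card_quotient h1.le (fun b _ v hv => by rw [Zc v hv b, mul_inv_cancel_right]; exact hv)
      (by rw [h4, cardZ, pow_two]) (Subgroup.mem_centralizer_singleton_iff.2 rfl)
  have hcoord : ∀ h : E, ∃ i j : ℕ, π h = π e' ^ i * π c ^ j := by
    intro h
    obtain ⟨i, hi⟩ := coord (le_top : C₁ ≤ ⊤) hC1n
      (by rw [Subgroup.card_top, hcE, cardC1, pow_succ' p 2]) (Subgroup.mem_top e') he'C (Subgroup.mem_top h)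
    obtain ⟨j, hj⟩ := C1coord _ hi hcC1 hcZ
    refine ⟨i, j, ?_⟩
    rw [← hj, ← map_pow, ← map_mul, mul_inv_cancel_left]
  have hk_ex : ∀ h : E, ∃ k : ℕ, π (a h) = π h * π c ^ k := by
    intro h
    have h1 := hap.step (le_top : C₁ ≤ ⊤) (by rw [Subgroup.card_top, hcE, cardC1, pow_succ' p 2]) haC1
      (fun _ _ => Subgroup.mem_top _) h (Subgroup.mem_top h)
    obtain ⟨k, hk⟩ := C1coord _ h1 hcC1 hcZ
    exact ⟨k, by rw [← hk, ← map_mul, mul_inv_cancel_left]⟩
  obtain ⟨k, hk⟩ := hk_ex e'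
  have htrans : ∀ i j : ℕ, ∀ h : E, π h = π e' ^ i * π c ^ j → π (a h) = π h * π c ^ (k * i) := by
    intro i j h hh
    rw [hcong a h (e' ^ i * c ^ j) (by rw [hh, map_mul, map_pow, map_pow]), map_mul, map_mul, map_pow,
      map_pow, map_pow, map_pow, hk, hπac, ((hcπ e' c).pow_right k).mul_pow, ← pow_mul, hh, mul_assoc,
      mul_assoc, ((Commute.refl (π c)).pow_pow _ j).eq]
  have hk0 : (k : ZMod p) ≠ 0 := by
    intro h0
    have h1 : ∀ h : E, h⁻¹ * a h ∈ Z := fun h => by
      obtain ⟨i, j, hij⟩ := hcoord h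
      refine πeq ?_
      rw [htrans i j h hij, pow_congr (hπp c) (i := k * i) (j := 0) (by push_cast; rw [h0, zero_mul]),
        pow_zero, mul_one]
    refine haI (inn_of_stab hS hE (le_refl Z) (le_refl Z) (fun f _ => ⟨Zinv f, Zinv f, Zinv f⟩) haF ?_)
    exact ⟨haZ, fun z _ => h1 z, fun z _ => h1 z, h1⟩
  obtain ⟨i₀, j₀, hij₀⟩ := hcoord (g⁻¹ c)
  have hi₀ : (i₀ : ZMod p) ≠ 0 := fun h => by
    refine key g⁻¹ (inv_mem hg) (fun h' => hgY (by simpa using inv_mem h')) ?_
    rw [pow_congr (hπp e') (j := 0) (by simpa using h), pow_zero, one_mul, ← map_pow] at hij₀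
    rw [← mul_inv_cancel_left (c ^ j₀) (g⁻¹ c)]
    exact mul_mem (pow_mem hcC1 _) (ZC1 (πeq hij₀.symm))
  obtain ⟨b, hb⟩ : ∃ b, b = g * a * g⁻¹ := ⟨_, rfl⟩
  have hbF : b ∈ F.autGroup E := hb ▸ mul_mem (mul_mem hg haF) (inv_mem hg)
  have hbe : π (b e') = π e' := by
    rw [hb, he', MulAut.mul_apply, MulAut.mul_apply, MulAut.inv_apply_self]
    exact hcong g _ _ hπac
  have hbc : π (b c) = π c * π e' ^ (k * i₀) := by
    have h1 : π (g (a (g⁻¹ c))) = π (g (g⁻¹ c * c ^ (k * i₀))) :=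
      hcong g _ _ (by rw [htrans i₀ j₀ _ hij₀, map_mul, map_pow])
    rw [hb, MulAut.mul_apply, MulAut.mul_apply, h1, map_mul, MulAut.apply_inv_self, map_pow, map_mul,
      map_pow, ← he']
  obtain ⟨τ, hτ, -, hτe, hτc⟩ := sl2 (Z₀ := Z) (hcomZ e' c) ((QuotientGroup.eq_one_iff _).1
      (show π (e' ^ p) = 1 by rw [map_pow, hπp])) ((QuotientGroup.eq_one_iff _).1
      (show π (c ^ p) = 1 by rw [map_pow, hπp])) (Zinv a) (Zinv b) hk0
      (l := k * i₀) (by push_cast; exact mul_ne_zero hk0 hi₀)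
      (πeq (by rw [hk, map_mul, map_pow])) (πeq hπac.symm) (πeq hbe.symm)
      (πeq (by rw [hbc, map_mul, map_pow])) (u := -1) (neg_ne_zero.2 one_ne_zero)
  rw [inv_neg, inv_one] at hτc
  -- `τ` fixes the centre
  have hτFZ : τ ∈ F.autGroup E ∧ ∀ z ∈ Z, τ z = z := by
    have : ∀ f ∈ Subgroup.closure ({a, b} : Set (MulAut E)), f ∈ F.autGroup E ∧ ∀ z ∈ Z, f z = z := by
      intro f hf
      induction hf using Subgroup.closure_induction with
      | mem f hf =>
        rcases hf with rfl | hf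
        · exact ⟨haF, haZ⟩
        · rw [show f = b from hf]
          exact ⟨hbF, (hb ▸ hap.conj g : PEl p b).fix cardZ.le (Zinv b)⟩
      | one => exact ⟨one_mem _, fun z _ => rfl⟩
      | mul f f' _ _ h h' => exact ⟨mul_mem h.1 h'.1, fun z hz => by rw [MulAut.mul_apply, h'.2 z hz, h.2 z hz]⟩
      | inv f _ h => exact ⟨inv_mem h.1, fun z hz => by conv_lhs => rw [← h.2 z hz, MulAut.inv_apply_self]⟩
    exact this τ hτ
  have hinvp : ∀ v : E, π v ^ (-1 : ZMod p).val = (π v)⁻¹ := by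
    intro v
    refine (inv_eq_of_mul_eq_one_right ?_).symm
    conv_lhs => rw [← pow_one (π v)]
    rw [← pow_mul, ← pow_add]
    have h : ((1 + 1 * (-1 : ZMod p).val : ℕ) : ZMod p) = ((0 : ℕ) : ZMod p) := by simp
    rw [pow_congr (hπp v) h, pow_zero]
  have hτinv : ∀ h : E, π (τ h) = (π h)⁻¹ := by
    intro h
    obtain ⟨i, j, hij⟩ := hcoord h
    have hte : π (τ e') = π e' ^ (-1 : ZMod p).val := by
      rw [← map_pow]; exact (QuotientGroup.eq.2 hτe).symm
    have htc : π (τ c) = π c ^ (-1 : ZMod p).val := by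
      rw [← map_pow]; exact (QuotientGroup.eq.2 hτc).symm
    rw [hcong τ h (e' ^ i * c ^ j) (by rw [hij, map_mul, map_pow, map_pow]), map_mul, map_mul, map_pow,
      map_pow, map_pow, map_pow, hte, htc, hinvp, hinvp, hij, inv_pow, inv_pow, mul_inv_rev]
    exact ((hcπ e' c).pow_pow i j).inv_inv.eq
  have hnorm : ∀ r ∈ autInducedBy S E, τ * r * τ⁻¹ ∈ autInducedBy S E := by
    intro r hr
    have hrF := autInducedBy_le (F := F) hES hr
    have hrZ : ∀ z ∈ Z, r z = z := (pel_induced hS hr).fix cardZ.le (Zinv r)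
    have hδ : (r * τ)⁻¹ * (τ * r) ∈ Inn E := by
      refine inn_of_stab hS hE (le_refl Z) (le_refl Z) (fun f _ => ⟨Zinv f, Zinv f, Zinv f⟩)
        (mul_mem (inv_mem (mul_mem hrF hτFZ.1)) (mul_mem hτFZ.1 hrF)) ?_
      have h1 : ∀ z ∈ Z, ((r * τ)⁻¹ * (τ * r)) z = z := fun z hz => by
        apply (r * τ).injective
        rw [← MulAut.mul_apply, mul_inv_cancel_left, MulAut.mul_apply, MulAut.mul_apply, hrZ z hz,
          hτFZ.2 z hz, hrZ z hz]
      refine ⟨h1, fun z hz => by rw [h1 z hz, inv_mul_cancel]; exact one_mem _,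
        fun z hz => by rw [h1 z hz, inv_mul_cancel]; exact one_mem _, fun h => ?_⟩
      obtain ⟨y, hy0⟩ : ∃ y, ((r * τ)⁻¹ * (τ * r)) h = y := ⟨_, rfl⟩
      rw [hy0]
      have hy : r (τ y) = τ (r h) := by
        show (r * τ) y = (τ * r) h
        rw [← hy0, ← MulAut.mul_apply, mul_inv_cancel_left]
      refine πeq ?_
      have h4 : π (r (τ y)) = π (r h⁻¹) := by rw [hy, hτinv, map_inv r, map_inv π]
      have h5 := hcong r⁻¹ _ _ h4
      rw [MulAut.inv_apply_self, MulAut.inv_apply_self, hτinv, map_inv, inv_inj] at h5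
      exact h5.symm
    rw [show τ * r * τ⁻¹ = r * (τ * ((r * τ)⁻¹ * (τ * r)) * τ⁻¹) by group]
    exact mul_mem hr (inn_le_autInducedBy hES (inn_map_mem hδ))
  obtain ⟨β, hβ, hβe⟩ := extend_normalizer hS hF hE.2.1 hτFZ.1 hnorm
  -- the normalizer is not essential
  have hNZ : Nat.card (Subgroup.center N) = p := by
    refine le_antisymm ?_ (card_center_pos hNp (by norm_num) hcN)
    have hle : ∀ z ∈ Subgroup.center N, ∃ hz : (z : Ω) ∈ E, (⟨z, hz⟩ : E) ∈ Z := by
      intro z hz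
      have hzE : (z : Ω) ∈ E := hCE ⟨hNS z.2, fun v hv =>
        congrArg Subtype.val (Subgroup.mem_center_iff.1 hz ⟨v, hEN hv⟩)⟩
      refine ⟨hzE, Subgroup.mem_center_iff.2 fun v => Subtype.ext ?_⟩
      exact (congrArg Subtype.val (Subgroup.mem_center_iff.1 hz (inN v)) :)
    calc Nat.card (Subgroup.center N) ≤ Nat.card Z :=
          Nat.card_le_card_of_injective (fun z => ⟨⟨z.1, (hle z z.2).1⟩, (hle z z.2).2⟩)
            fun u v h => Subtype.ext (Subtype.ext (congrArg (fun w : Z => ((w : E) : Ω)) h))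
      _ = p := cardZ
  obtain ⟨f, hf, hfe⟩ := extend_max hS hF hNS hcard hcN (not_essential_small_center hS hcN hNZ) hβ
  -- the centre of `S`
  let incl : E →* S := Subgroup.inclusion hES
  have incl_inj : Function.Injective incl := Subgroup.inclusion_injective hES
  set ES := E.subgroupOf S with hESdef
  set NS := N.subgroupOf S with hNSdef
  have hZS : Subgroup.center S = Z.map incl := by
    refine eq_of_le_card' ?_ ?_
    · intro z hz
      have hzE : (z : Ω) ∈ E := hCE ⟨z.2, fun v hv =>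
        congrArg Subtype.val (Subgroup.mem_center_iff.1 hz ⟨v, hES hv⟩)⟩
      refine ⟨⟨z, hzE⟩, Subgroup.mem_center_iff.2 fun v => Subtype.ext ?_, Subtype.ext rfl⟩
      exact (congrArg Subtype.val (Subgroup.mem_center_iff.1 hz (incl v)) :)
    · rw [← Nat.card_congr (Z.equivMapOfInjective incl incl_inj).toEquiv, cardZ]
      exact card_center_pos hS (by norm_num) hcard
  have hfincl : ∀ v : E, f (incl v) = incl (τ v) := by
    intro v
    refine Subtype.ext ?_
    have h1 := hfe v (hEN v.2)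
    rw [hβe v v.2, autFun_apply, show autFun f (v : Ω) = ((f (incl v) : S) : Ω) from autFun_apply f (incl v)] at h1
    exact h1
  -- fixed points of elements of the normalizer
  have hxp : ∀ i : ℕ, (i : ZMod p) = 0 → x₀ ^ i ∈ E := by
    intro i hi
    obtain ⟨q, rfl⟩ := (ZMod.natCast_eq_zero_iff i p).1 hi
    have h1 := pow_mem_index hNp hcN
      ((Nat.card_congr (Subgroup.subgroupOfEquivOfLe hEN).toEquiv).trans hcE) ⟨x₀, hx₀⟩
    rw [pow_mul]
    exact pow_mem h1 q
  have hfixE : ∀ n : N, ∀ f' : MulAut E, (∀ v : E, inN (f' v) = n * inN v * n⁻¹) → π (f' e') = π e' →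
      (n : Ω) ∈ E := by
    intro n f' hf' hfix
    obtain ⟨i, hi⟩ := coord (le_top : E.subgroupOf N ≤ ⊤) (fun w _ v hv => hEN'.conj_mem v hv w)
      (by rw [Subgroup.card_top, hcN, Nat.card_congr (Subgroup.subgroupOfEquivOfLe hEN).toEquiv, hcE,
        pow_succ' p 3]) (Subgroup.mem_top ⟨x₀, hx₀⟩) hx₀E (Subgroup.mem_top n)
    set w : E := ⟨_, hi⟩
    have hai : ∀ (m : ℕ) (v : E), inN ((a ^ m) v) = ⟨x₀, hx₀⟩ ^ m * inN v * (⟨x₀, hx₀⟩ ^ m)⁻¹ := by
      intro m
      induction m with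
      | zero => simp
      | succ m ih => intro v; rw [pow_succ', MulAut.mul_apply, incl_a, ih, pow_succ']; group
    have hiπ : ∀ m : ℕ, π ((a ^ m) e') = π e' * π c ^ (k * m) := by
      intro m
      induction m with
      | zero => simp
      | succ m ih =>
        rw [pow_succ', MulAut.mul_apply, htrans 1 (k * m) _ (by rw [ih, pow_one]), ih, mul_assoc, ← pow_add]
        ring_nf
    have h1 : f' e' = (a ^ i) (w * e' * w⁻¹) := by
      refine inN_inj ?_
      rw [hf', hai, map_mul, map_mul, map_inv, show inN w = (⟨x₀, hx₀⟩ ^ i)⁻¹ * n from Subtype.ext rfl]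
      group
    rw [h1, hcong (a ^ i) _ e' (by rw [map_mul, map_mul, map_inv, (hcπ w e').eq, mul_inv_cancel_right]),
      hiπ, mul_eq_left] at hfix
    have hi0 : (i : ZMod p) = 0 := by
      have h2 := zmod_eq (hπp c) (fun h => hcZ ((QuotientGroup.eq_one_iff c).1 h)) (i := k * i) (j := 0)
        (by rw [hfix, pow_zero])
      push_cast at h2
      exact (mul_eq_zero.1 h2).resolve_left hk0
    have h2 := mul_mem (hxp i hi0) w.2
    have h3 : x₀ ^ i * (w : Ω) = n := mul_inv_cancel_left (x₀ ^ i) (n : Ω)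
    rwa [h3] at h2
  -- the set of elements centralizing `N` modulo the centre
  have hZN : ∀ z : N, z ∈ Z.map inN ↔ Subgroup.inclusion hNS z ∈ Subgroup.center S := by
    intro z
    rw [hZS]
    constructor
    · rintro ⟨v, hv, rfl⟩; exact ⟨v, hv, Subtype.ext rfl⟩
    · rintro ⟨v, hv, hvz⟩; exact ⟨v, hv, Subtype.ext (congrArg Subtype.val hvz : _)⟩
  have hZ2 : ∀ n : N, (∀ m : N, ⁅m, n⁆ ∈ Z.map inN) → ∃ v ∈ C₁, inN v = n := by
    intro n hn
    have hcn : ∀ v : E, ⁅n, inN v⁆ ∈ Z.map inN := fun v => by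
      rw [← commutatorElement_inv]; exact inv_mem (hn _)
    have hnE : (n : Ω) ∈ E := by
      refine hfixE n (conjAut S E ⟨n, n.2⟩) (fun v => Subtype.ext rfl) ?_
      obtain ⟨z, hz, hze⟩ := hcn e'
      have h1 : conjAut S E ⟨n, n.2⟩ e' * e'⁻¹ = z := by
        refine inN_inj ?_
        rw [hze, map_mul, map_inv, commutatorElement_def]
        exact Subtype.ext rfl
      have h2 : π (conjAut S E ⟨n, n.2⟩ e' * e'⁻¹) = 1 := by rw [h1, πone hz]
      rw [map_mul, map_inv, mul_inv_eq_one] at h2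
      exact h2
    refine ⟨⟨n, hnE⟩, ?_, Subtype.ext rfl⟩
    set v : E := ⟨n, hnE⟩
    obtain ⟨z, hz, hze⟩ := hn ⟨x₀, hx₀⟩
    have h1 : π (a v * v⁻¹) = 1 := by
      have : a v * v⁻¹ = z := by
        refine inN_inj ?_
        rw [hze, map_mul, map_inv, incl_a, show inN v = n from Subtype.ext rfl, commutatorElement_def]
      rw [this, πone hz]
    rw [map_mul, map_inv, mul_inv_eq_one] at h1
    obtain ⟨i, j, hij⟩ := hcoord v
    rw [htrans i j v hij, mul_eq_left] at h1
    have h2 := zmod_eq (hπp c) (fun h => hcZ ((QuotientGroup.eq_one_iff c).1 h)) (i := k * i) (j := 0)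
      (by rw [h1, pow_zero])
    push_cast at h2
    rw [pow_congr (hπp e') (j := 0) (by simpa using (mul_eq_zero.1 h2).resolve_left hk0), pow_zero, one_mul,
      ← map_pow] at hij
    rw [← mul_inv_cancel_left (c ^ j) v]
    exact mul_mem (pow_mem hcC1 j) (ZC1 (πeq hij.symm))
  have hNn : NS.Normal :=
    normal_of_index hS hcard ((Nat.card_congr (Subgroup.subgroupOfEquivOfLe hNS).toEquiv).trans hcN)
  -- the centralizer of `e'`
  have hCS : Nat.card (Subgroup.centralizer ({incl e'} : Set S)) = p ^ 2 := by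
    have hCle : Subgroup.centralizer ({incl e'} : Set S) ≤ ES := by
      intro s hs
      rw [Subgroup.mem_centralizer_singleton_iff] at hs
      have hse : (s : Ω) * e' * (s : Ω)⁻¹ = e' := by
        rw [show (s : Ω) * e' = e' * s from congrArg Subtype.val hs, mul_inv_cancel_right]
      have hsN : (s : Ω) ∈ N := by
        refine ⟨s.2, mem_normalizer_of_forall fun v hv => ?_⟩
        obtain ⟨i, hi⟩ := coord (le_top : C₁ ≤ ⊤) hC1n
          (by rw [Subgroup.card_top, hcE, cardC1, pow_succ' p 2]) (Subgroup.mem_top e') he'C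
          (Subgroup.mem_top (⟨v, hv⟩ : E))
        set w : E := (e' ^ i)⁻¹ * ⟨v, hv⟩
        have hw : (s : Ω) * w * (s : Ω)⁻¹ ∈ E := by
          have hwN : (s : Ω) * w * (s : Ω)⁻¹ ∈ N :=
            hNn.conj_mem (incl w) (hEN w.2) s
          obtain ⟨v', -, hv'⟩ := hZ2 ⟨_, hwN⟩ fun m => by
            have hmN : (s : Ω)⁻¹ * m * s ∈ N := by
              have := hNn.conj_mem (Subgroup.inclusion hNS m) m.2 s⁻¹
              rw [inv_inv] at this
              exact this
            have h1 := (hZN _).1 (hC'comm (inN w) hi ⟨_, hmN⟩)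
            refine (hZN _).2 ?_
            have h2 : (Subgroup.inclusion hNS ⁅m, ⟨_, hwN⟩⁆) =
                s * Subgroup.inclusion hNS ⁅(⟨_, hmN⟩ : N), inN w⁆ * s⁻¹ := by
              refine Subtype.ext ?_
              show (m : Ω) * ((s : Ω) * w * (s : Ω)⁻¹) * (m : Ω)⁻¹ * ((s : Ω) * w * (s : Ω)⁻¹)⁻¹ =
                (s : Ω) * (((s : Ω)⁻¹ * m * s) * (w : Ω) * ((s : Ω)⁻¹ * m * s)⁻¹ * (w : Ω)⁻¹) * (s : Ω)⁻¹
              group
            rw [h2, Subgroup.mem_center_iff.1 h1 s, mul_inv_cancel_right]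
            exact h1
          have : (v' : Ω) = (s : Ω) * w * (s : Ω)⁻¹ := congrArg Subtype.val hv'
          rw [← this]; exact v'.2
        have h3 : (s : Ω) * v * (s : Ω)⁻¹ = ((s : Ω) * e' * (s : Ω)⁻¹) ^ i * ((s : Ω) * w * (s : Ω)⁻¹) := by
          rw [conj_pow, show v = (e' : Ω) ^ i * w from (mul_inv_cancel_left ((e' : Ω) ^ i) v).symm]; group
        rw [h3, hse]
        exact mul_mem (pow_mem e'.2 i) hw
      refine hfixE ⟨s, hsN⟩ (conjAut S E ⟨s, hsN⟩) (fun v => Subtype.ext rfl) ?_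
      rw [show conjAut S E ⟨s, hsN⟩ e' = e' from Subtype.ext hse]
    have h2 : Subgroup.centralizer ({incl e'} : Set S) = (Subgroup.centralizer ({e'} : Set E)).map incl := by
      ext s
      constructor
      · intro hs
        exact ⟨⟨s, hCle hs⟩, Subgroup.mem_centralizer_singleton_iff.2
          (incl_inj (by rw [map_mul, map_mul]; exact Subgroup.mem_centralizer_singleton_iff.1 hs)),
          Subtype.ext rfl⟩
      · rintro ⟨v, hv, rfl⟩
        rw [Subgroup.mem_centralizer_singleton_iff, ← map_mul, ← map_mul,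
          Subgroup.mem_centralizer_singleton_iff.1 hv]
    rw [h2, ← Nat.card_congr (Subgroup.equivMapOfInjective _ incl incl_inj).toEquiv]
    have he'Z : e' ∉ Z := fun h => he'C (ZC1 h)
    have h1 : Z < Subgroup.centralizer ({e'} : Set E) := lt_of_le_of_ne (Subgroup.center_le_centralizer _)
      fun e => he'Z (e ▸ Subgroup.mem_centralizer_singleton_iff.2 rfl)
    exact le_antisymm (le_pred_of_lt hEp (lt_top_iff_ne_top.2 fun e => he'Z (Subgroup.mem_center_iff.2
        fun g => Subgroup.mem_centralizer_singleton_iff.1 (e.ge (Subgroup.mem_top g))))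
        (by rw [Subgroup.card_top, hcE]))
      (succ_le_of_lt hEp h1 (by rw [cardZ, pow_one]))
  obtain ⟨-, -, hpow, -⟩ := core2 hcard (hna_sub hna) hCS
  obtain ⟨z, hz, hz1⟩ : ∃ z ∈ Z, z ≠ 1 := by
    obtain ⟨⟨z, hz⟩, hz1⟩ := Subgroup.ne_bot_iff_exists_ne_one.1 (show Z ≠ ⊥ from fun h => by
      rw [h, Subgroup.card_bot] at cardZ
      exact hp.out.one_lt.ne cardZ)
    exact ⟨z, hz, fun h => hz1 (Subtype.ext h)⟩
  have h1 := hpow f (-1 : ZMod p).val 1 (incl z) (by
      rw [hZS, hfincl, ← map_pow, ← map_inv, ← map_mul]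
      exact Subgroup.mem_map_of_mem _ hτe)
    (hZS ▸ Subgroup.mem_map_of_mem _ hz) (fun h => hz1 (incl_inj (h.trans (map_one incl).symm)))
    (by rw [pow_one, hfincl, hτFZ.2 z hz])
  rw [ZMod.natCast_zmod_val, Nat.cast_one, Odd.neg_one_pow (by decide)] at h1
  have h2 : ((2 : ℕ) : ZMod p) = 0 := by push_cast; linear_combination h1
  exact hp2 ((Nat.prime_dvd_prime_iff_eq hp.out Nat.prime_two).1 ((ZMod.natCast_eq_zero_iff 2 p).1 h2))

end Cfsg.Agent.GStructB.P5
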