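/-
Essential subgroups of order at most `p ^ 3`.
-/
import Cfsg.Agent.GStructB.P5.Nonabelian
import Cfsg.Agent.GStructB.P5.Four

set_option autoImplicit false
set_option linter.unusedSectionVars false

namespace Cfsg.Agent.GStructB.P5

open Cfsg Cfsg.FusionSystem Cfsg.Agent.Fusion Cfsg.Agent.Fusion.Basic Cfsg.Agent.Fusion.Saturation
  Cfsg.Agent.Fusion.Alperin
open scoped commutatorElement

variable {Ω : Type*} [Group Ω] {S : Subgroup Ω} [Finite S] {F : FusionSystem S} {p : ℕ}
  [hp : Fact p.Prime] {E : Subgroup Ω}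

/-- A small abelian essential subgroup is elementary. -/
theorem elementary_of_small (hS : IsPGroup p S) (hE : F.IsEssential p E) (hab : ∀ u v : E, u * v = v * u)
    {k : ℕ} (hk : k ≤ 3) (hcE : Nat.card E = p ^ k) : ∀ v : E, v ^ p = 1 := by
  intro v
  have : Finite E := ess_finite hE
  by_contra hv
  obtain ⟨i, -, hi⟩ := (Nat.dvd_prime_pow hp.out).1 (orderOf_dvd_natCard v |>.trans hcE.dvd)
  have h2 : 2 ≤ i := by
    by_contra h
    refine hv (orderOf_dvd_iff_pow_eq_one.1 ?_)
    rw [hi]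
    exact (pow_dvd_pow p (by omega)).trans (pow_one p).dvd
  have ho : orderOf (v : Ω) = p ^ i := (Subgroup.orderOf_coe v).trans hi
  refine RankTwoResistant.abelian_not_essential hS (fun a ha b hb =>
    congrArg Subtype.val (hab ⟨a, ha⟩ ⟨b, hb⟩)) v.2 (ho ▸ pow_dvd_pow p h2) ?_ hE
  rw [ho, hcE, ← pow_succ]
  exact Nat.pow_le_pow_right hp.out.pos (by omega)

/-- The subgroup of fixed points of an automorphism. -/
def fixSub {H : Type*} [Group H] (a : MulAut H) : Subgroup H :=
  MonoidHom.eqLocus a.toMonoidHom (MonoidHom.id H)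

theorem mem_fixSub {H : Type*} [Group H] {a : MulAut H} {w : H} : w ∈ fixSub a ↔ a w = w := Iff.rfl

theorem neg_one_pow_eq_inv {H : Type*} [Group H] {d : H} (hd : d ^ p = 1) :
    d ^ (-1 : ZMod p).val = d⁻¹ := by
  refine (inv_eq_of_mul_eq_one_right ?_).symm
  conv_lhs => rw [← pow_one d]
  rw [← pow_mul, ← pow_add]
  have h : ((1 + 1 * (-1 : ZMod p).val : ℕ) : ZMod p) = ((0 : ℕ) : ZMod p) := by simp
  rw [pow_congr hd h, pow_zero]

set_option maxHeartbeats 2000000 in
theorem outcome_cubic (hS : IsPGroup p S) (hF : F.IsSaturated p) (hp2 : p ≠ 2)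
    (hcard : Nat.card S = p ^ 5)
    (hna : ∀ B : Subgroup Ω, B ≤ S → IsMulCommutative B → Nat.card B ≠ p ^ 4)
    (hE : F.IsEssential p E) (hcE : Nat.card E = p ^ 3) : Outcome F p E := by
  have hfin : Finite E := ess_finite hE
  have hES : E ≤ S := hE.1.1
  have hlt := ess_lt hS hF hE
  have hEp : IsPGroup p E := hS.to_le hES
  by_cases hab : ∀ u v : E, u * v = v * u
  swap
  · exact absurd hE (not_essential_cubic_nonabelian hS hF hp2 hcard hna hcE hab)
  have hexp := elementary_of_small hS hE hab le_rfl hcE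
  have hinn : ∀ α ∈ Inn E, α = 1 := by
    rintro _ ⟨m, rfl⟩
    refine MulEquiv.ext fun v => ?_
    show m * v * m⁻¹ = v
    rw [hab m v, mul_inv_cancel_right]
  set N := normalizerIn S E with hNdef
  have hNS : N ≤ S := normalizerIn_le
  have hEN : E ≤ N := le_normalizerIn hES
  have hcN : Nat.card N = p ^ 4 := card_normalizer_cubic hS hF hcard hE hcE
  have hfinN : Finite N := finite_of_le hNS
  have hNp : IsPGroup p N := hS.to_le hNS
  have hENn : (E.subgroupOf N).Normal :=
    ⟨fun v hv s => (Subgroup.mem_normalizer_iff.1 s.2.2 v).1 hv⟩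
  have cardEN : Nat.card (E.subgroupOf N) = p ^ 3 :=
    (Nat.card_congr (Subgroup.subgroupOfEquivOfLe hEN).toEquiv).trans hcE
  let inN : E →* N := Subgroup.inclusion hEN
  obtain ⟨x₀, hx₀, hx₀E⟩ := exists_mem_normalizer_not_mem hS hlt
  set xN : N := ⟨x₀, hx₀⟩ with hxN
  set a := conjAut S E ⟨x₀, hx₀⟩ with ha_def
  have haA : a ∈ autInducedBy S E := conjAut_mem hx₀
  have haI : a ∉ Inn E := conjAut_not_inn hE.1 hx₀ hx₀E
  have ha1 : a ≠ 1 := fun h => haI (h ▸ one_mem _)
  have hap : PEl p a := pel_induced hS haA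
  have incl_a : ∀ v : E, inN (a v) = xN * inN v * xN⁻¹ := fun v => Subtype.ext rfl
  have hNcoord : ∀ n : N, ∃ i : ℕ, ∃ w : E, n = xN ^ i * inN w := fun n => by
    obtain ⟨i, hi⟩ := coord (le_top : E.subgroupOf N ≤ ⊤) (fun w _ v hv => hENn.conj_mem v hv w)
      (by rw [Subgroup.card_top, hcN, cardEN, pow_succ' p 3]) (Subgroup.mem_top xN) hx₀E
      (Subgroup.mem_top n)
    exact ⟨i, ⟨_, hi⟩, (mul_inv_cancel_left (xN ^ i) n).symm⟩
  have hai : ∀ (m : ℕ) (v : E), inN ((a ^ m) v) = xN ^ m * inN v * (xN ^ m)⁻¹ := by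
    intro m
    induction m with
    | zero => simp
    | succ m ih => intro v; rw [pow_succ', MulAut.mul_apply, incl_a, ih, pow_succ']; group
  have hR : ∀ r ∈ autInducedBy S E, ∃ i : ℕ, r = a ^ i := by
    intro r hr
    obtain ⟨n, hn, hnr⟩ := mem_autInducedBy_iff'.1 hr
    obtain ⟨i, w, hiw⟩ := hNcoord ⟨n, hn⟩
    refine ⟨i, MulEquiv.ext fun v => Subgroup.inclusion_injective hEN ?_⟩
    show inN (r v) = inN ((a ^ i) v)
    have h1 : inN (r v) = ⟨n, hn⟩ * inN v * ⟨n, hn⟩⁻¹ := Subtype.ext (by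
      have := hnr v v.2
      rw [autFun_apply] at this
      exact this)
    have h2 : inN w * inN v * (inN w)⁻¹ = inN v := by
      rw [← map_mul, hab w v, map_mul, mul_inv_cancel_right]
    rw [h1, hiw, hai, mul_inv_rev, show xN ^ i * inN w * inN v * ((inN w)⁻¹ * (xN ^ i)⁻¹) =
      xN ^ i * (inN w * inN v * (inN w)⁻¹) * (xN ^ i)⁻¹ by group, h2]
  -- the fixed subgroup of `a`
  set A := fixSub a with hAdef
  have hafix : ∀ w ∈ A, a w = w := fun w hw => hw
  have cardA : Nat.card A = p ^ 2 := by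
    obtain ⟨m, hm⟩ := card_exp hEp A
    have hlt3 : Nat.card A < p ^ 3 := by
      rw [← hcE]
      refine lt_of_le_of_ne (Subgroup.card_le_card_group A) fun h => ha1 (MulEquiv.ext fun v => ?_)
      exact (Subgroup.eq_top_of_card_eq A h).ge (Subgroup.mem_top v)
    refine card_eq_of_bounds ⟨m, hm⟩ ?_ hlt3
    -- otherwise `E` would be normal
    by_contra hsmall
    refine not_essential_cubic_normal hS hF hcard (le_antisymm normalizerIn_le fun s hs => ?_) hcE hE
    refine ⟨hs, mem_normalizer_of_forall fun v hv => ?_⟩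
    by_contra hvE
    have hNSn : (N.subgroupOf S).Normal :=
      normal_of_index hS hcard ((Nat.card_congr (Subgroup.subgroupOfEquivOfLe hNS).toEquiv).trans hcN)
    let cS : E →* N :=
      { toFun := fun u => ⟨s * u * s⁻¹, hNSn.conj_mem ⟨u, hES u.2⟩ (hEN u.2) ⟨s, hs⟩⟩
        map_one' := Subtype.ext (by simp)
        map_mul' := fun u u' => Subtype.ext (by simp [mul_assoc]) }
    have hcS : Function.Injective cS := fun u u' h => Subtype.ext
      (mul_left_cancel (mul_right_cancel (congrArg Subtype.val h : s * (u : Ω) * s⁻¹ = s * (u' : Ω) * s⁻¹)))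
    set J := cS.range.subgroupOf (E.subgroupOf N) with hJ
    have hJidx : J.index ≤ p := by
      have h3 := Subgroup.index_mul_card cS.range
      rw [← Nat.card_congr (MonoidHom.ofInjective hcS).toEquiv, hcE, hcN, pow_succ' p 3] at h3
      have h4 : cS.range.index = p := Nat.eq_of_mul_eq_mul_right (pow_pos hp.out.pos 3) h3
      have h5 := Subgroup.relIndex_le_of_le_right (H := cS.range) (le_top : E.subgroupOf N ≤ ⊤)
        (by rw [Subgroup.relIndex_top_right]; exact Subgroup.index_ne_zero_of_finite)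
      rw [Subgroup.relIndex_top_right, h4] at h5
      exact h5
    have hJcard : p ^ 2 ≤ Nat.card J := by
      have h3 := Subgroup.index_mul_card J
      rw [cardEN] at h3
      refine Nat.le_of_mul_le_mul_left ?_ hp.out.pos
      rw [← pow_succ', ← h3]
      exact Nat.mul_le_mul_right _ hJidx
    set n := cS ⟨v, hv⟩ with hn
    obtain ⟨i, w, hiw⟩ := hNcoord n
    have hi0 : ¬ p ∣ i := by
      rintro ⟨q, rfl⟩
      refine hvE ?_
      have h4 : xN ^ (p * q) ∈ E.subgroupOf N := by
        rw [pow_mul]; exact pow_mem (pow_mem_index hNp hcN cardEN xN) q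
      have h5 : n ∈ E.subgroupOf N := hiw ▸ mul_mem h4 w.2
      exact h5
    have hJA : ∀ u : J, (⟨((u : E.subgroupOf N) : N), (u : E.subgroupOf N).2⟩ : E) ∈ A := by
      rintro ⟨⟨u, huE⟩, hu⟩
      obtain ⟨u', hu'⟩ := hu
      set uE : E := ⟨(u : Ω), huE⟩
      have hcomm : n * u * n⁻¹ = u := by
        rw [show u = cS u' from hu'.symm, hn, ← map_mul, hab, map_mul, mul_inv_cancel_right]
      have h1 : (a ^ i) uE = uE := by
        refine Subgroup.inclusion_injective hEN ?_
        show inN _ = inN uE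
        rw [hai, ← show xN ^ i * (inN w * inN uE * (inN w)⁻¹) * (xN ^ i)⁻¹ = xN ^ i * inN uE * (xN ^ i)⁻¹ by
          rw [← map_mul, hab w uE, map_mul, mul_inv_cancel_right]]
        calc _ = (xN ^ i * inN w) * inN uE * (xN ^ i * inN w)⁻¹ := by group
          _ = n * u * n⁻¹ := by rw [← hiw]; rfl
          _ = _ := hcomm
      obtain ⟨k, hk⟩ := hap
      obtain ⟨m', hm'⟩ := exists_pow_eq_self_of_coprime (x := a) (n := i) (Nat.Coprime.coprime_dvd_right
        (orderOf_dvd_of_pow_eq_one hk) (Nat.Coprime.pow_right k ((hp.out.coprime_iff_not_dvd.2 hi0).symm)))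
      show a uE = uE
      rw [← hm']
      clear hm'
      induction m' with
      | zero => rfl
      | succ q ihq => rw [pow_succ, MulAut.mul_apply, h1, ihq]
    refine hsmall (hJcard.trans (Nat.card_le_card_of_injective
      (fun u => (⟨⟨((u : E.subgroupOf N) : N), (u : E.subgroupOf N).2⟩, hJA u⟩ : A)) ?_))
    intro u u' h
    exact Subtype.ext (Subtype.ext (Subtype.ext (congrArg (fun w : A => ((w : E) : Ω)) h)))
  have hcA : Nat.card E = p * Nat.card A := by rw [hcE, cardA, pow_succ' p 2]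
  have hcm : ∀ {Q : Subgroup E}, ∀ b ∈ (⊤ : Subgroup E), ∀ u ∈ Q, b * u * b⁻¹ ∈ Q := fun b _ u hu => by
    rw [hab b u, mul_inv_cancel_right]; exact hu
  obtain ⟨v, -, hvA⟩ := SetLike.exists_of_lt (lt_top_iff_ne_top.2 fun h : A = ⊤ => by
    rw [h, Subgroup.card_top, hcE] at cardA
    exact (Nat.pow_lt_pow_right hp.out.one_lt (by norm_num : 2 < 3)).ne cardA.symm)
  set l := v⁻¹ * a v with hl
  have hlA : l ∈ A := hap.step (le_top : A ≤ ⊤) (by rw [Subgroup.card_top, hcA])
    (fun w hw => by rw [hafix w hw]; exact hw) (fun _ _ => Subgroup.mem_top _) v (Subgroup.mem_top v)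
  have hal : ∀ w : E, w⁻¹ * a w ∈ Subgroup.zpowers l := by
    intro w
    obtain ⟨i, hi⟩ := coord le_top hcm (by rw [Subgroup.card_top, hcA]) (Subgroup.mem_top v) hvA
      (Subgroup.mem_top w)
    have h1 : a w = a (v ^ i) * ((v ^ i)⁻¹ * w) := by
      conv_lhs => rw [← mul_inv_cancel_left (v ^ i) w]
      rw [map_mul, hafix _ hi]
    rw [h1, map_pow, show a v = v * l by rw [hl, mul_inv_cancel_left],
      (show Commute v l from hab v l).mul_pow, show v ^ i * l ^ i * ((v ^ i)⁻¹ * w) =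
        w * l ^ i from by rw [hab (v ^ i) (l ^ i), mul_assoc, mul_inv_cancel_left, hab], inv_mul_cancel_left]
    exact pow_mem (Subgroup.mem_zpowers l) i
  have hl1 : l ≠ 1 := fun h => hvA (inv_mul_eq_one.1 h).symm
  have htr := fun g hg hgY => transvection hS hF hE hab hexp haA ha1 hR hcA hafix hlA hal
    (g := g) hg hgY
  refine ⟨?_, fun T hT hY => moved_transv hS hF hp2 hE haA haI hal ?_ hY fun g hg hgY => ?_⟩
  swap
  · have h1 := hT _ (inv_mem (hES v.2)) _ (hNS hx₀)
    have h2 : (l : Ω) = ⁅(v : Ω)⁻¹, x₀⁆ := by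
      rw [hl, commutatorElement_def, inv_inv, Subgroup.coe_mul, Subgroup.coe_inv,
        show ((a v : E) : Ω) = x₀ * v * x₀⁻¹ from rfl]
      simp [mul_assoc]
    rw [h2]; exact h1
  swap
  · obtain ⟨γ, hγY, -, -, -, hγd, -⟩ := (htr g hg hgY).2.2 (-1) (neg_ne_zero.2 one_ne_zero)
    exact ⟨γ, hγY, by rw [hγd, neg_one_pow_eq_inv (hexp _)]⟩
  -- some element is fixed
  by_cases hNe : F.IsEssential p N
  · exact (outcome_four hS hF hp2 hcard hna hNe hcN).1
  obtain ⟨g, hg, hgY⟩ := exists_not_ext hS hF hE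
  obtain ⟨hdA, hlg, hγ⟩ := htr g hg hgY
  obtain ⟨d, hd⟩ : ∃ d, d = g l := ⟨_, rfl⟩
  rw [← hd] at hdA hγ
  obtain ⟨K, hK, hKl⟩ : ∃ K ∈ A ⊓ A.map g.toMonoidHom, K ∉ Subgroup.zpowers l := by
    by_contra! h
    -- the intersection is trivial
    have h0 : A ⊓ A.map g.toMonoidHom = ⊥ := by
      refine eq_bot_iff.2 fun K hK => ?_
      obtain ⟨i, hi⟩ := Subgroup.mem_zpowers_iff.1 (h K hK)
      by_contra hK1
      have hne : l ^ i ≠ 1 := fun h' => hK1 (by rw [Subgroup.mem_bot, ← hi, h'])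
      have hz : Subgroup.zpowers (l ^ i) = Subgroup.zpowers l := by
        refine eq_of_le_card' (Subgroup.zpowers_le.2 (zpow_mem (Subgroup.mem_zpowers l) i)) ?_
        rw [Nat.card_zpowers, Nat.card_zpowers, orderOf_eq_prime (hexp l) hl1,
          orderOf_eq_prime (hexp (l ^ i)) hne]
      refine hlg (Subgroup.zpowers_le.2 (hi ▸ hK.2 : l ^ i ∈ A.map g.toMonoidHom) ?_)
      rw [hz]; exact Subgroup.mem_zpowers l
    let χ : A × (A.map g.toMonoidHom) → E := fun q => (q.1 : E) * q.2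
    have hχ : Function.Injective χ := by
      rintro ⟨u, u'⟩ ⟨w, w'⟩ he
      have he' : (u : E) * u' = w * w' := he
      have h1 : (w : E)⁻¹ * u = (w' : E) * (u' : E)⁻¹ := by
        rw [inv_mul_eq_iff_eq_mul, ← mul_assoc, ← he', mul_inv_cancel_right]
      have h2 := h0.le ⟨mul_mem (Subgroup.inv_mem _ w.2) u.2, h1 ▸ mul_mem w'.2 (Subgroup.inv_mem _ u'.2)⟩
      have h3 : w = u := Subtype.ext (inv_mul_eq_one.1 (Subgroup.mem_bot.1 h2))
      subst h3
      exact Prod.ext rfl (Subtype.ext (mul_left_cancel he'))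
    have h1 := Nat.card_le_card_of_injective χ hχ
    rw [Nat.card_prod, ← Nat.card_congr (A.equivMapOfInjective _ (MulEquiv.injective g)).toEquiv, cardA,
      hcE, ← pow_add] at h1
    exact absurd h1 (Nat.pow_lt_pow_right hp.out.one_lt (by norm_num : 3 < 4)).not_ge
  let incl : E →* S := Subgroup.inclusion hES
  let inS : N →* S := Subgroup.inclusion hNS
  have incl_inj : Function.Injective incl := Subgroup.inclusion_injective hES
  have mem_map : ∀ {U : Subgroup E} {u : E}, incl u ∈ U.map incl ↔ u ∈ U := fun {U u} =>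
    Subgroup.mem_map_iff_mem incl_inj
  have cardmap : ∀ U : Subgroup E, Nat.card (U.map incl) = Nat.card U := fun U =>
    (Nat.card_congr (U.equivMapOfInjective incl incl_inj).toEquiv).symm
  set NS := N.subgroupOf S with hNSdef
  have hNn : NS.Normal :=
    normal_of_index hS hcard ((Nat.card_congr (Subgroup.subgroupOfEquivOfLe hNS).toEquiv).trans hcN)
  have hNSmap : NS = (⊤ : Subgroup N).map inS := by
    ext s
    exact ⟨fun hs => ⟨⟨s, hs⟩, trivial, rfl⟩, by rintro ⟨n, -, rfl⟩; exact n.2⟩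
  have hAcen : ∀ u ∈ A, ∀ n : N, inN u * n = n * inN u := by
    intro u hu n
    obtain ⟨i, w, rfl⟩ := hNcoord n
    have h1 : Commute (inN u) xN := by
      have h2 := incl_a u
      rw [hafix u hu, eq_mul_inv_iff_mul_eq] at h2
      exact h2
    exact ((h1.pow_right i).mul_right (show Commute (inN u) (inN w) from
      (by rw [Commute, SemiconjBy, ← map_mul, ← map_mul, hab u w]))).eq
  have hAeq : A.map incl = NS ⊓ Subgroup.centralizer (NS : Set S) := by
    refine le_antisymm ?_ ?_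
    · rintro _ ⟨u, hu, rfl⟩
      refine ⟨hEN u.2, fun n hn => ?_⟩
      exact Subtype.ext (congrArg Subtype.val (hAcen u hu ⟨n, hn⟩)).symm
    · rintro s ⟨hsN, hsC⟩
      have hsE : (s : Ω) ∈ E := centric_centralizerIn_le hE.1
        ⟨s.2, fun u hu => congrArg Subtype.val (hsC ⟨u, hES hu⟩ (hEN hu))⟩
      refine ⟨⟨s, hsE⟩, ?_, Subtype.ext rfl⟩
      show a ⟨s, hsE⟩ = ⟨s, hsE⟩
      refine Subtype.ext ?_
      show x₀ * (s : Ω) * x₀⁻¹ = s
      rw [show x₀ * (s : Ω) = s * x₀ from congrArg Subtype.val (hsC ⟨x₀, hNS hx₀⟩ hx₀),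
        mul_inv_cancel_right]
  have hLeq : (Subgroup.zpowers l).map incl = ⁅NS, NS⁆ := by
    rw [hNSmap, ← Subgroup.map_commutator, show (Subgroup.zpowers l).map incl =
      ((Subgroup.zpowers l).map inN).map inS by rw [Subgroup.map_map]; rfl]
    congr 1
    refine le_antisymm ?_ ?_
    · rw [MonoidHom.map_zpowers, Subgroup.zpowers_le]
      have : inN l = ⁅(inN v)⁻¹, xN⁆ := by
        rw [hl, map_mul, map_inv, incl_a, commutatorElement_def, inv_inv]; group
      rw [this]
      exact Subgroup.commutator_mem_commutator (Subgroup.mem_top _) (Subgroup.mem_top _)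
    · set L₀ := (Subgroup.zpowers l).map inN
      have : L₀.Normal := ⟨by
        rintro _ ⟨u, hu, rfl⟩ n
        rw [← hAcen u (Subgroup.zpowers_le.2 hlA hu) n, mul_inv_cancel_right]
        exact ⟨u, hu, rfl⟩⟩
      rw [Subgroup.commutator_le]
      intro m _ n _
      refine (QuotientGroup.eq_one_iff _).1 ?_
      set π := QuotientGroup.mk' L₀
      show π ⁅m, n⁆ = 1
      rw [map_commutatorElement, commutatorElement_eq_one_iff_commute]
      have hx : ∀ w : E, Commute (π xN) (π (inN w)) := fun w => by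
        have h1 : π (inN (a w)) = π (inN w) := by
          refine (QuotientGroup.eq.2 ?_).symm
          rw [← map_inv, ← map_mul]
          exact Subgroup.mem_map_of_mem _ (hal w)
        rw [incl_a, map_mul, map_mul, map_inv, mul_inv_eq_iff_eq_mul] at h1
        exact h1
      have hw : ∀ w w' : E, Commute (π (inN w)) (π (inN w')) := fun w w' => by
        rw [Commute, SemiconjBy, ← map_mul, ← map_mul, ← map_mul, ← map_mul, hab w w']
      obtain ⟨i, w, rfl⟩ := hNcoord m
      obtain ⟨j, w', rfl⟩ := hNcoord n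
      rw [map_mul, map_mul, map_pow, map_pow]
      exact (((Commute.refl (π xN)).pow_pow i j).mul_right ((hx w').pow_left i)).mul_left
        (((hx w).symm.pow_right j).mul_right (hw w w'))
  obtain ⟨y, hy, hyN⟩ : ∃ y ∈ S, y ∉ N := SetLike.exists_of_lt (lt_of_le_of_ne hNS fun h => by
    rw [h, hcard] at hcN
    exact (Nat.pow_lt_pow_right hp.out.one_lt (by norm_num : 4 < 5)).ne' hcN) |> fun ⟨y, h1, h2⟩ => ⟨y, h1, h2⟩
  have hAn : (A.map incl).Normal := hAeq ▸ inferInstance
  let dat : Data1 S p :=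
    { N := NS
      A := A.map incl
      L := (Subgroup.zpowers l).map incl
      e := incl d
      y := ⟨y, hy⟩
      K := incl K
      cardN := (Nat.card_congr (Subgroup.subgroupOfEquivOfLe hNS).toEquiv).trans hcN
      cardA := (cardmap A).trans cardA
      cardL := by rw [cardmap, Nat.card_zpowers, orderOf_eq_prime (hexp l) hl1]
      normA := hAn
      normL := hLeq ▸ inferInstance
      LA := Subgroup.map_mono (Subgroup.zpowers_le.2 hlA)
      AN := by rw [hAeq]; exact inf_le_left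
      cent := fun u hu n hn => ((hAeq.le hu).2 n hn).symm
      comm := fun m hm n hn => hLeq.ge (Subgroup.commutator_mem_commutator hm hn)
      eN := hEN d.2
      yN := fun h => hyN h
      c_not := by
        intro i hi
        refine hyN ⟨hy, mem_normalizer_of_forall fun u hu => ?_⟩
        obtain ⟨j, hj⟩ := coord le_top hcm (by rw [Subgroup.card_top, hcA]) (Subgroup.mem_top d) hdA
          (Subgroup.mem_top (⟨u, hu⟩ : E))
        obtain ⟨r, hr, hre⟩ := hi
        have h1 : (⟨y, hy⟩ : S) * incl d * (⟨y, hy⟩ : S)⁻¹ = incl (d ^ i * r * d) := by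
          rw [map_mul, map_mul, hre, map_pow, mul_inv_cancel_left, commutatorElement_def, inv_mul_cancel_right]
        have hyd : y * (d : Ω) * y⁻¹ ∈ E := by
          have h2 : y * (d : Ω) * y⁻¹ = ((d ^ i * r * d : E) : Ω) := congrArg Subtype.val h1
          rw [h2]; exact Subtype.mem _
        obtain ⟨q, -, hqe⟩ := hAn.conj_mem (incl ((d ^ j)⁻¹ * ⟨u, hu⟩)) (mem_map.2 hj) ⟨y, hy⟩
        have hyw : y * (((d ^ j)⁻¹ * ⟨u, hu⟩ : E) : Ω) * y⁻¹ ∈ E := by
          have h2 : (q : Ω) = y * (((d ^ j)⁻¹ * ⟨u, hu⟩ : E) : Ω) * y⁻¹ := congrArg Subtype.val hqe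
          rw [← h2]; exact q.2
        have h3 := mul_mem (pow_mem hyd j) hyw
        rw [conj_pow, Subgroup.coe_mul, Subgroup.coe_inv, SubgroupClass.coe_pow] at h3
        simpa [mul_assoc] using h3
      KA := mem_map.2 hK.1
      KL := fun h => hKl (mem_map.1 h)
      weights := by
        intro n hn
        obtain ⟨γ, -, β, hβ, hβe, hγd, hγl, hγA, hγK⟩ := hγ (n : ZMod p) hn
        obtain ⟨f, -, hfe⟩ := extend_max hS hF hNS hcard hcN hNe hβ
        have hfincl : ∀ u : E, f (incl u) = incl (γ u) := by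
          intro u
          refine Subtype.ext ?_
          have h1 := hfe u (hEN u.2)
          rw [hβe u, show autFun f (u : Ω) = ((f (incl u) : S) : Ω) from autFun_apply f (incl u)] at h1
          exact h1
        refine ⟨f, ?_, ?_, ?_, ?_, ?_⟩
        · intro u hu
          have h1 := hfe u hu
          rw [autFun_apply f] at h1
          show ((f u : S) : Ω) ∈ N
          rw [h1]; exact autFun_mem β hu
        · rintro _ ⟨u, hu, rfl⟩
          rw [hfincl]; exact mem_map.2 (hγA u hu)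
        · rintro _ ⟨u, hu, rfl⟩
          obtain ⟨i, rfl⟩ := Subgroup.mem_zpowers_iff.1 hu
          rw [hfincl, map_zpow γ, hγl]
          exact mem_map.2 (zpow_mem (pow_mem (Subgroup.mem_zpowers l) _) i)
        · rw [hfincl, hγd, ← map_pow, ← map_inv, ← map_mul, mem_map,
            pow_congr (hexp d) (j := ((n : ZMod p)).val) (i := n) (by rw [ZMod.natCast_zmod_val]),
            inv_mul_cancel]
          exact one_mem _
        · rw [hfincl, hγK K hK, inv_mul_cancel]
          exact one_mem _ }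
  exact (core1 hcard hp2 (hna_sub hna) dat).1

theorem prime_eq_three (hp2 : p ≠ 2) (hp7 : p ≠ 7) (h : ∀ u : ZMod p, u ≠ 0 → u ^ 6 = 1) : p = 3 := by
  obtain ⟨u, hu⟩ := IsCyclic.exists_generator (α := (ZMod p)ˣ)
  have h6 : u ^ 6 = 1 := Units.ext (by simpa using h (u : ZMod p) u.ne_zero)
  have ho : orderOf u = p - 1 := by
    rw [orderOf_eq_card_of_forall_mem_zpowers hu, Nat.card_eq_fintype_card, ZMod.card_units]
  have hd : p - 1 ∣ 6 := ho ▸ orderOf_dvd_of_pow_eq_one h6
  have := Nat.le_of_dvd (by norm_num) hd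
  have := hp.out.two_le
  have hp4 : p ≠ 4 := fun h => by rw [h] at hp; exact absurd hp.out (by norm_num)
  have hp6 : p ≠ 6 := fun h => by rw [h] at hp; exact absurd hp.out (by norm_num)
  have : p ≤ 7 := by omega
  interval_cases p <;> simp_all

set_option maxHeartbeats 2000000 in
theorem outcome_square (hS : IsPGroup p S) (hF : F.IsSaturated p) (hp2 : p ≠ 2) (hp7 : p ≠ 7)
    (hcard : Nat.card S = p ^ 5)
    (hna : ∀ B : Subgroup Ω, B ≤ S → IsMulCommutative B → Nat.card B ≠ p ^ 4)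
    (hE : F.IsEssential p E) (hcE : Nat.card E = p ^ 2) : Outcome F p E := by
  have hfin : Finite E := ess_finite hE
  have hES : E ≤ S := hE.1.1
  have hlt := ess_lt hS hF hE
  have hEp : IsPGroup p E := hS.to_le hES
  have hCE := centric_centralizerIn_le hE.1
  have hab : ∀ u v : E, u * v = v * u := comm_of_card_le hEp hcE.le
  have hexp := elementary_of_small hS hE hab (by norm_num) hcE
  -- a central element
  have : Nontrivial S := Finite.one_lt_card_iff_nontrivial.1 (hcard ▸ Nat.one_lt_pow (by norm_num) hp.out.one_lt)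
  obtain ⟨⟨zS, hzS⟩, hzS1⟩ := Subgroup.ne_bot_iff_exists_ne_one.1
    ((Subgroup.nontrivial_iff_ne_bot _).1 hS.center_nontrivial)
  have hzc : ∀ s ∈ S, s * (zS : Ω) = zS * s := fun s hs =>
    congrArg Subtype.val (Subgroup.mem_center_iff.1 hzS ⟨s, hs⟩)
  have hzE : (zS : Ω) ∈ E := hCE ⟨zS.2, fun v hv => hzc v (hES hv)⟩
  set z : E := ⟨zS, hzE⟩ with hz
  have hz1 : z ≠ 1 := fun h => hzS1 (Subtype.ext (Subtype.ext (congrArg (fun w : E => (w : Ω)) h)))
  set N := normalizerIn S E with hNdef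
  have hNS : N ≤ S := normalizerIn_le
  have hEN : E ≤ N := le_normalizerIn hES
  have hfinN : Finite N := finite_of_le hNS
  obtain ⟨x₀, hx₀, hx₀E⟩ := exists_mem_normalizer_not_mem hS hlt
  set a := conjAut S E ⟨x₀, hx₀⟩ with ha_def
  have haA : a ∈ autInducedBy S E := conjAut_mem hx₀
  have haI : a ∉ Inn E := conjAut_not_inn hE.1 hx₀ hx₀E
  have ha1 : a ≠ 1 := fun h => haI (h ▸ one_mem _)
  set A := Subgroup.zpowers z with hAdef
  have cardA : Nat.card A = p := by rw [Nat.card_zpowers, orderOf_eq_prime (hexp z) hz1]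
  have hcA : Nat.card E = p * Nat.card A := by rw [hcE, cardA, pow_two]
  have hfixA : ∀ r ∈ autInducedBy S E, ∀ w ∈ A, r w = w := by
    intro r hr w hw
    obtain ⟨s, hs, hsr⟩ := mem_autInducedBy_iff.1 hr
    refine (Subgroup.zpowers_le.2 (show z ∈ fixSub r from Subtype.ext ?_)) hw
    show ((r z : E) : Ω) = z
    rw [hsr]
    show s * (zS : Ω) * s⁻¹ = zS
    rw [hzc s hs, mul_inv_cancel_right]
  have hstep : ∀ r ∈ autInducedBy S E, ∀ w : E, w⁻¹ * r w ∈ A := fun r hr w =>
    (pel_induced hS hr).step (le_top : A ≤ ⊤) (by rw [Subgroup.card_top, hcA])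
      (fun u hu => by rw [hfixA r hr u hu]; exact hu) (fun _ _ => Subgroup.mem_top _) w (Subgroup.mem_top w)
  have hal := hstep a haA
  have hcm : ∀ {Q : Subgroup E}, ∀ b ∈ (⊤ : Subgroup E), ∀ u ∈ Q, b * u * b⁻¹ ∈ Q := fun b _ u hu => by
    rw [hab b u, mul_inv_cancel_right]; exact hu
  obtain ⟨e, -, heA⟩ := SetLike.exists_of_lt (lt_top_iff_ne_top.2 fun h : A = ⊤ => by
    rw [h, Subgroup.card_top, hcE] at cardA
    exact (lt_self_pow₀ hp.out.one_lt (by norm_num : 1 < 2)).ne' cardA)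
  have hext : ∀ f f' : MulAut E, (∀ w ∈ A, f w = f' w) → f e = f' e → f = f' := by
    intro f f' hA he
    refine MulEquiv.ext fun w => ?_
    obtain ⟨i, hi⟩ := coord le_top hcm (by rw [Subgroup.card_top, hcA]) (Subgroup.mem_top e) heA
      (Subgroup.mem_top w)
    rw [← mul_inv_cancel_left (e ^ i) w, map_mul f, map_mul f', hA _ hi, map_pow f, map_pow f', he]
  have toNat : ∀ {u w : E}, w ∈ Subgroup.zpowers u → ∃ i : ℕ, u ^ i = w := fun h =>
    Submonoid.mem_powers_iff _ _ |>.1 (mem_powers_iff_mem_zpowers.2 h)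
  obtain ⟨k, hk⟩ := toNat (hal e)
  have hk0 : (k : ZMod p) ≠ 0 := fun h => ha1 (hext a 1 (fun w hw => hfixA a haA w hw) (by
    rw [pow_congr (hexp z) (j := 0) (by simpa using h), pow_zero] at hk
    exact (inv_mul_eq_one.1 hk.symm).symm))
  have hapow : ∀ n : ℕ, (a ^ n) e = e * z ^ (k * n) := by
    intro n
    induction n with
    | zero => simp
    | succ n ih =>
      rw [pow_succ', MulAut.mul_apply, ih, map_mul, map_pow, hfixA a haA z (Subgroup.mem_zpowers z),
        show a e = e * z ^ k by rw [hk, mul_inv_cancel_left], mul_assoc, ← pow_add]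
      ring_nf
  have hR : ∀ r ∈ autInducedBy S E, ∃ i : ℕ, r = a ^ i := by
    intro r hr
    obtain ⟨i, hi⟩ := toNat (hstep r hr e)
    refine ⟨((i : ZMod p) * (k : ZMod p)⁻¹).val, hext _ _ (fun w hw => ?_) ?_⟩
    · rw [hfixA r hr w hw, hfixA _ (pow_mem haA _) w hw]
    · rw [hapow, show r e = e * z ^ i by rw [hi, mul_inv_cancel_left]]
      congr 1
      refine pow_congr (hexp z) ?_
      push_cast [ZMod.natCast_zmod_val]
      field_simp
  have hap : a ^ p = 1 := hext _ 1 (fun w hw => hfixA _ (pow_mem haA p) w hw) (by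
    rw [hapow, mul_comm, pow_mul, hexp, one_pow, mul_one]; rfl)
  have hcR : Nat.card (autInducedBy S E) = p := by
    have h : autInducedBy S E = Subgroup.zpowers a := le_antisymm
      (fun r hr => by obtain ⟨i, rfl⟩ := hR r hr; exact pow_mem (Subgroup.mem_zpowers a) i)
      (Subgroup.zpowers_le.2 haA)
    rw [h, Nat.card_zpowers, orderOf_eq_prime hap ha1]
  have hcN : Nat.card N = p ^ 3 := by
    have h := card_autInducedBy_mul' (S := S) (P := E)
    have hCeq : centralizerIn S E = E := le_antisymm hCE fun w hw =>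
      ⟨hES hw, fun u hu => congrArg Subtype.val (hab ⟨u, hu⟩ ⟨w, hw⟩)⟩
    rw [hCeq, hcR, hcE] at h
    rw [← h, pow_succ' p 2]
  have hNab : ¬ ∀ u w : N, u * w = w * u := fun h =>
    hx₀E (hCE ⟨hNS hx₀, fun v hv => congrArg Subtype.val (h ⟨v, hEN hv⟩ ⟨x₀, hx₀⟩)⟩)
  have hCN : ∀ {Q : Subgroup Ω}, E ≤ Q → centralizerIn S Q ≤ Q := fun {Q} hQ s hs =>
    hQ (hCE ⟨hs.1, fun v hv => hs.2 v (hQ hv)⟩)
  have hNlt : N < S := lt_of_le_of_ne hNS fun h => by
    rw [h, hcard] at hcN
    exact (Nat.pow_lt_pow_right hp.out.one_lt (by norm_num : 3 < 5)).ne' hcN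
  set N₂ := normalizerIn S N with hN2def
  have hN2S : N₂ ≤ S := normalizerIn_le
  have hfin2 : Finite N₂ := finite_of_le hN2S
  have hN2p : IsPGroup p N₂ := hS.to_le hN2S
  have hcN2 : Nat.card N₂ = p ^ 4 := by
    refine card_eq_of_bounds (IsPGroup.iff_card.1 hN2p) ?_ ?_
    · obtain ⟨m, hm⟩ := IsPGroup.iff_card.1 hN2p
      have h := card_lt_card (lt_normalizerIn hS hNlt)
      rw [hcN, hm] at h
      rw [hm]
      exact Nat.pow_le_pow_right hp.out.pos ((Nat.pow_lt_pow_iff_right hp.out.one_lt).1 h)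
    · rw [← hcard]
      exact card_lt_card (lt_of_le_of_ne hN2S fun h =>
        heisenberg_sub hS hcard hNS h hcN hNab (hCN hEN))
  have hNfn : F.IsFullyNormalized N := by
    refine ⟨hNS, fun Q hQ => ?_⟩
    have hQS := (isConj_le hQ).2
    have hfinQ : Finite Q := finite_of_le hQS
    have hfinQ2 : Finite (normalizerIn S Q) := finite_of_le normalizerIn_le
    rw [show Nat.card (normalizerIn S N) = p ^ 4 from hcN2]
    by_contra hlt4
    have heq : normalizerIn S Q = S := by
      refine eq_of_le_card normalizerIn_le ?_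
      obtain ⟨m, hm⟩ := IsPGroup.iff_card.1 (hS.to_le (normalizerIn_le : normalizerIn S Q ≤ S))
      rw [hm] at hlt4 ⊢
      rw [hcard]
      push Not at hlt4
      exact Nat.pow_le_pow_right hp.out.pos ((Nat.pow_lt_pow_iff_right hp.out.one_lt).1 hlt4)
    obtain ⟨φ, hφ, hφQ⟩ := isConj_iff_map.1 hQ
    refine heisenberg_sub hS hcard hQS heq ((isConj_card hQ).trans hcN) ?_ ?_
    · intro h
      refine hNab fun u w => Subtype.ext ?_
      refine hφ.inj (mul_mem u.2 w.2) (mul_mem w.2 u.2) ?_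
      show φ ((u : Ω) * w) = φ ((w : Ω) * u)
      rw [hφ.map_mul u.2 w.2, hφ.map_mul w.2 u.2]
      exact congrArg Subtype.val (h ⟨φ u, hφQ ▸ mem_img_self φ u.2⟩ ⟨φ w, hφQ ▸ mem_img_self φ w.2⟩)
    · intro s hs
      have hEQ : img φ E ≤ Q := hφQ ▸ img_mono φ hEN
      exact hEQ (hE.1.2 _ (hφ.restrict hEN).isConj ⟨hs.1, fun v hv => hs.2 v (hEQ hv)⟩)
  have hNne : ¬ F.IsEssential p N := not_essential_cubic_nonabelian hS hF hp2 hcard hna hcN hNab
  have hN2Z : Nat.card (Subgroup.center N₂) = p := by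
    refine le_antisymm ?_ (card_center_pos hN2p (by norm_num) hcN2)
    have hNN2 : N ≤ N₂ := le_normalizerIn hNS
    have hle : ∀ w ∈ Subgroup.center N₂, ∃ hw : (w : Ω) ∈ E, (⟨w, hw⟩ : E) ∈ A := by
      intro w hw
      have hwE : (w : Ω) ∈ E := hCE ⟨hN2S w.2, fun v hv =>
        congrArg Subtype.val (Subgroup.mem_center_iff.1 hw ⟨v, hNN2 (hEN hv)⟩)⟩
      refine ⟨hwE, ?_⟩
      by_contra hwA
      set wE : E := ⟨w, hwE⟩
      have hfix : a wE = wE := by
        refine Subtype.ext ?_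
        show x₀ * (w : Ω) * x₀⁻¹ = w
        rw [show x₀ * (w : Ω) = w * x₀ from
          congrArg Subtype.val (Subgroup.mem_center_iff.1 hw ⟨x₀, hNN2 hx₀⟩), mul_inv_cancel_right]
      refine ha1 (MulEquiv.ext fun u => ?_)
      obtain ⟨i, hi⟩ := coord le_top hcm (by rw [Subgroup.card_top, hcA]) (Subgroup.mem_top wE) hwA
        (Subgroup.mem_top u)
      show a u = u
      rw [← mul_inv_cancel_left (wE ^ i) u, map_mul, map_pow, hfix, hfixA a haA _ hi]
    calc Nat.card (Subgroup.center N₂) ≤ Nat.card A :=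
          Nat.card_le_card_of_injective (fun w => ⟨⟨w.1, (hle w w.2).1⟩, (hle w w.2).2⟩)
            fun u v h => Subtype.ext (Subtype.ext (congrArg (fun w : A => ((w : E) : Ω)) h))
      _ = p := cardA
  have htr := fun g hg hgY => transvection hS hF hE hab hexp haA ha1 hR hcA (hfixA a haA)
    (Subgroup.mem_zpowers z) hal (g := g) hg hgY
  refine ⟨?_, fun T hT hY => moved_transv hS hF hp2 hE haA haI hal ?_ hY fun g hg hgY => ?_⟩
  swap
  · have h1 : (e⁻¹ * a e : E) ∈ T.subgroupOf E := by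
      rw [Subgroup.mem_subgroupOf]
      have h2 : ((e⁻¹ * a e : E) : Ω) = ⁅(e : Ω)⁻¹, x₀⁆ := by
        rw [commutatorElement_def, inv_inv, Subgroup.coe_mul, Subgroup.coe_inv,
          show ((a e : E) : Ω) = x₀ * e * x₀⁻¹ from rfl]
        simp [mul_assoc]
      rw [h2]
      exact hT _ (inv_mem (hES e.2)) _ (hNS hx₀)
    rw [← hk] at h1
    obtain ⟨v, hv⟩ : ∃ v : ℕ, ((k * v : ℕ) : ZMod p) = ((1 : ℕ) : ZMod p) :=
      ⟨((k : ZMod p))⁻¹.val, by push_cast; rw [ZMod.natCast_zmod_val, mul_inv_cancel₀ hk0]⟩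
    have h3 := pow_mem h1 v
    rw [← pow_mul, pow_congr (hexp z) hv, pow_one] at h3
    exact h3
  swap
  · obtain ⟨γ, hγY, -, -, -, hγd, -⟩ := (htr g hg hgY).2.2 (-1) (neg_ne_zero.2 one_ne_zero)
    exact ⟨γ, hγY, by rw [hγd, neg_one_pow_eq_inv (hexp _)]⟩
  obtain ⟨g, hg, hgY⟩ := exists_not_ext hS hF hE
  obtain ⟨hdA, -, hγ⟩ := htr g hg hgY
  obtain ⟨d, hd⟩ : ∃ d, d = g z := ⟨_, rfl⟩
  rw [← hd] at hdA hγ
  let incl : E →* S := Subgroup.inclusion hES
  have incl_inj : Function.Injective incl := Subgroup.inclusion_injective hES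
  have hzS' : incl z ∈ Subgroup.center S := by
    rw [Subgroup.mem_center_iff]
    exact fun s => Subtype.ext (hzc s s.2)
  have hCd : Nat.card (Subgroup.centralizer ({incl d} : Set S)) = p ^ 2 := by
    have : Subgroup.centralizer ({incl d} : Set S) = E.subgroupOf S := by
      refine le_antisymm (fun s hs => ?_) fun s hs => ?_
      · rw [Subgroup.mem_centralizer_singleton_iff] at hs
        refine hCE ⟨s.2, fun v hv => ?_⟩
        obtain ⟨i, hi⟩ := coord le_top hcm (by rw [Subgroup.card_top, hcA]) (Subgroup.mem_top d) hdA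
          (Subgroup.mem_top (⟨v, hv⟩ : E))
        obtain ⟨j, hj⟩ := toNat hi
        have hsd : Commute ((d : E) : Ω) (s : Ω) := (congrArg Subtype.val hs).symm
        have hsz : Commute (zS : Ω) (s : Ω) := (hzc s s.2).symm
        have hv' : v = (d : Ω) ^ i * (zS : Ω) ^ j := by
          have h := congrArg (fun w : E => ((d : Ω) ^ i * (w : Ω))) hj
          simp only [SubgroupClass.coe_pow, Subgroup.coe_mul, Subgroup.coe_inv, mul_inv_cancel_left] at h
          exact h.symm
        rw [hv']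
        exact ((hsd.pow_left i).mul_left (hsz.pow_left j)).eq
      · rw [Subgroup.mem_centralizer_singleton_iff]
        exact Subtype.ext (congrArg Subtype.val (hab ⟨s, hs⟩ d) :)
    rw [this, Nat.card_congr (Subgroup.subgroupOfEquivOfLe hES).toEquiv, hcE]
  obtain ⟨-, -, hpow, hfix3⟩ := core2 hcard (hna_sub hna) hCd
  refine hfix3 (prime_eq_three hp2 hp7 fun u hu => ?_)
  obtain ⟨γ, -, β, hβ, hβe, hγd, hγz, -, -⟩ := hγ u hu
  obtain ⟨β₂, hβ₂, hβ₂e⟩ := extend_of_not_essential hS hF hNlt hNfn hNne (k := 3) hcN hcN2 hβ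
  obtain ⟨f, -, hfe⟩ := extend_max hS hF hN2S hcard hcN2 (not_essential_small_center hS hcN2 hN2Z) hβ₂
  have hfincl : ∀ w : E, f (incl w) = incl (γ w) := by
    intro w
    refine Subtype.ext ?_
    have h1 := hfe w (le_normalizerIn hNS (hEN w.2))
    rw [hβ₂e w (hEN w.2), hβe w, show autFun f (w : Ω) = ((f (incl w) : S) : Ω) from autFun_apply f (incl w)] at h1
    exact h1
  have h := hpow f u.val (u⁻¹).val (incl z)
    (by rw [hfincl, hγd, map_pow, inv_mul_cancel]; exact one_mem _) hzS'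
    (fun h => hz1 (incl_inj (h.trans (map_one incl).symm))) (by rw [hfincl, hγz, map_pow])
  rw [ZMod.natCast_zmod_val, ZMod.natCast_zmod_val] at h
  calc u ^ 6 = u * u ^ 5 := by ring
    _ = 1 := by rw [← h, mul_inv_cancel₀ hu]

end Cfsg.Agent.GStructB.P5
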